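import Cfsg.Agent.Classical.ExtFieldOrth.ThreeSetup

/-! Unipotent elements with blocks of size three preserve only subspaces of dimension divisible by three. -/

set_option autoImplicit false
set_option linter.unusedSectionVars false

namespace Cfsg.Lib.Classical.ExtFieldOrth

open Module Cfsg.Lib.Classical

variable {F V : Type*} [Field F] [AddCommGroup V] [Module F V] [FiniteDimensional F V]

/-- If the kernel of `E` is the range of its square, three divides the dimension. -/
theorem three_dvd_finrank (E : Module.End F V) (h : LinearMap.ker E = LinearMap.range (E ∘ₗ E)) :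
    3 ∣ finrank F V := by
  have h1 := LinearMap.finrank_range_add_finrank_ker E
  let E' : LinearMap.range E →ₗ[F] V := E ∘ₗ (LinearMap.range E).subtype
  have h2 := LinearMap.finrank_range_add_finrank_ker E'
  have hr : LinearMap.range E' = LinearMap.range (E ∘ₗ E) := by
    rw [LinearMap.range_comp, Submodule.range_subtype, LinearMap.range_comp]
  have hle : LinearMap.ker E ≤ LinearMap.range E := by
    rw [h]
    exact LinearMap.range_comp_le_range E E
  have hk : finrank F (LinearMap.ker E') = finrank F (LinearMap.ker E) := by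
    rw [LinearMap.ker_comp]
    exact (Submodule.comapSubtypeEquivOfLe hle).finrank_eq
  rw [hr, hk, ← h] at h2
  omega

/-- An element whose displacement has blocks of size three, preserving a subspace with an invariant complement. -/
theorem three_dvd_of_blocks (f : LinearMap.BilinForm F V) (C : Submodule F V) (hC : ∀ z, ∃ z1 ∈ C, ∀ w ∈ C, f (z - z1) w = 0)
    (hnd : ∀ w ∈ C, (∀ u ∈ C, f w u = 0) → w = 0) (w0 : V ≃ₗ[F] V) (hiso : ∀ a b, f (w0 a) (w0 b) = f a b)
    (hinv : ∀ w ∈ C, w0 w ∈ C) (hinv' : ∀ w ∈ C, (w0⁻¹ : V ≃ₗ[F] V) w ∈ C)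
    (hker : LinearMap.ker (w0.toLinearMap - LinearMap.id) =
      LinearMap.range ((w0.toLinearMap - LinearMap.id) ∘ₗ (w0.toLinearMap - LinearMap.id))) :
    3 ∣ finrank F C := by
  set D := w0.toLinearMap - LinearMap.id with hD
  have hDC : ∀ w ∈ C, D w ∈ C := fun w hw => C.sub_mem (hinv w hw) hw
  have hDperp : ∀ z, (∀ w ∈ C, f z w = 0) → ∀ w ∈ C, f (D z) w = 0 := by
    intro z hz w hw
    show f (w0 z - z) w = 0
    rw [map_sub, LinearMap.sub_apply, hz w hw, sub_zero,
      show f (w0 z) w = f (w0 z) (w0 ((w0⁻¹ : V ≃ₗ[F] V) w)) by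
        rw [show w0 ((w0⁻¹ : V ≃ₗ[F] V) w) = w from w0.apply_symm_apply w],
      hiso, hz _ (hinv' w hw)]
  refine three_dvd_finrank (D.restrict hDC) (le_antisymm ?_ ?_)
  · intro w hw
    have hw' : D (w : V) = 0 := congrArg Subtype.val (LinearMap.mem_ker.mp hw)
    obtain ⟨u, hu⟩ : (w : V) ∈ LinearMap.range (D ∘ₗ D) := hker ▸ LinearMap.mem_ker.mpr hw'
    obtain ⟨u1, hu1, hperp⟩ := hC u
    refine ⟨⟨u1, hu1⟩, Subtype.ext ?_⟩
    show D (D u1) = (w : V)
    have hmem : (w : V) - D (D u1) ∈ C := C.sub_mem w.2 (hDC _ (hDC _ hu1))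
    have e : (w : V) - D (D u1) = D (D (u - u1)) := by rw [map_sub, map_sub, ← hu]; rfl
    refine (sub_eq_zero.mp (hnd _ hmem fun v hv => ?_)).symm
    rw [e]
    exact hDperp _ (fun a ha => hDperp _ hperp a ha) v hv
  · rintro _ ⟨u, rfl⟩
    refine LinearMap.mem_ker.mpr (Subtype.ext ?_)
    show D (D (D (u : V))) = 0
    have : D (D (u : V)) ∈ LinearMap.ker D := hker ▸ ⟨(u : V), rfl⟩
    exact LinearMap.mem_ker.mp this

end Cfsg.Lib.Classical.ExtFieldOrth
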