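import Cfsg.Agent.Classical.ExtFieldOrth.Lines
import Cfsg.Agent.Classical.MaxBridge
import Cfsg.Agent.Classical.Orth.OmegaGen
import Cfsg.Agent.Classical.Orth.FamilyOvergroups
import Cfsg.Agent.Classical.OrthElusive.Bridge

/-! The normaliser of a self-adjoint extension field is maximal in `Ω`. -/

set_option autoImplicit false
set_option linter.unusedSectionVars false

namespace Cfsg.Lib.Classical.ExtFieldOrth

open Module Matrix Cfsg.Lib.Classical
open scoped commutatorElement

section Form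

variable {F L V : Type*} [Field F] [Finite F] [Field L] [Algebra F L] [FiniteDimensional F L]
  [AddCommGroup V] [Module F V] [Module L V] [IsScalarTower F L V] [FiniteDimensional F V]

/-- Self-adjoint scalars: a symmetric form is the trace of a symmetric form over the extension. -/
theorem exists_symm_trace_form {f : LinearMap.BilinForm F V} (hf : SymSpace f)
    (hsa : ∀ (c : L) (u v : V), f (c • u) v = f u (c • v)) :
    ∃ G : LinearMap.BilinForm L V, SymSpace G ∧ ∀ u v, f u v = Algebra.trace F L (G u v) := by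
  let D := (Algebra.traceForm F L).toDual (traceForm_nondegenerate F L)
  let Φ : V → V → L := fun u v =>
    D.symm ((f.flip v).comp ((LinearMap.toSpanSingleton L V u).restrictScalars F))
  have hΦ : ∀ u v (c : L), Algebra.trace F L (c * Φ u v) = f (c • u) v := fun u v c => by
    rw [mul_comm, ← Algebra.traceForm_apply, LinearMap.BilinForm.apply_toDual_symm_apply]
    rfl
  let G : LinearMap.BilinForm L V := LinearMap.mk₂ L Φ
    (fun u₁ u₂ v => eq_of_trace (F := F) fun c => by
      rw [mul_add, map_add, hΦ, hΦ, hΦ, smul_add, map_add, LinearMap.add_apply])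
    (fun s u v => eq_of_trace (F := F) fun c => by
      rw [hΦ, smul_eq_mul, ← mul_assoc, hΦ, ← smul_smul])
    (fun u v₁ v₂ => eq_of_trace (F := F) fun c => by
      rw [mul_add, map_add, hΦ, hΦ, hΦ, map_add])
    (fun s u v => eq_of_trace (F := F) fun c => by
      rw [hΦ, smul_eq_mul, ← mul_assoc, hΦ, ← hsa, smul_smul, mul_comm s c])
  have htr : ∀ u v, f u v = Algebra.trace F L (G u v) := fun u v => by
    have h := hΦ u v 1
    rw [one_mul, one_smul] at h
    exact h.symm
  refine ⟨G, ⟨fun u v => eq_of_trace (F := F) fun c => ?_,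
    fun u hu => hf.nondeg u fun v => by rw [htr, hu, map_zero], two_ne hf.two⟩, htr⟩
  show Algebra.trace F L (c * Φ u v) = Algebra.trace F L (c * Φ v u)
  rw [hΦ, hΦ, hsa, hf.symm]

/-- A Siegel map of the base form which is not semilinear. -/
theorem Over.exists_siegel_not_semi {G : LinearMap.BilinForm L V} {f : LinearMap.BilinForm F V}
    {H : Subgroup (V ≃ₗ[F] V)} (hO : Over L G f H) :
    ∃ (u z : V) (hu : f u u = 0) (hz : f u z = 0), ¬ Semi L (sgE hO.sf hu hz) := by
  have := hO.finV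
  have := hO.finiteL
  obtain ⟨x, -, hx0, hx⟩ := hO.sG.exists_singular_mem ⊤ (by rw [finrank_top]; exact hO.three_le)
  obtain ⟨x', hx', hxx'⟩ := hO.sG.exists_partner hx0 hx
  have T : Frame L G f H x x' := ⟨hO, hx, hx', hxx'⟩
  obtain ⟨w, hw, hww⟩ := T.exists_aniso
  have hxx : f x x = 0 := by rw [hO.trace, hx, map_zero]
  have hxw : f x w = 0 := by rw [hO.trace, hO.sG.symm, hw.1, map_zero]
  refine ⟨x, w, hxx, hxw, fun hS => ?_⟩
  have hline : ∀ a : L, sg f x w (a • x) = a • x := fun a => by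
    have h1 : f (a • x) x = 0 := by rw [hO.trace]; simp [hx]
    have h2 : f (a • x) w = 0 := by rw [hO.sf.symm]; exact T.f_w_line hw a
    simp [sg, h1, h2]
  have hW : ∀ a : L, sg f x w (a • w) = a • w - Algebra.trace F L (a * G w w) • x := fun a => by
    have h1 : f (a • w) x = 0 := by rw [hO.trace]; simp [hw.1]
    have h2 : f (a • w) w = Algebra.trace F L (a * G w w) := by rw [hO.trace]; simp
    simp [sg, h1, h2]
  have hlin : ∀ a : L, Algebra.trace F L (a * G w w) • x = a • Algebra.trace F L (G w w) • x := by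
    intro a
    obtain ⟨b, hb⟩ := hS a
    simp only [sgE_apply] at hb
    have hab : b = a := by
      have h := hb x
      have h1 := hline 1
      rw [one_smul] at h1
      rw [hline, h1] at h
      exact (smul_left_injective L hx0 h).symm
    have h := hb w
    have h1 := hW 1
    rw [one_smul, one_mul] at h1
    rw [hW, h1, hab, smul_sub, sub_right_inj] at h
    exact h
  have hlin' : ∀ a : L, algebraMap F L (Algebra.trace F L (a * G w w)) = a * algebraMap F L (Algebra.trace F L (G w w)) := by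
    intro a
    refine smul_left_injective L hx0 ?_
    show algebraMap F L _ • x = (a * algebraMap F L _) • x
    rw [mul_smul, algebraMap_smul, algebraMap_smul, hlin]
  obtain ⟨d, -, hdF⟩ := exists_sq_notMem hO.two hO.prime.two_le
  have ht0 : Algebra.trace F L (G w w) = 0 := by
    by_contra ht
    refine hdF ⟨Algebra.trace F L (d ^ 2 * G w w) / Algebra.trace F L (G w w), ?_⟩
    rw [map_div₀, hlin', mul_div_cancel_right₀ _ ((map_ne_zero _).mpr ht)]
  refine hww (eq_of_trace (F := F) fun a => ?_)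
  rw [mul_zero, map_zero]
  exact (algebraMap F L).injective (by rw [hlin', ht0, map_zero, mul_zero])

end Form

open Cfsg.Lib.Classical.Refl

theorem maximal_of_field {F : Type*} [Field F] [Fintype F] {ι : Type} [Fintype ι] [DecidableEq ι]
    (h2 : (2 : F) ≠ 0) (P : QuadraticForm F (ι → F)) (hP : (QuadraticMap.polarBilin P).Nondegenerate)
    {K : Subalgebra F (Matrix ι ι F)} {L : Type*} [Field L] [Algebra F L] [Module L (ι → F)]
    (hfd : FiniteDimensional F L) (hT : IsScalarTower F L (ι → F)) (emb : L → Matrix ι ι F)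
    (hι : ∀ (a : L) (z : ι → F), a • z = emb a *ᵥ z) (hmemι : ∀ a, emb a ∈ K) (hsurj : ∀ k ∈ K, ∃ a, emb a = k)
    (hr : (finrank F L).Prime) (hsa : Cfsg.Geo.IsSelfAdjointFor (QuadraticMap.polar (⇑P)) K)
    (harith : ∀ d : ℕ, finrank F L * d = Fintype.card ι → 3 ≤ d ∧ (finrank F L = 2 → 4 ≤ d)) :
    Cfsg.Geo.IsMaximalIn (Cfsg.Geo.omegaGL (⇑P))
      (Cfsg.Geo.subalgebraNormalizer K ⊓ Cfsg.Geo.omegaGL (⇑P)) := by
  classical
  obtain ⟨hdim, h5⟩ := harith (finrank L (ι → F))
    (by rw [← finrank_fintype_fun_eq_card F (η := ι)]; exact finrank_mul_finrank F L (ι → F))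
  let f : LinearMap.BilinForm F (ι → F) := QuadraticMap.polarBilin P
  have hf : ∀ u v, f u v = QuadraticMap.polar (⇑P) u v := fun u v => rfl
  have hfs : SymSpace f := ⟨fun u v => by rw [hf, hf, QuadraticMap.polar_comm], fun u hu => hP.1 u hu, h2⟩
  obtain ⟨G, hG, htr⟩ := exists_symm_trace_form (L := L) hfs (fun c u v => by
    rw [hι, hι]; exact hsa _ (hmemι c) u v)
  set e := linToGL ι F
  have he : ∀ g z, ((e g : GL ι F) : Matrix ι ι F) *ᵥ z = g z := fun g z => linToGL_mulVec g z
  have hQ2 : ∀ u, f u u = 2 * P u := fun u => by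
    rw [hf, QuadraticMap.polar_self]; simp [two_mul, two_smul]
  -- semilinear maps and the normaliser
  have hconj : ∀ g : (ι → F) ≃ₗ[F] (ι → F), Semi L g → ∀ k ∈ K,
      ((e g : GL ι F) : Matrix ι ι F) * k * (((e g)⁻¹ : GL ι F) : Matrix ι ι F) ∈ K := by
    intro g hg k hk
    obtain ⟨a, rfl⟩ := hsurj k hk
    obtain ⟨b, hb⟩ := hg a
    have h : ((e g : GL ι F) : Matrix ι ι F) * emb a = emb b * (e g : GL ι F) := by
      refine Matrix.toLin'.injective (LinearMap.ext fun z => ?_)
      have := hb z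
      rw [hι, hι, ← he, ← he g z, mulVec_mulVec, mulVec_mulVec] at this
      simpa using this
    rw [h, mul_assoc, ← Units.val_mul, mul_inv_cancel, Units.val_one, mul_one]
    exact hmemι b
  have hsemi : ∀ g : (ι → F) ≃ₗ[F] (ι → F), e g ∈ Cfsg.Geo.subalgebraNormalizer K ↔ Semi L g := by
    intro g
    constructor
    · intro hg a
      obtain ⟨b, hb⟩ := hsurj _ ((hg (emb a)).mp (hmemι a))
      refine ⟨b, fun z => ?_⟩
      rw [hι, hι, hb, ← he, ← he g z, mulVec_mulVec, mulVec_mulVec,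
        mul_assoc _ _ ((e g : GL ι F) : Matrix ι ι F),
        ← Units.val_mul, inv_mul_cancel, Units.val_one, mul_one]
    · intro hg k
      refine ⟨hconj g hg k, fun h => ?_⟩
      have h' := hconj g⁻¹ hg.inv' _ h
      rw [map_inv, inv_inv] at h'
      simpa [← mul_assoc, mul_assoc _ _ ((e g : GL ι F) : Matrix ι ι F), ← Units.val_mul] using h'
  have homega : ∀ g : (ι → F) ≃ₗ[F] (ι → F), e g ∈ Cfsg.Geo.omegaGL (⇑P) →
      (∀ u v, f (g u) (g v) = f u v) ∧ LinearMap.det (g : (ι → F) →ₗ[F] (ι → F)) = 1 := by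
    intro g hg
    obtain ⟨x, hxO, hx⟩ := hg
    constructor
    · have hQ : ∀ u, P (g u) = P u := fun u => by
        rw [← he, ← hx]
        exact x.2 u u
      intro u v
      rw [hf, hf, QuadraticMap.polar, QuadraticMap.polar, ← map_add g, hQ, hQ, hQ]
    · have hd : Matrix.GeneralLinearGroup.det (e g) = 1 := by
        rw [← hx]
        exact (Abelianization.commutator_subset_ker
          (Matrix.GeneralLinearGroup.det.comp (Cfsg.isometryGroup F (⇑P)).subtype)) hxO
      have hmat : Matrix.toLin' ((e g : GL ι F) : Matrix ι ι F) = (g : (ι → F) →ₗ[F] (ι → F)) :=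
        LinearMap.ext fun z => by rw [Matrix.toLin'_apply, he]; rfl
      rw [← hmat, LinearMap.det_toLin', ← Matrix.GeneralLinearGroup.val_det_apply, hd, Units.val_one]
  have hisom : ∀ a : (ι → F) ≃ₗ[L] (ι → F), (∀ u v, G (a u) (a v) = G u v) →
      e (resHom a) ∈ Cfsg.isometryGroup F (⇑P) := by
    intro a ha u v
    show P (((e (resHom a) : GL ι F) : Matrix ι ι F) *ᵥ u) = P u
    rw [he, resHom_apply]
    refine mul_left_cancel₀ h2 ?_
    rw [← hQ2, ← hQ2, htr, htr, ha]
  have hcomm : ∀ a b : (ι → F) ≃ₗ[L] (ι → F), (∀ u v, G (a u) (a v) = G u v) → (∀ u v, G (b u) (b v) = G u v) →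
      e (resHom ⁅a, b⁆) ∈ Cfsg.Geo.subalgebraNormalizer K ⊓ Cfsg.Geo.omegaGL (⇑P) := by
    intro a b ha hb
    refine ⟨(hsemi _).mpr (isLin_resHom ⁅a, b⁆).semi, ⟨⁅(⟨_, hisom a ha⟩ : Cfsg.isometryGroup F (⇑P)),
      ⟨_, hisom b hb⟩⁆, Subgroup.commutator_mem_commutator (Subgroup.mem_top _) (Subgroup.mem_top _), ?_⟩⟩
    rw [map_commutatorElement, map_commutatorElement, map_commutatorElement]
    rfl
  have hsieg : ∀ (u z : ι → F) (hu : f u u = 0) (hz : f u z = 0) (hu' : P u = 0)
      (hz' : QuadraticMap.polar (⇑P) u z = 0) (h : (ι → F) ≃ₗ[F] (ι → F)), (∀ v, h v = sg f u z v) →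
      e h = (siegelG P hu' hz' : GL ι F) := by
    intro u z hu hz hu' hz' h hh
    refine Units.ext (Matrix.toLin'.injective (LinearMap.ext fun v => ?_))
    rw [Matrix.toLin'_apply, Matrix.toLin'_apply, he, hh]
    refine Eq.trans ?_ (mat_siegelG P hu' hz' v).symm
    rw [sg, siegelMap, hQ2, mul_div_cancel_left₀ _ h2, hf, hf, QuadraticMap.polar_comm _ v u,
      QuadraticMap.polar_comm _ v z]
    module
  have hn5 : 5 ≤ Fintype.card ι := by
    rw [← finrank_fintype_fun_eq_card F (η := ι), ← finrank_mul_finrank F L (ι → F)]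
    have := hr.two_le
    calc 5 ≤ 2 * 3 := by omega
      _ ≤ _ := Nat.mul_le_mul this hdim
  have hn6 : 6 ≤ Fintype.card ι := by
    rw [← finrank_fintype_fun_eq_card F (η := ι), ← finrank_mul_finrank F L (ι → F)]
    have := hr.two_le
    calc 6 ≤ 2 * 3 := by omega
      _ ≤ _ := Nat.mul_le_mul this hdim
  have hsm : ∀ M : Subgroup (GL ι F), Cfsg.Geo.subalgebraNormalizer K ⊓ Cfsg.Geo.omegaGL (⇑P) ≤ M →
      M ≤ Cfsg.Geo.omegaGL (⇑P) → ∀ g ∈ M.comap e.toMonoidHom, ∀ n : (ι → F) ≃ₗ[F] (ι → F), Semi L (g * n) →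
      (∀ u v, f (n u) (n v) = f u v) → (∃ j, Odd j ∧ n ^ j = 1) → n ∈ M.comap e.toMonoidHom := by
    intro M h1 h2' g hg n hs hn ⟨j, hj, hnj⟩
    have hΩ : e n ∈ Cfsg.Geo.omegaGL (⇑P) := by
      refine Cfsg.Lib.OrthEl.mem_omega_odd_order hP hn6 (e n) (fun v => ?_) hj (by rw [← map_pow, hnj, map_one])
      refine mul_left_cancel₀ h2 ?_
      rw [he, ← hQ2, ← hQ2, hn]
    have hgn : e (g * n) ∈ M := h1 ⟨(hsemi _).mpr hs, by rw [map_mul]; exact mul_mem (h2' hg) hΩ⟩
    have : e g * e n ∈ M := by rwa [← map_mul]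
    exact (Subgroup.mul_mem_cancel_left M hg).mp this
  have hOver : ∀ M : Subgroup (GL ι F), Cfsg.Geo.subalgebraNormalizer K ⊓ Cfsg.Geo.omegaGL (⇑P) ≤ M →
      M ≤ Cfsg.Geo.omegaGL (⇑P) → Over L G f (M.comap e.toMonoidHom) := fun M h1 h2' =>
    ⟨hr, hG, hfs, htr, fun g hg => (homega g (h2' hg)).1, fun g hg => (homega g (h2' hg)).2,
      fun a b ha hb => h1 (hcomm a b ha hb), hdim, h5, hsm M h1 h2'⟩
  refine ⟨lt_of_le_of_ne inf_le_right fun heq => ?_, fun M hNM hMO => ?_⟩
  · have hO := hOver _ le_rfl inf_le_right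
    obtain ⟨u, z, hu, hz, hns⟩ := hO.exists_siegel_not_semi
    have hu' : P u = 0 := by
      have := hu
      rw [hQ2, mul_eq_zero] at this
      exact this.resolve_left h2
    refine hns ((hsemi _).mp ?_)
    rw [hsieg u z hu hz hu' hz _ fun v => rfl]
    exact ((SetLike.ext_iff.mp heq _).mpr
      (show ((siegelG P hu' hz : Cfsg.isometryGroup F (⇑P)) : GL ι F) ∈ Cfsg.Geo.omegaGL (⇑P) from
        ⟨_, siegelG_mem_omega P hP hn5 hu' hz, rfl⟩)).1
  · by_cases hle : M ≤ Cfsg.Geo.subalgebraNormalizer K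
    · exact Or.inl (le_antisymm (le_inf hle hMO) hNM)
    right
    refine le_antisymm hMO ?_
    obtain ⟨g, hgM, hgN⟩ := SetLike.not_le_iff_exists.mp hle
    obtain ⟨g, rfl⟩ := e.surjective g
    have hO := hOver M hNM hMO
    have hfull : Full f (M.comap e.toMonoidHom) := by
      by_contra hF
      exact hgN ((hsemi g).mpr (hO.all_semi hF (show g ∈ M.comap e.toMonoidHom from hgM)))
    rintro _ ⟨x, hxO, rfl⟩
    rw [SetLike.mem_coe, omega_eq_closure_all P hP hn5] at hxO
    have hle' : Subgroup.closure (siegelAll P) ≤ M.comap (Cfsg.isometryGroup F (⇑P)).subtype := by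
      rw [Subgroup.closure_le]
      rintro _ ⟨u, z, hu, hz, rfl⟩
      have hu2 : f u u = 0 := by rw [hQ2, hu, mul_zero]
      obtain ⟨h, hh, he'⟩ := hfull u z hu2 hz
      show ((siegelG P hu hz : Cfsg.isometryGroup F (⇑P)) : GL ι F) ∈ M
      rw [← hsieg u z hu2 hz hu hz h he']
      exact hh
    exact hle' hxO

/-- The normaliser of a self-adjoint extension field is maximal in `Ω`. -/
theorem maximal {F : Type*} [Field F] [Fintype F] {ι : Type} [Fintype ι] [DecidableEq ι] [Nonempty ι]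
    (hodd : Odd (Fintype.card F)) (P : QuadraticForm F (ι → F)) (hP : (QuadraticMap.polarBilin P).Nondegenerate)
    {r : ℕ} (hr : r.Prime) {K : Subalgebra F (Matrix ι ι F)} (hK : Cfsg.Geo.IsFieldSubalgebra r K)
    (hsa : Cfsg.Geo.IsSelfAdjointFor (QuadraticMap.polar (⇑P)) K)
    (harith : ∀ d : ℕ, r * d = Fintype.card ι → 3 ≤ d ∧ (r = 2 → 4 ≤ d)) :
    Cfsg.Geo.IsMaximalIn (Cfsg.Geo.omegaGL (⇑P))
      (Cfsg.Geo.subalgebraNormalizer K ⊓ Cfsg.Geo.omegaGL (⇑P)) := by
  classical
  have h2 : (2 : F) ≠ 0 := by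
    refine Ring.two_ne_zero fun h => ?_
    replace h : Fintype.card F % 2 = 0 := FiniteField.even_card_iff_char_two.mp h
    rw [Nat.odd_iff] at hodd
    omega
  have hfield : IsField K :=
    ⟨⟨0, 1, fun h => one_ne_zero (congrArg Subtype.val h).symm⟩, fun a b => Subtype.ext (hK.comm a a.2 b b.2),
      fun {a} ha => by
      obtain ⟨b, hb, hab⟩ := hK.inv a a.2 (fun h => ha (Subtype.ext h))
      exact ⟨⟨b, hb⟩, Subtype.ext hab⟩⟩
  let : Field K := hfield.toField
  let : Module K (ι → F) := Module.compHom (ι → F) ((Matrix.toLinAlgEquiv'.toAlgHom.comp K.val).toRingHom)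
  have hsmul : ∀ (k : K) (z : ι → F), k • z = (k : Matrix ι ι F) *ᵥ z := fun k z => rfl
  have hT : IsScalarTower F K (ι → F) :=
    ⟨fun l k z => by rw [hsmul, hsmul, SetLike.val_smul, smul_mulVec]⟩
  have hrk : finrank F K = r := hK.finrank_eq
  have hfd : FiniteDimensional F K := .of_finrank_pos (by rw [hrk]; exact hr.pos)
  exact maximal_of_field (L := K) h2 P hP hfd hT (fun k => (k : Matrix ι ι F)) hsmul (fun k => k.2)
    (fun k hk => ⟨⟨k, hk⟩, rfl⟩) (hrk ▸ hr) hsa (hrk.symm ▸ harith)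

end Cfsg.Lib.Classical.ExtFieldOrth
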