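import Cfsg.Agent.Classical.ExtFieldOrth.Line

/-! Semilinear conjugates of Siegel groups, and Sylow subgroups made of semilinear elements. -/

set_option autoImplicit false
set_option linter.unusedSectionVars false

namespace Cfsg.Lib.Classical.ExtFieldOrth

open Module Cfsg.Lib.Classical

variable {F L V : Type*} [Field F] [Finite F] [Field L] [Algebra F L] [FiniteDimensional F L]
  [AddCommGroup V] [Module F V] [Module L V] [IsScalarTower F L V] [FiniteDimensional F V]

variable {G : LinearMap.BilinForm L V} {f : LinearMap.BilinForm F V} {H : Subgroup (V ≃ₗ[F] V)}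

theorem Semi.exists_aut {h : V ≃ₗ[F] V} (hh : Semi L h) {v : V} (hv : v ≠ 0) :
    ∃ σ : L ≃ₐ[F] L, ∀ (a : L) (z : V), h (a • z) = σ a • h z := by
  choose μ hμ using hh
  have hhv : h v ≠ 0 := fun e => hv (h.injective (by rw [e, map_zero]))
  have inj := smul_left_injective L hhv
  let φ : L →ₐ[F] L :=
    { toFun := μ
      map_one' := inj (show μ 1 • h v = (1 : L) • h v by rw [← hμ, one_smul, one_smul])
      map_mul' := fun a b => inj (show μ (a * b) • h v = (μ a * μ b) • h v by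
        rw [← hμ, mul_smul, mul_smul, hμ, hμ])
      map_zero' := inj (show μ 0 • h v = (0 : L) • h v by rw [← hμ, zero_smul, zero_smul, map_zero])
      map_add' := fun a b => inj (show μ (a + b) • h v = (μ a + μ b) • h v by
        rw [← hμ, add_smul, map_add, hμ, hμ, add_smul])
      commutes' := fun t => inj (show μ (algebraMap F L t) • h v = algebraMap F L t • h v by
        rw [← hμ, algebraMap_smul, algebraMap_smul, map_smul]) }
  have : Finite L := Module.finite_of_finite F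
  exact ⟨AlgEquiv.ofBijective φ (Finite.injective_iff_bijective.mp φ.toRingHom.injective), hμ⟩

theorem Semi.inv' {h : V ≃ₗ[F] V} (hh : Semi L h) : Semi L h⁻¹ := by
  intro a
  by_cases h0 : ∀ v : V, v = 0
  · exact ⟨a, fun z => (h0 _).trans (h0 _).symm⟩
  push Not at h0
  obtain ⟨v, hv⟩ := h0
  obtain ⟨σ, hσ⟩ := hh.exists_aut hv
  refine ⟨σ.symm a, fun z => ?_⟩
  show h.symm (a • z) = _
  rw [LinearEquiv.symm_apply_eq, hσ, σ.apply_symm_apply]
  exact congrArg (a • ·) (h.apply_symm_apply z).symm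

/-- Semilinear elements of `H`. -/
def Over.semiGroup (_hO : Over L G f H) : Subgroup (V ≃ₗ[F] V) where
  carrier := {h | h ∈ H ∧ Semi L h}
  one_mem' := ⟨H.one_mem, fun a => ⟨a, fun _ => rfl⟩⟩
  mul_mem' := fun ha hb => ⟨H.mul_mem ha.1 hb.1, ha.2.mul hb.2⟩
  inv_mem' := fun ha => ⟨H.inv_mem ha.1, ha.2.inv'⟩

theorem Over.semi_form (hO : Over L G f H) {h : V ≃ₗ[F] V} (hh : h ∈ H) {σ : L ≃ₐ[F] L}
    (hσ : ∀ (a : L) (z : V), h (a • z) = σ a • h z) (u v : V) : G (h u) (h v) = σ (G u v) := by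
  refine eq_of_trace (F := F) fun c => ?_
  obtain ⟨b, rfl⟩ := σ.surjective c
  rw [← map_mul σ, Algebra.trace_eq_of_algEquiv, ← smul_eq_mul (σ b), ← LinearMap.smul_apply, ← map_smul, ← hσ,
    ← hO.trace, hO.isom h hh, hO.trace, map_smul, LinearMap.smul_apply, smul_eq_mul]

/-- The elementary abelian group of Siegel maps along `x` with axes on the line of `w`. -/
def Over.usHom (hO : Over L G f H) {x w : V} (hx : G x x = 0) (hxw : G x w = 0) :
    Multiplicative L →* (V ≃ₗ[F] V) where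
  toFun c := resHom (sgE hO.sG hx (z := Multiplicative.toAdd c • w) (by simp [hxw]))
  map_one' := LinearEquiv.ext fun v => by
    show sg G x ((0 : L) • w) v = v
    rw [zero_smul, sg_zero hO.sG]
  map_mul' c d := LinearEquiv.ext fun v => by
    show sg G x ((Multiplicative.toAdd c + Multiplicative.toAdd d) • w) v =
      sg G x (Multiplicative.toAdd c • w) (sg G x (Multiplicative.toAdd d • w) v)
    rw [sg_sg hO.sG hx (by simp [hxw]) (by simp [hxw]), add_smul]

theorem Over.usHom_apply (hO : Over L G f H) {x w : V} (hx : G x x = 0) (hxw : G x w = 0) (c : L) (v : V) :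
    hO.usHom hx hxw (Multiplicative.ofAdd c) v = sg G x (c • w) v := rfl

theorem Over.usHom_mem (hO : Over L G f H) {x w : V} (hx : G x x = 0) (hxw : G x w = 0) (c : Multiplicative L) :
    hO.usHom hx hxw c ∈ H ∧ IsLin L (hO.usHom hx hxw c) :=
  ⟨hO.siegel_mem hx _, isLin_resHom _⟩

theorem Over.usHom_isPGroup (hO : Over L G f H) {x w : V} (hx : G x x = 0) (hxw : G x w = 0) (p : ℕ) [CharP F p] :
    IsPGroup p (hO.usHom hx hxw).range := by
  rintro ⟨_, c, rfl⟩
  refine ⟨1, Subtype.ext ?_⟩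
  haveI : CharP L p := charP_of_injective_algebraMap (algebraMap F L).injective p
  have hc : c ^ p = 1 := Multiplicative.toAdd.injective (by
    rw [toAdd_pow, nsmul_eq_mul, CharP.cast_eq_zero, zero_mul, toAdd_one])
  show hO.usHom hx hxw c ^ p ^ 1 = 1
  rw [pow_one, ← map_pow, hc, map_one]

/-- A linear conjugate of a Siegel map with anisotropic axis forces semilinearity. -/
theorem Over.semi_of_conj_lin (hO : Over L G f H) (hF : ¬ Full f H) {g : V ≃ₗ[F] V} (hg : g ∈ H) {x w : V}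
    (hx0 : x ≠ 0) (hx : G x x = 0) (hxw : G x w = 0) (hww : G w w ≠ 0)
    (hlin : IsLin L (g * resHom (sgE hO.sG hx hxw) * g⁻¹)) : Semi L g := by
  set s : V ≃ₗ[F] V := resHom (sgE hO.sG hx hxw) with hs
  set h := g * s * g⁻¹ with hh
  have hD : ∀ z, s (s z - z) - (s z - z) = (-(G w w * G z x)) • x := fun z => by
    show sg G x w (sg G x w z - z) - (sg G x w z - z) = _
    simp only [sg, map_add, map_sub, map_smul, LinearMap.add_apply, LinearMap.sub_apply, LinearMap.smul_apply,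
      smul_eq_mul, hx, hO.sG.symm w x, hxw]
    match_scalars <;> ring
  have hgD : ∀ u, h (h u - u) - (h u - u) = g ((-(G w w * G ((g⁻¹ : V ≃ₗ[F] V) u) x)) • x) := fun u => by
    obtain ⟨z, rfl⟩ := g.surjective u
    have e : ∀ v, h (g v) = g (s v) := fun v => by
      rw [hh, LinearEquiv.mul_apply, LinearEquiv.mul_apply]
      congr 2
      exact g.symm_apply_apply v
    rw [show (g⁻¹ : V ≃ₗ[F] V) (g z) = z from g.symm_apply_apply z, ← hD, e, ← map_sub g, e, ← map_sub g]
  obtain ⟨z0, hz0⟩ := hO.sG.exists_one hx0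
  have hpre : ∀ b : L, ∃ a : L, (g⁻¹ : V ≃ₗ[F] V) (b • g x) = a • x := by
    intro b
    set u := b • g ((-(G w w)⁻¹) • z0)
    refine ⟨-(G w w * G ((g⁻¹ : V ≃ₗ[F] V) u) x), ?_⟩
    have e1 : h (h (g ((-(G w w)⁻¹) • z0)) - g ((-(G w w)⁻¹) • z0)) -
        (h (g ((-(G w w)⁻¹) • z0)) - g ((-(G w w)⁻¹) • z0)) = g x := by
      rw [hgD, show (g⁻¹ : V ≃ₗ[F] V) (g ((-(G w w)⁻¹) • z0)) = _ from g.symm_apply_apply _, map_smul G,
        LinearMap.smul_apply, hz0, smul_eq_mul, mul_one, mul_neg, neg_neg, mul_inv_cancel₀ hww, one_smul]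
    have e2 : h (h u - u) - (h u - u) = b • g x := by
      rw [← e1]
      simp only [u, hlin b, ← smul_sub]
    rw [← e2, hgD]
    exact g.symm_apply_apply _
  refine hO.semi_of_line hF hg hx0 hx fun a => ?_
  have hgx : g x ≠ 0 := fun e => hx0 (g.injective (by rw [e, map_zero]))
  obtain ⟨b, hb⟩ := exists_preimage_line (g := g⁻¹) hgx hpre a
  exact ⟨b, by rw [← hb]; exact g.apply_symm_apply _⟩

/-- Semilinear conjugates of a whole Siegel group force semilinearity. -/
theorem Over.semi_of_conj (hO : Over L G f H) (hF : ¬ Full f H) {g : V ≃ₗ[F] V} (hg : g ∈ H) {x w : V}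
    (hx0 : x ≠ 0) (hx : G x x = 0) (hxw : G x w = 0) (hww : G w w ≠ 0)
    (hsemi : ∀ c : Multiplicative L, Semi L (g * hO.usHom hx hxw c * g⁻¹)) : Semi L g := by
  classical
  have : Finite L := hO.finiteL
  choose τ hτ using fun c => (hsemi c).exists_aut hx0
  obtain ⟨c, d, hcd, e⟩ : ∃ c d : Multiplicative L, c ≠ d ∧ τ c = τ d := by
    by_contra! hinj
    have hle : Nat.card L ≤ Nat.card (L ≃ₐ[F] L) :=
      Nat.card_le_card_of_injective τ fun c d e => by_contra fun h => hinj c d h e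
    rw [card_aut (F := F) (L := L), Module.natCard_eq_pow_finrank (K := F)] at hle
    exact absurd hle (not_le.mpr (Nat.lt_pow_self (Finite.one_lt_card (α := F))))
  have hlin : IsLin L (g * hO.usHom hx hxw (c * d⁻¹) * g⁻¹) := by
    intro a z
    have ed : g * hO.usHom hx hxw (c * d⁻¹) * g⁻¹ =
        (g * hO.usHom hx hxw c * g⁻¹) * (g * hO.usHom hx hxw d * g⁻¹)⁻¹ := by
      rw [map_mul, map_inv]; group
    rw [ed]
    set h := g * hO.usHom hx hxw c * g⁻¹
    set k := g * hO.usHom hx hxw d * g⁻¹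
    have hk : ∀ y, (k⁻¹ : V ≃ₗ[F] V) (a • y) = (τ d).symm a • (k⁻¹ : V ≃ₗ[F] V) y := fun y => by
      show k.symm (a • y) = _
      rw [LinearEquiv.symm_apply_eq, hτ d, (τ d).apply_symm_apply]
      exact congrArg (a • ·) (k.apply_symm_apply y).symm
    rw [LinearEquiv.mul_apply h, LinearEquiv.mul_apply h, hk]
    exact (hτ c _ _).trans (by rw [e, (τ d).apply_symm_apply])
  have hne : Multiplicative.toAdd (c * d⁻¹) ≠ 0 := fun h0 => hcd (mul_inv_eq_one.mp (toAdd_eq_zero.mp h0))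
  exact hO.semi_of_conj_lin hF hg hx0 hx (w := Multiplicative.toAdd (c * d⁻¹) • w) (by simp [hxw])
    (by
      simp only [map_smul, LinearMap.smul_apply, smul_eq_mul]
      exact mul_ne_zero hne (mul_ne_zero hne hww)) hlin

/-- A `p`-group containing a Siegel group consists of semilinear elements. -/
theorem Over.semi_of_pGroup (hO : Over L G f H) (hF : ¬ Full f H) {x w : V}
    (hx0 : x ≠ 0) (hx : G x x = 0) (hxw : G x w = 0) (hww : G w w ≠ 0) {Q : Subgroup (V ≃ₗ[F] V)} {p : ℕ}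
    [Fact p.Prime] (hQ : IsPGroup p Q) (hQH : Q ≤ H) (hU : (hO.usHom hx hxw).range ≤ Q) {h : V ≃ₗ[F] V}
    (hh : h ∈ Q) : Semi L h := by
  have : Finite V := Module.finite_of_finite F
  have : Finite (V ≃ₗ[F] V) := Finite.of_injective (fun g => (g : V → V)) DFunLike.coe_injective
  have := hQ.isNilpotent
  suffices htop : hO.semiGroup.subgroupOf Q = ⊤ from
    (show (⟨h, hh⟩ : Q) ∈ hO.semiGroup.subgroupOf Q by rw [htop]; exact Subgroup.mem_top _).2
  by_contra hne
  obtain ⟨k, hk, hk'⟩ := SetLike.exists_of_lt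
    (Group.normalizerCondition_of_isNilpotent (G := Q) _ (lt_top_iff_ne_top.mpr hne))
  refine hk' ⟨hQH k.2, hO.semi_of_conj hF (hQH k.2) hx0 hx hxw hww fun c => ?_⟩
  have hu := hO.usHom_mem hx hxw c
  exact ((Subgroup.mem_normalizer_iff.mp hk ⟨_, hU ⟨c, rfl⟩⟩).mp ⟨hu.1, hu.2.semi⟩).2

/-- The stabiliser of a vector in `H`. -/
def Over.stab (_hO : Over L G f H) (v : V) : Subgroup (V ≃ₗ[F] V) where
  carrier := {h | h ∈ H ∧ h v = v}
  one_mem' := ⟨H.one_mem, rfl⟩
  mul_mem' := fun {a b} ha hb => ⟨H.mul_mem ha.1 hb.1, by rw [LinearEquiv.mul_apply, hb.2, ha.2]⟩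
  inv_mem' := fun {a} ha => ⟨H.inv_mem ha.1, by
    show a.symm v = v
    rw [LinearEquiv.symm_apply_eq, ha.2]⟩

theorem Over.exists_aniso_singular (hO : Over L G f H) (hm : 4 ≤ finrank L V) {v : V} (hv : G v v ≠ 0) :
    ∃ x w, x ≠ 0 ∧ G x x = 0 ∧ G x w = 0 ∧ G w w ≠ 0 ∧ G v x = 0 ∧ G v w = 0 := by
  classical
  have := hO.finV
  have := hO.finiteL
  have h2 := hO.sG.two
  have hdim : 3 ≤ finrank L (LinearMap.ker (G v)) := by
    have h1 := LinearMap.finrank_range_add_finrank_ker (G v)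
    have h2 := Submodule.finrank_le (LinearMap.range (G v))
    rw [finrank_self] at h2
    omega
  obtain ⟨x, hx, hx0, hxx⟩ := hO.sG.exists_singular_mem _ hdim
  rw [LinearMap.mem_ker] at hx
  obtain ⟨y, hy⟩ := hO.sG.exists_one hx0
  have hy1 : G x (y - (G y v / G v v) • v) = 1 := by
    rw [map_sub, map_smul, hO.sG.symm x v, hx, smul_zero, sub_zero, hO.sG.symm, hy]
  obtain ⟨e1, e2⟩ := hO.sG.exists_singular_partner hxx hy1
  set y1 := y - (G y v / G v v) • v with hy1'
  set x' := y1 - (G y1 y1 / 2) • x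
  have hvy : G v y1 = 0 := by
    rw [hy1', map_sub, map_smul, smul_eq_mul, div_mul_cancel₀ _ hv, hO.sG.symm v y, sub_self]
  have hvx' : G v x' = 0 := by simp [x', hvy, hx]
  have T : Frame L G f H x x' := ⟨hO, hxx, e1, e2⟩
  have hvW : T.InW v := ⟨hx, hvx'⟩
  by_contra hcon
  push Not at hcon
  have hW0 : ∀ u, T.InW u → G v u = 0 → G u u = 0 := fun u hu huv => by
    by_contra huu
    exact absurd huv (hcon x u hx0 hxx (by rw [hO.sG.symm]; exact hu.1) huu hx)
  have hsub : ∀ z, T.InW z → z = (G v z / G v v) • v := by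
    intro z hz
    set p := z - (G v z / G v v) • v with hp
    have hpW : T.InW p := ⟨by simp [hp, hz.1, hvW.1], by simp [hp, hz.2, hvW.2]⟩
    have hpv : G v p = 0 := by simp [hp, hv]
    refine sub_eq_zero.mp (T.ov.sG.nondeg p fun a => ?_)
    set q := T.proj a - (G v (T.proj a) / G v v) • v with hq
    have ha := T.proj_mem a
    have hqW : T.InW q := ⟨by simp [hq, ha.1, hvW.1], by simp [hq, ha.2, hvW.2]⟩
    have hqv : G v q = 0 := by simp [hq, hv]
    have hpq : G p q = 0 := by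
      have h := hW0 (p + q) ⟨by simp [hpW.1, hqW.1], by simp [hpW.2, hqW.2]⟩ (by simp [hpv, hqv])
      simp only [map_add, LinearMap.add_apply, hW0 p hpW hpv, hW0 q hqW hqv, hO.sG.symm q p, zero_add, add_zero] at h
      exact (mul_eq_zero.mp (show (2 : L) * G p q = 0 by linear_combination h)).resolve_left h2
    rw [T.decomp a, map_add, map_add, map_smul, map_smul, hpW.1, hpW.2, smul_zero, smul_zero, zero_add, add_zero,
      show T.proj a = q + (G v (T.proj a) / G v v) • v by rw [hq]; abel, map_add, map_smul, hpq, hO.sG.symm p v, hpv,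
      smul_zero, add_zero]
  have htop : Submodule.span L ({x, x', v} : Set V) = ⊤ := Submodule.eq_top_iff'.mpr fun z => by
    refine Submodule.mem_span_triple.mpr ⟨G z x', G z x, G v (T.proj z) / G v v, ?_⟩
    rw [← hsub _ (T.proj_mem z)]
    conv_rhs => rw [T.decomp z]
    abel
  have h1 := finrank_span_finset_le_card ({x, x', v} : Finset V) (R := L)
  rw [Set.finrank] at h1
  rw [Finset.coe_insert, Finset.coe_insert, Finset.coe_singleton, htop, finrank_top] at h1
  have := Finset.card_le_three (a := x) (b := x') (c := v)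
  omega

/-- Images of singular vectors are singular, in dimension at least four. -/
theorem Over.singular_image_four (hO : Over L G f H) (hF : ¬ Full f H) (hm : 4 ≤ finrank L V) {g : V ≃ₗ[F] V}
    (hg : g ∈ H) {x : V} (hx : G x x = 0) : G (g x) (g x) = 0 := by
  classical
  by_contra hv
  have hx0 : x ≠ 0 := fun e => hv (by subst e; simp)
  have : Finite V := Module.finite_of_finite F
  have : Finite (V ≃ₗ[F] V) := Finite.of_injective (fun g => (g : V → V)) DFunLike.coe_injective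
  set v := g x with hvdef
  obtain ⟨x0, w0, hx00, hx0s, hxw0, hw0, hvx0, hvw0⟩ := hO.exists_aniso_singular hm hv
  obtain ⟨x', hx', hxx'⟩ := hO.sG.exists_partner hx0 hx
  obtain ⟨w, hw, hww⟩ := (⟨hO, hx, hx', hxx'⟩ : Frame L G f H x x').exists_aniso
  have hxw : G x w = 0 := by rw [hO.sG.symm]; exact hw.1
  set p := ringChar F
  haveI : CharP F p := ringChar.charP F
  haveI : Fact p.Prime := ⟨CharP.char_is_prime F p⟩
  set K := hO.stab v with hK
  set U0 := (hO.usHom hx0s hxw0).range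
  set U := (hO.usHom hx hxw).range.map (MulAut.conj g).toMonoidHom
  have hU0 : U0 ≤ K := by
    rintro _ ⟨c, rfl⟩
    refine ⟨(hO.usHom_mem hx0s hxw0 c).1, ?_⟩
    show sg G x0 (Multiplicative.toAdd c • w0) v = v
    simp [sg, hvx0, hvw0]
  have hU : U ≤ K := by
    rintro _ ⟨_, ⟨c, rfl⟩, rfl⟩
    refine ⟨H.mul_mem (H.mul_mem hg (hO.usHom_mem hx hxw c).1) (H.inv_mem hg), ?_⟩
    show g (sg G x (Multiplicative.toAdd c • w) (g.symm v)) = v
    rw [hvdef, g.symm_apply_apply]
    simp [sg, hx, hxw]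
  have hp0 : IsPGroup p (U0.subgroupOf K) :=
    (hO.usHom_isPGroup hx0s hxw0 p).of_equiv (Subgroup.subgroupOfEquivOfLe hU0).symm
  have hp1 : IsPGroup p (U.subgroupOf K) :=
    ((hO.usHom_isPGroup hx hxw p).map _).of_equiv (Subgroup.subgroupOfEquivOfLe hU).symm
  obtain ⟨Q, hQ⟩ := hp0.exists_le_sylow
  obtain ⟨Q', hQ'⟩ := hp1.exists_le_sylow
  obtain ⟨k, hk⟩ := MulAction.exists_smul_eq K Q' Q
  have hQsemi : ∀ h ∈ (Q : Subgroup K), Semi L (h : V ≃ₗ[F] V) := fun h hh =>
    hO.semi_of_pGroup hF hx00 hx0s hxw0 hw0 (Q := (Q : Subgroup K).map K.subtype) (p := p) (Q.2.map _)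
      (by rintro _ ⟨a, -, rfl⟩; exact a.2.1)
      (fun a ha => ⟨⟨a, hU0 ha⟩, hQ (show (⟨a, hU0 ha⟩ : K) ∈ U0.subgroupOf K from ha), rfl⟩) ⟨h, hh, rfl⟩
  have hkg : Semi L ((k : V ≃ₗ[F] V) * g) := by
    refine hO.semi_of_conj hF (H.mul_mem k.2.1 hg) hx0 hx hxw hww fun c => ?_
    have hm : g * hO.usHom hx hxw c * g⁻¹ ∈ U := ⟨_, ⟨c, rfl⟩, rfl⟩
    have h1 : k * ⟨_, hU hm⟩ * k⁻¹ ∈ (Q : Subgroup K) := by
      rw [← hk]
      exact ⟨_, hQ' (show (⟨_, hU hm⟩ : K) ∈ U.subgroupOf K from hm), rfl⟩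
    have h2 := hQsemi _ h1
    rw [mul_inv_rev]
    simpa [mul_assoc] using h2
  obtain ⟨σ, hσ⟩ := hkg.exists_aut hx0
  have e := hO.semi_form (H.mul_mem k.2.1 hg) hσ x x
  rw [LinearEquiv.mul_apply, ← hvdef, k.2.2, hx, map_zero] at e
  exact hv e

end Cfsg.Lib.Classical.ExtFieldOrth
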