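import Mathlib

/-! Field facts for orthogonal groups over an extension field of prime degree. -/

set_option autoImplicit false
set_option linter.unusedSectionVars false

namespace Cfsg.Lib.Classical.ExtFieldOrth

open Module

variable {F L : Type*} [Field F] [Finite F] [Field L] [Algebra F L] [FiniteDimensional F L]

theorem two_ne (h2 : (2 : F) ≠ 0) : (2 : L) ≠ 0 := by
  have := (map_ne_zero (algebraMap F L)).mpr h2
  rwa [map_ofNat] at this

theorem eq_of_trace {x y : L} (h : ∀ c : L, Algebra.trace F L (c * x) = Algebra.trace F L (c * y)) : x = y := by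
  have hn := (traceForm_nondegenerate F L).2 (x - y) fun c => by
    rw [Algebra.traceForm_apply, mul_sub, map_sub, h, sub_self]
  exact sub_eq_zero.mp hn

/-- An additive subgroup stable under squares is stable under all multiplications. -/
theorem mul_mem_of_sq (h2 : (2 : F) ≠ 0) (A : AddSubgroup L) (hA : ∀ d : L, d ≠ 0 → ∀ a ∈ A, d ^ 2 * a ∈ A)
    (c : L) {a : L} (ha : a ∈ A) : c * a ∈ A := by
  have hall : ∀ d : L, d ^ 2 * a ∈ A := fun d => by
    rcases eq_or_ne d 0 with rfl | hd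
    · simp
    · exact hA d hd a ha
  have h := two_ne (L := L) h2
  have e : c * a = ((c + 1) / 2) ^ 2 * a - ((c - 1) / 2) ^ 2 * a := by field_simp; ring
  rw [e]
  exact A.sub_mem (hall _) (hall _)

/-- Squares take values outside the base field. -/
theorem exists_sq_notMem (h2 : (2 : F) ≠ 0) (hr : 2 ≤ finrank F L) :
    ∃ d : L, d ≠ 0 ∧ d ^ 2 ∉ (algebraMap F L).range := by
  by_contra! h
  have hall : ∀ d : L, d ^ 2 ∈ (algebraMap F L).range := fun d => by
    rcases eq_or_ne d 0 with rfl | hd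
    · simp
    · exact h d hd
  have htop : ∀ c : L, c ∈ (algebraMap F L).range := by
    intro c
    have h := two_ne (L := L) h2
    have e : c = ((c + 1) / 2) ^ 2 - ((c - 1) / 2) ^ 2 := by field_simp; ring
    rw [e]
    exact sub_mem (hall _) (hall _)
  have hsurj : Function.Surjective (Algebra.linearMap F L) := fun c => htop c
  have := LinearMap.finrank_range_of_inj (f := Algebra.linearMap F L) (algebraMap F L).injective
  rw [LinearMap.range_eq_top.mpr hsurj, finrank_top, finrank_self] at this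
  omega

/-- In odd degree, everything is a square times a scalar from the base field. -/
theorem exists_sq_mul (h2 : (2 : F) ≠ 0) (hr : Odd (finrank F L)) (a : L) :
    ∃ (b : F) (e : L), a = algebraMap F L b * e ^ 2 ∧ (a ≠ 0 → b ≠ 0 ∧ e ≠ 0) := by
  classical
  rcases eq_or_ne a 0 with rfl | ha
  · exact ⟨0, 0, by simp, fun h => absurd rfl h⟩
  have hF : Fintype F := Fintype.ofFinite F
  have : Finite L := Module.finite_of_finite F
  have hL : Fintype L := Fintype.ofFinite L
  have hc : ringChar F ≠ 2 := fun h => by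
    haveI : CharP F 2 := h ▸ ringChar.charP F
    exact h2 (CharP.cast_eq_zero F 2)
  have hcL : ringChar L ≠ 2 := by rw [← Algebra.ringChar_eq F L]; exact hc
  obtain ⟨ν, hν⟩ := FiniteField.exists_nonsquare hc
  have hν0 : ν ≠ 0 := fun h => hν (h ▸ IsSquare.zero)
  have hνL : ¬ IsSquare (algebraMap F L ν) := by
    rw [FiniteField.isSquare_iff hcL ((map_ne_zero _).mpr hν0), ← map_pow, ← map_one (algebraMap F L)]
    intro h
    have h1 := (algebraMap F L).injective h
    have hpm := (FiniteField.pow_dichotomy hc hν0).resolve_left fun h' => hν ((FiniteField.isSquare_iff hc hν0).mpr h')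
    obtain ⟨k, hk⟩ : ∃ k, Fintype.card L / 2 = Fintype.card F / 2 * k ∧ Odd k := by
      have hodd : Fintype.card F % 2 = 1 := FiniteField.odd_card_of_char_ne_two hc
      refine ⟨∑ i ∈ Finset.range (finrank F L), Fintype.card F ^ i, ?_, ?_⟩
      · rw [Module.card_eq_pow_finrank (K := F) (V := L)]
        obtain ⟨j, hj⟩ : ∃ j, Fintype.card F = 2 * j + 1 := ⟨Fintype.card F / 2, by omega⟩
        have hg := geom_sum_mul_add (2 * j) (finrank F L)
        rw [← hj] at hg
        rw [← hg, show Fintype.card F / 2 = j by omega]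
        rw [show (∑ i ∈ Finset.range (finrank F L), Fintype.card F ^ i) * (2 * j) + 1 =
          2 * ((∑ i ∈ Finset.range (finrank F L), Fintype.card F ^ i) * j) + 1 by ring, mul_comm j]
        omega
      · rw [Finset.odd_sum_iff_odd_card_odd]
        have : (Finset.range (finrank F L)).filter (fun i => Odd (Fintype.card F ^ i)) = Finset.range (finrank F L) :=
          Finset.filter_true_of_mem fun i _ => (Nat.odd_iff.mpr hodd).pow
        rw [this, Finset.card_range]
        exact hr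
    rw [hk.1, pow_mul, hpm, hk.2.neg_one_pow] at h1
    exact h2 (by linear_combination -h1)
  by_cases hs : IsSquare a
  · obtain ⟨e, rfl⟩ := hs
    exact ⟨1, e, by rw [map_one, one_mul, pow_two], fun _ => ⟨one_ne_zero, fun h => ha (by rw [h, zero_mul])⟩⟩
  · have hsq : IsSquare (a / algebraMap F L ν) := by
      have hν' : algebraMap F L ν ≠ 0 := (map_ne_zero _).mpr hν0
      rw [FiniteField.isSquare_iff hcL (div_ne_zero ha hν'), div_pow]
      have e1 := (FiniteField.pow_dichotomy hcL ha).resolve_left fun h' => hs ((FiniteField.isSquare_iff hcL ha).mpr h')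
      have e2 := (FiniteField.pow_dichotomy hcL hν').resolve_left fun h' =>
        hνL ((FiniteField.isSquare_iff hcL hν').mpr h')
      rw [e1, e2, div_self (neg_ne_zero.mpr one_ne_zero)]
    obtain ⟨e, he⟩ := hsq
    refine ⟨ν, e, ?_, fun _ => ⟨hν0, fun h => ?_⟩⟩
    · rw [pow_two, ← he, mul_div_cancel₀ _ ((map_ne_zero _).mpr hν0)]
    · rw [h, zero_mul, div_eq_zero_iff] at he
      exact he.elim ha ((map_ne_zero _).mpr hν0)

instance (priority := 100) isGalois_finite : IsGalois F L :=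
  haveI : Finite L := Module.finite_of_finite F
  inferInstance

theorem card_aut : Nat.card (L ≃ₐ[F] L) = finrank F L := IsGalois.card_aut_eq_finrank F L

/-- Nontrivial automorphisms generate. -/
theorem aut_eq_pow (hr : (finrank F L).Prime) {σ : L ≃ₐ[F] L} (hσ : σ ≠ 1) (τ : L ≃ₐ[F] L) : ∃ i : ℕ, τ = σ ^ i := by
  haveI : Fact (finrank F L).Prime := ⟨hr⟩
  exact (Submonoid.mem_powers_iff _ _).mp (mem_powers_of_prime_card (card_aut (F := F) (L := L)) hσ) |>.imp fun _ h => h.symm

/-- Polynomial relations on automorphisms of degree below the prime are trivial. -/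
theorem no_cubic (hr : (finrank F L).Prime) (h4 : 4 ≤ finrank F L ∨ finrank F L = 3 ∧ (3 : L) ≠ 0) (σ : L ≃ₐ[F] L)
    (h : ∀ a : L, σ (σ (σ a)) - 3 * σ (σ a) + 3 * σ a - a = 0) : σ = 1 := by
  rcases h4 with h4 | ⟨h3, hne⟩
  swap
  · have hσ : σ ^ Nat.card (L ≃ₐ[F] L) = 1 := pow_card_eq_one'
    rw [card_aut (F := F) (L := L), h3] at hσ
    refine AlgEquiv.ext fun a => σ.injective ?_
    have e : σ (σ (σ a)) = a := by
      have := AlgEquiv.congr_fun hσ a
      simpa [pow_succ, AlgEquiv.mul_apply] using this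
    have h' := h a
    rw [e] at h'
    exact sub_eq_zero.mp ((mul_eq_zero.mp
      (show (3 : L) * (σ (σ a) - σ a) = 0 by linear_combination -h')).resolve_left hne)
  by_contra hσ
  haveI : Fact (finrank F L).Prime := ⟨hr⟩
  have hord : orderOf σ = finrank F L := by
    refine orderOf_eq_prime_iff.mpr ⟨?_, hσ⟩
    have h1 : σ ^ Nat.card (L ≃ₐ[F] L) = 1 := pow_card_eq_one'
    rwa [card_aut (F := F) (L := L)] at h1
  let g : Fin 4 → (L →* L) := fun i => ((σ ^ (i : ℕ) : L ≃ₐ[F] L) : L →* L)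
  have hinj : Function.Injective g := by
    intro i j hij
    refine Fin.ext ?_
    have : σ ^ (i : ℕ) = σ ^ (j : ℕ) := AlgEquiv.ext fun a => DFunLike.congr_fun hij a
    exact pow_injOn_Iio_orderOf (by rw [Set.mem_Iio, hord]; omega) (by rw [Set.mem_Iio, hord]; omega) this
  have hli := (linearIndependent_monoidHom L L).comp g hinj
  have := Fintype.linearIndependent_iff.mp hli ![-1, 3, -3, 1] (by
    funext a
    simp only [Finset.sum_apply, Fin.sum_univ_four, Pi.smul_apply, Pi.zero_apply, smul_eq_mul, Function.comp, g]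
    have e := h a
    simp [pow_succ, AlgEquiv.mul_apply]
    linear_combination e) 3
  simp at this

/-- The trace is the sum of the automorphisms. -/
theorem trace_eq_sum (x : L) : algebraMap F L (Algebra.trace F L x) = ∑ σ : L ≃ₐ[F] L, σ x :=
  trace_eq_sum_automorphisms x

/-- Every linear map of `L` is a combination of the automorphisms. -/
theorem exists_coeff (A : L →ₗ[F] L) : ∃ a : (L ≃ₐ[F] L) → L, ∀ x, A x = ∑ σ, a σ * σ x := by
  classical
  have hinj : Function.Injective (fun σ : L ≃ₐ[F] L => (σ.toAlgHom : L →ₐ[F] L)) :=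
    fun a b h => AlgEquiv.ext fun x => AlgHom.congr_fun h x
  have h0 : LinearIndependent L (AlgHom.toLinearMap : (L →ₐ[F] L) → (L →ₗ[F] L)) :=
    linearIndependent_toLinearMap F L L
  have hli := h0.comp _ hinj
  have hfin : Fintype.card (L ≃ₐ[F] L) = finrank L (L →ₗ[F] L) := by
    rw [Module.finrank_linearMap_self F L L, ← card_aut (F := F) (L := L), Nat.card_eq_fintype_card]
  have hspan := hli.span_eq_top_of_card_eq_finrank' hfin
  have hA : A ∈ Submodule.span L
      (Set.range ((AlgHom.toLinearMap : (L →ₐ[F] L) → (L →ₗ[F] L)) ∘ fun σ : L ≃ₐ[F] L => σ.toAlgHom)) := by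
    rw [hspan]; exact Submodule.mem_top
  obtain ⟨a, ha⟩ := (Submodule.mem_span_range_iff_exists_fun L).mp hA
  refine ⟨a, fun x => ?_⟩
  rw [← ha, LinearMap.sum_apply]
  exact Finset.sum_congr rfl fun σ _ => rfl

/-- Coefficients of the automorphisms are unique. -/
theorem coeff_eq_zero {a : (L ≃ₐ[F] L) → L} (h : ∀ x, ∑ σ, a σ * σ x = 0) (σ : L ≃ₐ[F] L) : a σ = 0 := by
  classical
  have hli := (linearIndependent_monoidHom L L).comp (fun τ : L ≃ₐ[F] L => (τ : L →* L))
    fun s t hst => AlgEquiv.ext fun x => DFunLike.congr_fun hst x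
  exact Fintype.linearIndependent_iff.mp hli a (funext fun x => by simpa [Finset.sum_apply] using h x) σ

/-- A ring of linear maps containing the multiplications is trivial or contains the trace. -/
theorem subring_dichotomy (hr : (finrank F L).Prime) (R : Subring (Module.End F L))
    (hL : ∀ c : L, LinearMap.mulLeft F c ∈ R) :
    (∀ A ∈ R, ∀ c x : L, A (c * x) = c * A x) ∨ Algebra.linearMap F L ∘ₗ Algebra.trace F L ∈ R := by
  classical
  by_cases hex : ∀ A ∈ R, ∀ c x : L, A (c * x) = c * A x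
  · exact Or.inl hex
  right
  have hmul : ∀ A ∈ R, ∀ c : L, (LinearMap.mulLeft F c ∘ₗ A) ∈ R ∧ (A ∘ₗ LinearMap.mulLeft F c) ∈ R :=
    fun A hA c => ⟨R.mul_mem (hL c) hA, R.mul_mem hA (hL c)⟩
  have hsupp : ∀ n : ℕ, ∀ A ∈ R, ∀ a : (L ≃ₐ[F] L) → L, (∀ x, A x = ∑ σ, a σ * σ x) →
      (Finset.univ.filter fun σ => a σ ≠ 0).card = n → ∀ σ, a σ ≠ 0 → σ.toAlgHom.toLinearMap ∈ R := by
    intro n
    induction n using Nat.strong_induction_on with
    | _ n ih =>
      intro A hA a ha hn σ hσ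
      by_cases hone : ∀ τ, a τ ≠ 0 → τ = σ
      · have e : σ.toAlgHom.toLinearMap = LinearMap.mulLeft F (a σ)⁻¹ ∘ₗ A := by
          refine LinearMap.ext fun x => ?_
          rw [LinearMap.comp_apply, LinearMap.mulLeft_apply, ha, Finset.sum_eq_single σ
            (fun τ _ hτ => by
              have : a τ = 0 := by_contra fun h => hτ (hone τ h)
              rw [this, zero_mul]) (fun h => absurd (Finset.mem_univ σ) h), ← mul_assoc, inv_mul_cancel₀ hσ, one_mul]
          rfl
        rw [e]; exact (hmul A hA _).1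
      push Not at hone
      obtain ⟨τ, hτ, hτσ⟩ := hone
      obtain ⟨c, hc⟩ : ∃ c, σ c ≠ τ c := by
        by_contra! h
        exact hτσ (AlgEquiv.ext fun x => (h x).symm)
      set B : Module.End F L := A ∘ₗ LinearMap.mulLeft F c - LinearMap.mulLeft F (τ c) ∘ₗ A
      have hB : B ∈ R := R.sub_mem (hmul A hA c).2 (hmul A hA _).1
      refine ih _ ?_ B hB (fun ρ => a ρ * (ρ c - τ c)) (fun x => ?_) rfl σ (mul_ne_zero hσ (sub_ne_zero.mpr hc))
      · rw [← hn]
        refine Finset.card_lt_card ((Finset.ssubset_iff_of_subset fun ρ hρ => ?_).mpr ⟨τ, ?_, ?_⟩)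
        · simp only [Finset.mem_filter, Finset.mem_univ, true_and] at hρ ⊢
          exact left_ne_zero_of_mul hρ
        · simpa using hτ
        · simp
      · show A (c * x) - τ c * A x = _
        rw [ha, ha, Finset.mul_sum, ← Finset.sum_sub_distrib]
        refine Finset.sum_congr rfl fun ρ _ => ?_
        rw [map_mul]; ring
  push Not at hex
  obtain ⟨A, hA, c, x, hcx⟩ := hex
  obtain ⟨a, ha⟩ := exists_coeff A
  obtain ⟨σ, hσ1, hσ⟩ : ∃ σ : L ≃ₐ[F] L, σ ≠ 1 ∧ a σ ≠ 0 := by
    by_contra! h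
    refine hcx ?_
    have e : ∀ y, A y = a 1 * y := fun y => by
      rw [ha, Finset.sum_eq_single 1 (fun τ _ hτ => by rw [h τ hτ, zero_mul]) (fun h => absurd (Finset.mem_univ _) h),
        AlgEquiv.one_apply]
    rw [e, e]; ring
  have hmem := hsupp _ A hA a ha rfl σ hσ
  have hall : ∀ τ : L ≃ₐ[F] L, τ.toAlgHom.toLinearMap ∈ R := by
    intro τ
    obtain ⟨i, rfl⟩ := aut_eq_pow hr hσ1 τ
    induction i with
    | zero =>
      have : (σ ^ 0).toAlgHom.toLinearMap = (1 : Module.End F L) := LinearMap.ext fun x => rfl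
      rw [this]; exact R.one_mem
    | succ i ih =>
      have : (σ ^ (i + 1)).toAlgHom.toLinearMap = ((σ ^ i).toAlgHom.toLinearMap : Module.End F L) * σ.toAlgHom.toLinearMap :=
        LinearMap.ext fun x => by simp [pow_succ, AlgEquiv.mul_apply]
      rw [this]; exact R.mul_mem ih hmem
  have e : Algebra.linearMap F L ∘ₗ Algebra.trace F L = (∑ τ : L ≃ₐ[F] L, τ.toAlgHom.toLinearMap : Module.End F L) :=
    LinearMap.ext fun x => by simp [trace_eq_sum]
  rw [e]
  exact R.sum_mem fun τ _ => hall τ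

/-- A prime with `q` of order divisible by `r`. -/
theorem exists_prime_order {q r : ℕ} (hr : r.Prime) (hr3 : 3 ≤ r) (hq : 3 ≤ q) (N : ℕ)
    (hN : N + 1 = q ^ r ∨ N = q ^ r + 1) :
    ∃ ℓ : ℕ, ℓ.Prime ∧ ℓ ≠ 2 ∧ ℓ ∣ N ∧ ∀ d : ℕ, (q : ZMod ℓ) ^ d = 1 → r ∣ d := by
  classical
  obtain ⟨Q, hQN, hQ2, hQ0⟩ : ∃ Q : ℤ, (N : ℤ).natAbs = (Q ^ r - 1).natAbs ∧ Q ^ 2 = (q : ℤ) ^ 2 ∧ Q.natAbs = q := by
    have hro : Odd r := hr.odd_of_ne_two (by omega)
    rcases hN with h | h
    · refine ⟨q, ?_, rfl, rfl⟩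
      rw [show (q : ℤ) ^ r - 1 = (N : ℤ) by push_cast [← Nat.cast_pow, ← h]; ring]
    · refine ⟨-(q : ℤ), ?_, by ring, by simp⟩
      rw [hro.neg_pow, show -(q : ℤ) ^ r - 1 = -(N : ℤ) by rw [h]; push_cast; ring, Int.natAbs_neg]
  set M : ℤ := ∑ i ∈ Finset.range r, Q ^ i
  have hM : M * (Q - 1) = Q ^ r - 1 := geom_sum_mul Q r
  have hbig : (r : ℤ) < |M| := by
    have h1 : |M| * |Q - 1| = |Q ^ r - 1| := by rw [← abs_mul, hM]
    have h2 : |Q - 1| ≤ (q : ℤ) + 1 := by
      have := abs_sub Q 1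
      rw [abs_one, Int.abs_eq_natAbs Q, hQ0] at this
      exact this
    have h3 : (q : ℤ) ^ r - 1 ≤ |Q ^ r - 1| := by
      have := abs_sub_abs_le_abs_sub (Q ^ r) 1
      rw [abs_one, abs_pow, Int.abs_eq_natAbs Q, hQ0] at this
      linarith
    by_contra! hle
    have h4 : (q : ℤ) ^ r - 1 ≤ r * (q + 1) := by nlinarith [abs_nonneg (Q - 1)]
    have h5 : ∀ k : ℕ, 3 ≤ k → (k : ℤ) * (q + 1) + 1 < (q : ℤ) ^ k := by
      intro k hk
      induction k, hk using Nat.le_induction with
      | base => push_cast; nlinarith [show (3 : ℤ) ≤ q by exact_mod_cast hq]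
      | succ k hk ih =>
        push_cast
        rw [pow_succ]
        have h3q : (3 : ℤ) ≤ q := by exact_mod_cast hq
        have hk' : (3 : ℤ) ≤ k := by exact_mod_cast hk
        nlinarith [mul_le_mul_of_nonneg_left h3q (show (0 : ℤ) ≤ (q : ℤ) ^ k by positivity)]
    have := h5 r hr3
    linarith
  have hex : ∃ ℓ : ℕ, ℓ.Prime ∧ (ℓ : ℤ) ∣ M ∧ ¬ (ℓ : ℤ) ∣ Q ^ 2 - 1 := by
    by_contra! hall
    have hone : ∀ ℓ : ℕ, ℓ.Prime → (ℓ : ℤ) ∣ M → ℓ = r := by
      intro ℓ hℓ hd
      haveI : Fact ℓ.Prime := ⟨hℓ⟩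
      have hM0 : (M : ZMod ℓ) = 0 := (ZMod.intCast_zmod_eq_zero_iff_dvd M ℓ).mpr hd
      have hsq : ((Q : ZMod ℓ) - 1) * ((Q : ZMod ℓ) + 1) = 0 := by
        have := (ZMod.intCast_zmod_eq_zero_iff_dvd (Q ^ 2 - 1) ℓ).mpr (hall ℓ hℓ hd)
        push_cast at this
        linear_combination this
      simp only [M, Int.cast_sum, Int.cast_pow] at hM0
      have hQ1 : (Q : ZMod ℓ) = 1 := by
        rcases mul_eq_zero.mp hsq with h | h
        · exact sub_eq_zero.mp h
        · have e : (Q : ZMod ℓ) = -1 := eq_neg_of_add_eq_zero_left h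
          rw [e, neg_one_geom_sum, if_neg (Nat.not_even_iff_odd.mpr (hr.odd_of_ne_two (by omega)))] at hM0
          exact absurd hM0 one_ne_zero
      rw [hQ1] at hM0
      simp at hM0
      exact (Nat.prime_dvd_prime_iff_eq hℓ hr).mp ((ZMod.natCast_eq_zero_iff _ _).mp hM0)
    have hpow : ∃ k, M.natAbs = r ^ k := by
      refine ⟨_, Nat.eq_prime_pow_of_unique_prime_dvd (n := M.natAbs) (p := r) ?_ fun {d} hd hdd => ?_⟩
      · intro h0
        rw [Int.natAbs_eq_zero] at h0
        rw [h0, abs_zero] at hbig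
        linarith [show (0 : ℤ) ≤ r from Int.natCast_nonneg r]
      · exact hone d hd (Int.natCast_dvd.mpr hdd)
    obtain ⟨k, hk⟩ := hpow
    have hk2 : 2 ≤ k := by
      by_contra! hlt
      rw [Int.abs_eq_natAbs, hk] at hbig
      interval_cases k <;> simp at hbig <;> omega
    have hrM : (r : ℤ) ^ 2 ∣ M := by
      rw [show (r : ℤ) ^ 2 = ((r ^ 2 : ℕ) : ℤ) by push_cast; ring, Int.natCast_dvd, hk]
      exact pow_dvd_pow r hk2
    haveI : Fact r.Prime := ⟨hr⟩
    have hQr : (r : ℤ) ∣ Q - 1 := by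
      have h0 : (M : ZMod r) = 0 := (ZMod.intCast_zmod_eq_zero_iff_dvd M r).mpr (dvd_trans (dvd_pow_self _ two_ne_zero) hrM)
      have h1 : ((Q : ZMod r) ^ r - 1) = 0 := by
        have := congrArg (fun z : ℤ => (z : ZMod r)) hM
        push_cast at this
        rw [← this, h0, zero_mul]
      rw [← ZMod.intCast_zmod_eq_zero_iff_dvd]
      rw [ZMod.pow_card] at h1
      push_cast
      exact h1
    obtain ⟨t, ht⟩ := hQr
    have hlin : ∀ i : ℕ, (r : ℤ) ^ 2 ∣ Q ^ i - (1 + i * (r * t)) := by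
      intro i
      induction i with
      | zero => simp
      | succ i ih =>
        obtain ⟨s, hs⟩ := ih
        refine ⟨s * Q + i * t * t, ?_⟩
        push_cast
        linear_combination Q * hs + (1 + (i : ℤ) * (r * t)) * ht
    have hsum : (r : ℤ) ^ 2 ∣ M - (r + (∑ i ∈ Finset.range r, (i : ℤ)) * (r * t)) := by
      have := Finset.dvd_sum (s := Finset.range r) fun i _ => hlin i
      simpa [M, Finset.sum_sub_distrib, Finset.sum_add_distrib, Finset.sum_mul] using this
    have hgauss : (r : ℤ) ∣ ∑ i ∈ Finset.range r, (i : ℤ) := by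
      have h := Finset.sum_range_id_mul_two r
      have hd : r ∣ (∑ i ∈ Finset.range r, i) * 2 := h ▸ dvd_mul_right r _
      have := ((Nat.coprime_primes hr Nat.prime_two).mpr (by omega)).dvd_of_dvd_mul_right hd
      rw [← Nat.cast_sum]
      exact_mod_cast this
    obtain ⟨u, hu⟩ := hgauss
    have h4 : (r : ℤ) ^ 2 ∣ (r : ℤ) := by
      have h5 : (r : ℤ) ^ 2 ∣ (r + (∑ i ∈ Finset.range r, (i : ℤ)) * (r * t)) := by
        have := dvd_sub hrM hsum
        simpa using this
      have h6 : (r : ℤ) ^ 2 ∣ (∑ i ∈ Finset.range r, (i : ℤ)) * (r * t) := ⟨u * t, by rw [hu]; ring⟩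
      have := dvd_sub h5 h6
      simpa using this
    have := Int.le_of_dvd (by exact_mod_cast hr.pos) h4
    nlinarith [show (3 : ℤ) ≤ r by exact_mod_cast hr3]
  obtain ⟨ℓ, hℓ, hdM, hnd⟩ := hex
  haveI : Fact ℓ.Prime := ⟨hℓ⟩
  refine ⟨ℓ, hℓ, ?_, ?_, ?_⟩
  · rintro rfl
    have h1 : (2 : ℤ) ∣ Q ^ r - 1 := hM ▸ hdM.mul_right (Q - 1)
    refine hnd ?_
    have : Odd Q := by
      rw [← Int.not_even_iff_odd]
      intro he
      have h2 : (2 : ℤ) ∣ Q ^ r := dvd_pow (even_iff_two_dvd.mp he) hr.ne_zero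
      have h3 := dvd_sub h2 h1
      simp at h3
    exact even_iff_two_dvd.mp (this.pow.sub_odd odd_one)
  · rw [← Int.natCast_dvd_natCast, ← Int.dvd_natAbs, hQN, Int.dvd_natAbs, ← hM]
    exact hdM.mul_right _
  · intro d hd
    have hQr' : ((Q : ZMod ℓ)) ^ r = 1 := by
      have h0 : (M : ZMod ℓ) = 0 := (ZMod.intCast_zmod_eq_zero_iff_dvd M ℓ).mpr hdM
      have := congrArg (fun z : ℤ => (z : ZMod ℓ)) hM
      push_cast at this
      rw [h0, zero_mul] at this
      exact sub_eq_zero.mp this.symm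
    have hsq : ((Q : ZMod ℓ)) ^ 2 = (q : ZMod ℓ) ^ 2 := by
      have := congrArg (fun z : ℤ => (z : ZMod ℓ)) hQ2
      push_cast at this
      exact this
    have h2r : ((q : ZMod ℓ)) ^ (2 * r) = 1 := by rw [pow_mul, ← hsq, ← pow_mul, mul_comm, pow_mul, hQr', one_pow]
    have hg := pow_gcd_eq_one.mpr ⟨hd, h2r⟩
    by_contra hrd
    have hc : Nat.Coprime (Nat.gcd d (2 * r)) r :=
      ((Nat.Prime.coprime_iff_not_dvd hr).mpr fun h => hrd (h.trans (Nat.gcd_dvd_left _ _))).symm
    have hdiv : Nat.gcd d (2 * r) ∣ 2 := hc.dvd_of_dvd_mul_right (Nat.gcd_dvd_right d (2 * r))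
    obtain ⟨k, hk⟩ := hdiv
    refine hnd ?_
    rw [hQ2]
    rw [← ZMod.intCast_zmod_eq_zero_iff_dvd]
    push_cast
    rw [hk, pow_mul, hg, one_pow, sub_self]

end Cfsg.Lib.Classical.ExtFieldOrth
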