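import Cfsg.Agent.Classical.ExtFieldOrth.Stab
import Cfsg.Agent.Coprime.Generation

/-! No element fixes the orthogonal of a singular line pointwise. -/

set_option autoImplicit false
set_option linter.unusedSectionVars false

namespace Cfsg.Lib.Classical.ExtFieldOrth

open Module Cfsg.Lib.Classical

variable {F L V : Type*} [Field F] [Finite F] [Field L] [Algebra F L] [FiniteDimensional F L]
  [AddCommGroup V] [Module F V] [Module L V] [IsScalarTower F L V] [FiniteDimensional F V]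

variable {G : LinearMap.BilinForm L V} {f : LinearMap.BilinForm F V} {H : Subgroup (V ≃ₗ[F] V)} {x x' : V}

namespace Frame

/-- The elements fixing the orthogonal of the line. -/
def fx (_T : Frame L G f H x x') : Subgroup (V ≃ₗ[F] V) where
  carrier := {h | h ∈ H ∧ ∀ z, G z x = 0 → h z = z}
  one_mem' := ⟨H.one_mem, fun _ _ => rfl⟩
  mul_mem' := fun {a b} ha hb => ⟨H.mul_mem ha.1 hb.1, fun z hz => by rw [LinearEquiv.mul_apply, hb.2 z hz, ha.2 z hz]⟩
  inv_mem' := fun {a} ha => ⟨H.inv_mem ha.1, fun z hz => by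
    show a.symm z = z
    rw [LinearEquiv.symm_apply_eq, ha.2 z hz]⟩

/-- The map describing an element fixing the orthogonal. -/
def nf (_T : Frame L G f H x x') (h : V ≃ₗ[F] V) : L →ₗ[F] L :=
  (G.flip x').restrictScalars F ∘ₗ (h.toLinearMap - LinearMap.id) ∘ₗ
    (LinearMap.toSpanSingleton L V x').restrictScalars F

theorem nf_x' (T : Frame L G f H x x') {h : V ≃ₗ[F] V} (hh : h ∈ T.fx) (a : L) :
    h (a • x') = a • x' + T.nf h a • x := by
  have hd := T.mem_line (d := h (a • x') - a • x') fun y hy => ?_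
  · rw [eq_add_of_sub_eq hd]
    show _ = _ + G (h (a • x') - a • x') x' • x
    abel
  rw [map_sub, LinearMap.sub_apply, sub_eq_zero]
  conv_lhs => rw [← hh.2 y hy, T.ov.isom h hh.1]

theorem nf_spec (T : Frame L G f H x x') {h : V ≃ₗ[F] V} (hh : h ∈ T.fx) (z : V) :
    h z = z + T.nf h (G z x) • x := by
  have hy : G (z - G z x • x') x = 0 := by simp [T.pair']
  conv_lhs => rw [show z = (z - G z x • x') + G z x • x' by abel, map_add, hh.2 _ hy, T.nf_x' hh, ← add_assoc,
    sub_add_cancel]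

theorem nf_skew (T : Frame L G f H x x') {h : V ≃ₗ[F] V} (hh : h ∈ T.fx) (a b : L) :
    Algebra.trace F L (T.nf h a * b) + Algebra.trace F L (a * T.nf h b) = 0 := by
  have h1 := T.ov.isom h hh.1 (a • x') (b • x')
  simp only [T.nf_x' hh, map_add, LinearMap.add_apply, T.f_line, T.swap.f_line, T.f_line_pair,
    T.ov.sf.symm (a • x') (T.nf h b • x), add_zero, zero_add] at h1
  rw [mul_comm a]
  exact h1

theorem nf_eq (T : Frame L G f H x x') {h : V ≃ₗ[F] V} {N : L → L} (e : ∀ z, h z = z + N (G z x) • x) (a : L) :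
    T.nf h a = N a := by
  show G (h (a • x') - a • x') x' = _
  rw [e, add_sub_cancel_left]
  simp [T.pair, T.pair']

theorem nf_mul (T : Frame L G f H x x') {g h : V ≃ₗ[F] V} (hg : g ∈ T.fx) (hh : h ∈ T.fx) (a : L) :
    T.nf (g * h) a = T.nf g a + T.nf h a := by
  refine T.nf_eq (N := fun a => T.nf g a + T.nf h a) (fun z => ?_) a
  rw [LinearEquiv.mul_apply, T.nf_spec hh, T.nf_spec hg, map_add, LinearMap.add_apply, map_smul, LinearMap.smul_apply,
    T.sx, smul_zero, add_zero, add_smul]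
  abel

theorem nf_one (T : Frame L G f H x x') (a : L) : T.nf 1 a = 0 :=
  T.nf_eq (N := fun _ => 0) (fun z => by simp) a

theorem nf_pow (T : Frame L G f H x x') {g : V ≃ₗ[F] V} (hg : g ∈ T.fx) (n : ℕ) (a : L) :
    T.nf (g ^ n) a = n • T.nf g a := by
  induction n with
  | zero => rw [pow_zero, T.nf_one, zero_smul]
  | succ n ih => rw [pow_succ, T.nf_mul (Subgroup.pow_mem _ hg n) hg, ih, succ_nsmul]

theorem eq_one_of_nf (T : Frame L G f H x x') {g : V ≃ₗ[F] V} (hg : g ∈ T.fx) (h : ∀ a, T.nf g a = 0) : g = 1 :=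
  LinearEquiv.ext fun z => by rw [T.nf_spec hg, h, zero_smul, add_zero]; rfl

theorem fx_comm (T : Frame L G f H x x') {g h : V ≃ₗ[F] V} (hg : g ∈ T.fx) (hh : h ∈ T.fx) : g * h = h * g :=
  LinearEquiv.ext fun z => by
    rw [T.nf_spec (T.fx.mul_mem hg hh), T.nf_spec (T.fx.mul_mem hh hg), T.nf_mul hg hh, T.nf_mul hh hg, add_comm (T.nf g _)]

theorem tor_conj (T : Frame L G f H x x') {h : V ≃ₗ[F] V} (hh : h ∈ T.fx) {d : L} (hd : d ≠ 0) :
    T.tor (pow_ne_zero 2 hd) * h * (T.tor (pow_ne_zero 2 hd))⁻¹ ∈ T.fx ∧ ∀ a,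
      T.nf (T.tor (pow_ne_zero 2 hd) * h * (T.tor (pow_ne_zero 2 hd))⁻¹) a = d ^ 2 * T.nf h (d ^ 2 * a) := by
  set t := T.tor (pow_ne_zero 2 hd)
  have key : ∀ z, (t * h * t⁻¹ : V ≃ₗ[F] V) z = z + (d ^ 2 * T.nf h (d ^ 2 * G z x)) • x := by
    intro z
    obtain ⟨y, rfl⟩ := t.surjective z
    have e : d ^ 2 * G (t y) x = G y x := by
      rw [tor_apply, dia]
      simp only [map_add, map_smul, LinearMap.add_apply, LinearMap.smul_apply, smul_eq_mul, T.sx, T.pair']
      field_simp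
      ring
    rw [LinearEquiv.mul_apply, LinearEquiv.mul_apply, show (t⁻¹ : V ≃ₗ[F] V) (t y) = y from t.symm_apply_apply y,
      T.nf_spec hh, map_add, T.tor_x, e]
  exact ⟨⟨H.mul_mem (H.mul_mem (T.tor_sq_mem hd) hh.1) (H.inv_mem (T.tor_sq_mem hd)),
    fun z hz => by rw [key, hz, mul_zero, map_zero, mul_zero, zero_smul, add_zero]⟩, fun a => T.nf_eq (N := fun a => d ^ 2 * T.nf h (d ^ 2 * a)) key a⟩

theorem fx_eq_one_two (T : Frame L G f H x x') (hF : ¬ Full f H) (hr : finrank F L = 2) {X : V ≃ₗ[F] V}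
    (hX : X ∈ T.fx) : X = 1 := by
  classical
  have h2 := two_ne (L := L) T.ov.two
  by_contra hX1
  obtain ⟨σ, hσ⟩ : ∃ σ : L ≃ₐ[F] L, σ ≠ 1 := by
    have hc := card_aut (F := F) (L := L)
    have : Nontrivial (L ≃ₐ[F] L) := Finite.one_lt_card_iff_nontrivial.mp (by rw [hc, hr]; norm_num)
    exact exists_ne 1
  have huniv : (Finset.univ : Finset (L ≃ₐ[F] L)) = {1, σ} := by
    refine (Finset.eq_univ_of_card _ ?_).symm
    rw [Finset.card_pair hσ.symm, ← Nat.card_eq_fintype_card, card_aut (F := F) (L := L), hr]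
  have hσσ : σ * σ = 1 := by
    have h := Finset.mem_univ (σ * σ)
    rw [huniv, Finset.mem_insert, Finset.mem_singleton] at h
    exact h.resolve_right fun e => hσ (by simpa using e)
  obtain ⟨c, hc⟩ := exists_coeff (T.nf X)
  have hsum : ∀ (φ : (L ≃ₐ[F] L) → L), ∑ τ, φ τ = φ 1 + φ σ := fun φ => by rw [huniv, Finset.sum_pair hσ.symm]
  set k := c σ
  have hskew : ∀ τ : L ≃ₐ[F] L, (if τ = 1 then 2 * c 1 else k + σ k) = 0 := by
    refine coeff_eq_zero fun a => ?_
    refine eq_of_trace (F := F) fun b => ?_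
    rw [mul_zero, map_zero, ← T.nf_skew hX a b, hc, hc, hsum, hsum, hsum]
    simp only [if_pos, if_neg hσ, AlgEquiv.one_apply]
    have e : Algebra.trace F L (a * (k * σ b)) = Algebra.trace F L (σ k * σ a * b) := by
      conv_rhs => rw [← Algebra.trace_eq_of_algEquiv σ]
      rw [map_mul σ, map_mul σ, ← AlgEquiv.mul_apply, ← AlgEquiv.mul_apply, hσσ, AlgEquiv.one_apply, AlgEquiv.one_apply]
      congr 1; ring
    simp only [add_mul, mul_add, map_add]
    rw [show c σ = k from rfl, e]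
    simp only [← map_add]
    congr 1; ring
  have hc1 : c 1 = 0 := by
    have h := hskew 1
    rw [if_pos rfl] at h
    exact (mul_eq_zero.mp h).resolve_left h2
  have hk : σ k = -k := by
    have h := hskew σ
    rw [if_neg hσ] at h
    exact eq_neg_of_add_eq_zero_right h
  have hN : ∀ a, T.nf X a = k * σ a := fun a => by rw [hc, hsum, hc1, zero_mul, zero_add]
  have hk0 : k ≠ 0 := fun h => hX1 (T.eq_one_of_nf hX fun a => by rw [hN, h, zero_mul])
  have hnorm : ∀ d : L, algebraMap F L (Algebra.norm F d) = d * σ d := fun d => by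
    rw [Algebra.norm_eq_prod_automorphisms, huniv, Finset.prod_pair hσ.symm, AlgEquiv.one_apply]
  let Sc : AddSubgroup F :=
    { carrier := {t | ∃ h ∈ T.fx, ∀ a, T.nf h a = algebraMap F L t * k * σ a}
      zero_mem' := ⟨1, T.fx.one_mem, fun a => by rw [T.nf_one, map_zero, zero_mul, zero_mul]⟩
      add_mem' := by
        rintro p q ⟨g, hg, eg⟩ ⟨h, hh, eh⟩
        exact ⟨g * h, T.fx.mul_mem hg hh, fun a => by rw [T.nf_mul hg hh, eg, eh, map_add]; ring⟩
      neg_mem' := by
        rintro p ⟨g, hg, eg⟩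
        refine ⟨g⁻¹, T.fx.inv_mem hg, fun a => ?_⟩
        have h := T.nf_mul hg (T.fx.inv_mem hg) a
        rw [mul_inv_cancel, T.nf_one, eg] at h
        rw [map_neg]
        linear_combination -h }
  have : Finite L := Module.finite_of_finite F
  have hall : ∀ t : F, t ∈ Sc := by
    intro t
    have := mul_mem_of_sq (L := F) (F := F) T.ov.two Sc (fun q hq a ha => by
      obtain ⟨h, hh, eh⟩ := ha
      obtain ⟨d, hd⟩ := FiniteField.norm_surjective F L q
      have hd0 : d ≠ 0 := fun e => hq (by rw [← hd, e, Algebra.norm_zero])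
      obtain ⟨hm, e⟩ := T.tor_conj hh hd0
      refine ⟨_, hm, fun b => ?_⟩
      rw [e, eh, map_mul (algebraMap F L), map_pow, ← hd, hnorm, map_mul σ, map_pow]
      ring) t (a := (1 : F)) ⟨X, hX, fun a => by rw [hN, map_one, one_mul]⟩
    rwa [mul_one] at this
  obtain ⟨n, l, hn, hl, hlin, hnx, hnx', hnW, hnn, hG⟩ := T.exists_flip
  set b : F := -(Algebra.norm F l * Algebra.norm F k)⁻¹
  obtain ⟨X', hX', eX'⟩ := hall b
  set Y := n * X' * n with hY
  have hbk : algebraMap F L b * (l * σ l) * k * k = 1 := by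
    have hσl : σ l ≠ 0 := by simpa using hl
    rw [map_neg, map_inv₀, map_mul, hnorm, hnorm, hk]
    field_simp
  have hYz : ∀ z, Y z = z + (k⁻¹ * σ (G z x')) • x' := by
    intro z
    have h1 : G (n z) x = -l * G z x' := by
      conv_lhs => rw [← hnn x, hG, hnx, map_smul, smul_eq_mul]
    rw [hY, LinearEquiv.mul_apply, LinearEquiv.mul_apply, T.nf_spec hX', eX', map_add, hnn, hlin, hnx, smul_smul, h1,
      map_mul σ, map_neg σ]
    congr 2
    field_simp
    linear_combination σ (G z x') * hbk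
  set h := X * Y * X with hh
  have hXx : ∀ a : L, X (a • x) = a • x := fun a => hX.2 _ (by simp [T.sx])
  have hline : ∀ a : L, h (a • x) = (k⁻¹ * σ a) • x' := by
    intro a
    have h1 : G (a • x) x' = a := by simp [T.pair]
    rw [hh, LinearEquiv.mul_apply, LinearEquiv.mul_apply, hXx, hYz, h1, map_add, hXx, T.nf_x' hX, hN, map_mul σ,
      map_inv₀, hk, ← AlgEquiv.mul_apply, hσσ, AlgEquiv.one_apply]
    have e : k * ((-k)⁻¹ * a) = -a := by field_simp
    rw [e, neg_smul]
    abel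
  have hhW : ∀ z, T.InW z → h z = z := fun z hz => by
    rw [hh, LinearEquiv.mul_apply, LinearEquiv.mul_apply, hX.2 z hz.1, hYz, hz.2, map_zero, mul_zero, zero_smul,
      add_zero, hX.2 z hz.1]
  set s := n * h with hs
  have hsx : ∀ a : L, s (a • x) = (-(k⁻¹ * l⁻¹) * σ a) • x := fun a => by
    rw [hs, LinearEquiv.mul_apply, hline, hlin, hnx', smul_smul]
    congr 1; ring
  have hsz : ∀ (z : V) (c : L), G z x = 0 →
      s (c • z) = (-(k⁻¹ * l⁻¹) * σ (c * G z x')) • x + c • n (T.proj z) := fun z c hz => by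
    conv_lhs => rw [T.decomp_perp hz, smul_add, smul_smul, map_add, hsx]
    rw [hs, LinearEquiv.mul_apply, hhW _ (T.inW_smul (T.proj_mem z) c), hlin]
  obtain ⟨k0, -, hk0'⟩ := T.line_linear hF (g := s)
    (H.mul_mem hn (H.mul_mem (H.mul_mem hX.1 (H.mul_mem (H.mul_mem hn hX'.1) hn)) hX.1))
    (fun a => ⟨_, hsx a⟩) fun c z hz => ⟨-(k⁻¹ * l⁻¹) * σ (c * G z x') - c * (-(k⁻¹ * l⁻¹) * σ (G z x')), by
      have h1 := hsz z 1 hz
      rw [one_smul, one_mul, one_smul] at h1
      rw [hsz z c hz, h1, smul_add, smul_smul, sub_smul]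
      abel⟩
  have e1 := fun a => smul_left_injective L T.x_ne ((hsx a).symm.trans (hk0' a))
  have e11 : -(k⁻¹ * l⁻¹) * σ 1 = k0 * 1 := e1 1
  rw [map_one, mul_one, mul_one] at e11
  refine hσ (AlgEquiv.ext fun a => ?_)
  have e := e1 a
  rw [← e11] at e
  exact mul_left_cancel₀ (neg_ne_zero.mpr (mul_ne_zero (inv_ne_zero hk0) (inv_ne_zero hl))) e

theorem nf_exists_ker (T : Frame L G f H x x') (hr : Odd (finrank F L)) {X : V ≃ₗ[F] V} (hX : X ∈ T.fx) :
    ∃ a : L, a ≠ 0 ∧ T.nf X a = 0 := by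
  classical
  let b := Module.finBasis F L
  let M : Matrix (Fin (finrank F L)) (Fin (finrank F L)) F := Matrix.of fun i j => Algebra.trace F L (T.nf X (b j) * b i)
  have hM : M.transpose = -M := by
    ext i j
    have h := T.nf_skew hX (b i) (b j)
    rw [mul_comm (b i)] at h
    simpa [M] using eq_neg_of_add_eq_zero_left h
  have hdet : M.det = 0 := by
    have h := congrArg Matrix.det hM
    rw [Matrix.det_transpose, Matrix.det_neg, Fintype.card_fin, hr.neg_one_pow] at h
    exact (mul_eq_zero.mp (show (2 : F) * M.det = 0 by linear_combination h)).resolve_left T.ov.two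
  obtain ⟨v, hv, hMv⟩ := Matrix.exists_mulVec_eq_zero_iff.mpr hdet
  refine ⟨∑ j, v j • b j, fun h => hv (funext fun j => Fintype.linearIndependent_iff.mp b.linearIndependent v h j),
    eq_of_trace (F := F) fun c => ?_⟩
  rw [mul_zero, map_zero, ← b.sum_repr c, Finset.sum_mul, map_sum]
  refine Finset.sum_eq_zero fun i _ => ?_
  have h := congrFun hMv i
  simp only [Matrix.mulVec, dotProduct, M, Matrix.of_apply, Pi.zero_apply] at h
  rw [smul_mul_assoc, map_smul, map_sum, Finset.mul_sum, map_sum, smul_eq_mul]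
  rw [Finset.sum_congr rfl fun j _ => show Algebra.trace F L (b i * T.nf X (v j • b j)) =
    Algebra.trace F L (T.nf X (b j) * b i) * v j by rw [map_smul, mul_smul_comm, map_smul, smul_eq_mul, mul_comm (b i), mul_comm]]
  rw [h, mul_zero]

/-- The elements fixing the orthogonal cannot send a nonzero scalar into one line of the base field. -/
theorem fx_eq_one_of_line (T : Frame L G f H x x') (hr : Odd (finrank F L)) {ζ e : L} (hζ : ζ ≠ 0)
    (hall : ∀ s ∈ T.fx, ∃ t : F, T.nf s ζ = t • e) {X : V ≃ₗ[F] V} (hX : X ∈ T.fx) : X = 1 := by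
  classical
  have hline : ∀ η : L, ∃ e' : L, ∀ s ∈ T.fx, ∃ t : F, T.nf s η = t • e' := by
    intro η
    obtain ⟨b, q, hbq, hne⟩ := exists_sq_mul T.ov.two hr (η / ζ)
    rcases eq_or_ne η 0 with rfl | hη
    · exact ⟨0, fun s _ => ⟨0, by simp⟩⟩
    obtain ⟨-, hq⟩ := hne (div_ne_zero hη hζ)
    refine ⟨(q ^ 2)⁻¹ * e, fun s hs => ?_⟩
    obtain ⟨hm, em⟩ := T.tor_conj hs hq
    obtain ⟨t, ht⟩ := hall _ hm
    rw [em] at ht
    refine ⟨b * t, ?_⟩
    rw [show η = b • (q ^ 2 * ζ) by rw [Algebra.smul_def, ← mul_assoc, ← hbq, div_mul_cancel₀ η hζ], map_smul,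
      ← inv_mul_cancel_left₀ (pow_ne_zero 2 hq) (T.nf s (q ^ 2 * ζ)), ht, mul_smul, mul_smul_comm]
  by_contra hX1
  set N := T.nf X
  obtain ⟨η, hη⟩ : ∃ η, N η ≠ 0 := by
    by_contra! h
    exact hX1 (T.eq_one_of_nf hX h)
  obtain ⟨θ, hθ⟩ : ∃ θ, ∀ t : F, N θ ≠ t • N η := by
    by_contra! h
    choose φ hφ using h
    have hadd : ∀ a b, φ (a + b) = φ a + φ b := fun a b => smul_left_injective F hη (by
      show φ (a + b) • N η = (φ a + φ b) • N η
      rw [add_smul, ← hφ, ← hφ, ← hφ, map_add])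
    have hsk : ∀ a, φ a * Algebra.trace F L (N η * a) = 0 := fun a => by
      have h1 := T.nf_skew hX a a
      rw [mul_comm a, ← two_mul] at h1
      have h2 := (mul_eq_zero.mp h1).resolve_left T.ov.two
      change Algebra.trace F L (N a * a) = 0 at h2
      rwa [hφ, smul_mul_assoc, map_smul, smul_eq_mul] at h2
    have hpη : φ η ≠ 0 := fun h => hη (by rw [hφ η, h, zero_smul])
    obtain ⟨b, hb⟩ : ∃ b, Algebra.trace F L (N η * b) ≠ 0 := by
      by_contra! hb
      exact hη (eq_of_trace (F := F) fun c => by rw [mul_comm, hb, mul_zero, map_zero])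
    have hb0 : φ b = 0 := (mul_eq_zero.mp (hsk b)).resolve_right hb
    have he : Algebra.trace F L (N η * η) = 0 := (mul_eq_zero.mp (hsk η)).resolve_left hpη
    have h3 := hsk (η + b)
    rw [hadd, hb0, add_zero, mul_add, map_add, he, zero_add] at h3
    exact mul_ne_zero hpη hb h3
  obtain ⟨a0, ha0, hker⟩ := T.nf_exists_ker hr hX
  let A : AddSubgroup L :=
    { carrier := {a | N a = 0}
      zero_mem' := map_zero N
      add_mem' := fun {a b} (ha : N a = 0) (hb : N b = 0) => show N (a + b) = 0 by rw [map_add, ha, hb, add_zero]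
      neg_mem' := fun {a} (ha : N a = 0) => show N (-a) = 0 by rw [map_neg, ha, neg_zero] }
  refine hη ?_
  have := mul_mem_of_sq T.ov.two A (fun q hq a (ha : N a = 0) => show N (q ^ 2 * a) = 0 by
    obtain ⟨hm, em⟩ := T.tor_conj hX hq
    set Y := T.tor (pow_ne_zero 2 hq) * X * (T.tor (pow_ne_zero 2 hq))⁻¹
    have key : ∀ y, N y ≠ 0 → ∃ t : F, T.nf Y a = t • N y := by
      intro y hy
      obtain ⟨e1, he1⟩ := hline (a + y)
      obtain ⟨e2, he2⟩ := hline y
      obtain ⟨s1, hs1⟩ := he1 X hX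
      obtain ⟨s2, hs2⟩ := he1 Y hm
      obtain ⟨t1, ht1⟩ := he2 X hX
      obtain ⟨t2, ht2⟩ := he2 Y hm
      change N (a + y) = _ at hs1
      change N y = _ at ht1
      rw [map_add, ha, zero_add] at hs1
      have h1 : s1 ≠ 0 := fun h => hy (by rw [hs1, h, zero_smul])
      have h2 : t1 ≠ 0 := fun h => hy (by rw [ht1, h, zero_smul])
      refine ⟨s2 * s1⁻¹ - t2 * t1⁻¹, ?_⟩
      rw [sub_smul]
      conv_rhs => arg 1; rw [hs1, smul_smul, inv_mul_cancel_right₀ h1, ← hs2]
      conv_rhs => arg 2; rw [ht1, smul_smul, inv_mul_cancel_right₀ h2, ← ht2]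
      rw [map_add, add_sub_cancel_right]
    obtain ⟨t, ht⟩ := key η hη
    obtain ⟨t', ht'⟩ := key θ (fun h => hθ 0 (by rw [h, zero_smul]))
    rcases eq_or_ne t' 0 with rfl | ht0
    · rw [zero_smul, em] at ht'
      exact (mul_eq_zero.mp ht').resolve_left (pow_ne_zero 2 hq)
    · exact absurd (show N θ = (t'⁻¹ * t) • N η by rw [mul_smul, ← ht, ht', smul_smul, inv_mul_cancel₀ ht0, one_smul])
        (hθ _)) (η / a0) hker
  rwa [div_mul_cancel₀ η ha0] at this

theorem fx_eq_one_odd (T : Frame L G f H x x') (hF : ¬ Full f H) (hr : Odd (finrank F L)) {X : V ≃ₗ[F] V}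
    (hX : X ∈ T.fx) : X = 1 := by
  classical
  by_contra hX1
  have : Finite V := Module.finite_of_finite F
  have : Finite (V ≃ₗ[F] V) := Finite.of_injective (fun g => (g : V → V)) DFunLike.coe_injective
  obtain ⟨n, l, hn, hl, hlin, hnx, hnx', hnW, hnn, hG⟩ := T.exists_flip
  obtain ⟨a1, ha1, hker⟩ := T.nf_exists_ker hr hX
  set a := -(a1 / l) with ha
  have ha0 : a ≠ 0 := neg_ne_zero.mpr (div_ne_zero ha1 hl)
  let K : Subgroup (V ≃ₗ[F] V) :=
    { carrier := {h | h ∈ H ∧ (∀ z, T.InW z → h z = z) ∧ h (a • x) = a • x}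
      one_mem' := ⟨H.one_mem, fun _ _ => rfl, rfl⟩
      mul_mem' := fun {p q} hp hq => ⟨H.mul_mem hp.1 hq.1, fun z hz => by
          rw [LinearEquiv.mul_apply, hq.2.1 z hz, hp.2.1 z hz], by rw [LinearEquiv.mul_apply, hq.2.2, hp.2.2]⟩
      inv_mem' := fun {p} hp => ⟨H.inv_mem hp.1, fun z hz => by
          show p.symm z = z
          rw [LinearEquiv.symm_apply_eq, hp.2.1 z hz], by
          show p.symm _ = _
          rw [LinearEquiv.symm_apply_eq, hp.2.2]⟩ }
  have hSK : T.fx ≤ K := fun s hs => ⟨hs.1, fun z hz => hs.2 z hz.1, hs.2 _ (by simp [T.sx])⟩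
  have hXa : ∀ c : L, n (c • x) = (-(c * l)) • x' := fun c => by rw [hlin, hnx, smul_smul, mul_neg]
  have hYK : n * X * n ∈ K := by
    refine ⟨H.mul_mem (H.mul_mem hn hX.1) hn, fun z hz => ?_, ?_⟩
    · rw [LinearEquiv.mul_apply, LinearEquiv.mul_apply, hX.2 _ (hnW z hz).1, hnn]
    · rw [LinearEquiv.mul_apply, LinearEquiv.mul_apply, hXa, T.nf_x' hX,
        show -(a * l) = a1 by rw [ha]; field_simp, hker, zero_smul, add_zero,
        show a1 • x' = n (a • x) by rw [hXa, show -(a * l) = a1 by rw [ha]; field_simp], hnn]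
  have hstab : ∀ h ∈ K, (∀ c : L, ∃ b : L, h (c • x) = b • x) → h ∈ T.fx := by
    intro h hh hst
    obtain ⟨k0, -, hk0⟩ := T.line_linear hF hh.1 hst fun c z hz => by
      obtain ⟨b, hb⟩ := hst (c * G z x')
      obtain ⟨b', hb'⟩ := hst (G z x')
      refine ⟨b - c * b', ?_⟩
      have e : h z = b' • x + T.proj z := by
        conv_lhs => rw [T.decomp_perp hz, map_add, hb', hh.2.1 _ (T.proj_mem z)]
      conv_lhs => rw [T.decomp_perp hz, smul_add, smul_smul, map_add, hb, hh.2.1 _ (T.inW_smul (T.proj_mem z) c)]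
      rw [e, smul_add, smul_smul, sub_smul]
      abel
    have hk1 : k0 = 1 := by
      have h1 := smul_left_injective L T.x_ne ((hk0 a).symm.trans hh.2.2)
      exact (mul_left_eq_self₀.mp h1).resolve_right ha0
    refine ⟨hh.1, fun z hz => ?_⟩
    conv_lhs => rw [T.decomp_perp hz, map_add, hk0, hk1, one_mul, hh.2.1 _ (T.proj_mem z)]
    exact (T.decomp_perp hz).symm
  have hgen : ∀ (g : V ≃ₗ[F] V) (R : Subgroup (V ≃ₗ[F] V)) (s0 : V ≃ₗ[F] V), g ∈ K → R ≤ T.fx → s0 ∈ T.fx →
      T.fx ≤ R ⊔ Subgroup.zpowers s0 → (∀ t ∈ R, ∀ c, ∃ b : L, g (T.nf t c • x) = b • x) → g ∈ T.fx := by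
    intro g R s0 hg hR hs0 hle himg
    refine hstab g hg fun c => ?_
    let U : Submodule F L :=
      { carrier := {c | ∃ b : L, g (c • x) = b • x}
        zero_mem' := ⟨0, by simp⟩
        add_mem' := fun {p q} ⟨b, hb⟩ ⟨b', hb'⟩ => ⟨b + b', by rw [add_smul, map_add, hb, hb', add_smul]⟩
        smul_mem' := fun t p ⟨b, hb⟩ => ⟨t • b, by rw [smul_assoc, map_smul, hb, smul_assoc]⟩ }
    suffices hU : U = ⊤ from show c ∈ U by rw [hU]; exact Submodule.mem_top
    by_contra hU
    obtain ⟨φ, hφ0, hφ⟩ := Submodule.exists_dual_map_eq_bot_of_lt_top (lt_top_iff_ne_top.mpr hU) inferInstance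
    set ζ := (Algebra.traceForm F L).toDual (traceForm_nondegenerate F L) |>.symm φ
    have hζ : ∀ b, Algebra.trace F L (ζ * b) = φ b := fun b => by
      rw [← Algebra.traceForm_apply]; exact LinearMap.BilinForm.apply_toDual_symm_apply φ b
    have hζ0 : ζ ≠ 0 := fun h => hφ0 (LinearMap.ext fun b => by rw [← hζ, h, zero_mul, map_zero]; rfl)
    let M : Subgroup (V ≃ₗ[F] V) :=
      { carrier := {s | s ∈ T.fx ∧ ∃ t : F, T.nf s ζ = t • T.nf s0 ζ}
        one_mem' := ⟨T.fx.one_mem, 0, by rw [T.nf_one, zero_smul]⟩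
        mul_mem' := fun {p q} ⟨hp, t, et⟩ ⟨hq, t', et'⟩ =>
          ⟨T.fx.mul_mem hp hq, t + t', by rw [T.nf_mul hp hq, et, et', add_smul]⟩
        inv_mem' := fun {p} ⟨hp, t, et⟩ => ⟨T.fx.inv_mem hp, -t, by
          have h := T.nf_mul hp (T.fx.inv_mem hp) ζ
          rw [mul_inv_cancel, T.nf_one, et] at h
          rw [neg_smul]
          exact eq_neg_of_add_eq_zero_right h.symm⟩ }
    have hRM : R ≤ M := fun t ht => ⟨hR ht, 0, by
      rw [zero_smul]
      refine eq_of_trace (F := F) fun c => ?_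
      have hu : T.nf t c ∈ U := himg t ht c
      have h0 : φ (T.nf t c) = 0 := LinearMap.mem_ker.mp (by
        have : φ (T.nf t c) ∈ U.map φ := Submodule.mem_map_of_mem hu
        rwa [hφ, Submodule.mem_bot] at this)
      rw [mul_zero, map_zero]
      have h := T.nf_skew (hR ht) c ζ
      rw [mul_comm _ ζ, hζ, h0, zero_add] at h
      exact h⟩
    have hM : T.fx ≤ M := hle.trans (sup_le hRM (Subgroup.zpowers_le.mpr ⟨hs0, 1, (one_smul _ _).symm⟩))
    exact hX1 (T.fx_eq_one_of_line hr hζ0 (fun s hs => (hM hs).2) hX)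
  set p := ringChar F with hp
  haveI : CharP F p := ringChar.charP F
  have hpp : p.Prime := CharP.char_is_prime F p
  haveI : Fact p.Prime := ⟨hpp⟩
  let S : Subgroup K := T.fx.subgroupOf K
  have hSp : IsPGroup p S := fun s => ⟨1, Subtype.ext (Subtype.ext (by
    have hs : ((s : K) : V ≃ₗ[F] V) ∈ T.fx := s.2
    show ((s : K) : V ≃ₗ[F] V) ^ p ^ 1 = 1
    rw [pow_one]
    refine T.eq_one_of_nf (T.fx.pow_mem hs p) fun c => ?_
    rw [T.nf_pow hs, ← Nat.cast_smul_eq_nsmul F, CharP.cast_eq_zero, zero_smul]))⟩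
  have hnorm : ∀ g : K, (∀ s ∈ S, g * s * g⁻¹ ∈ S) → g ∈ S := by
    intro g hg
    refine hgen g T.fx 1 g.2 le_rfl T.fx.one_mem le_sup_left fun t ht c => ?_
    have h1 : ((g : V ≃ₗ[F] V) * t * (g : V ≃ₗ[F] V)⁻¹) ∈ T.fx := hg ⟨t, hSK ht⟩ ht
    have h2 := T.nf_spec h1 ((g : V ≃ₗ[F] V) (c • x'))
    rw [LinearEquiv.mul_apply, LinearEquiv.mul_apply,
      show ((g : V ≃ₗ[F] V)⁻¹ : V ≃ₗ[F] V) ((g : V ≃ₗ[F] V) (c • x')) = c • x' from LinearEquiv.symm_apply_apply _ _,
      T.nf_x' ht, map_add, add_right_inj] at h2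
    exact ⟨_, h2⟩
  obtain ⟨P, hP⟩ := hSp.exists_le_sylow
  have hPS : (P : Subgroup K) = S := by
    by_contra hne
    have hlt : S.subgroupOf (P : Subgroup K) < ⊤ := lt_top_iff_ne_top.mpr fun h =>
      hne (le_antisymm (Subgroup.subgroupOf_eq_top.mp h) hP)
    haveI := P.2.isNilpotent
    obtain ⟨g, hg, hg'⟩ := SetLike.exists_of_lt
      (Group.normalizerCondition_of_isNilpotent (G := (P : Subgroup K)) _ hlt)
    exact hg' (hnorm _ fun s hs => (Subgroup.mem_normalizer_iff.mp hg ⟨s, hP hs⟩).mp hs)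
  have hPC : Subgroup.normalizer ((P : Subgroup K) : Set K) ≤ Subgroup.centralizer ((P : Subgroup K) : Set K) := by
    rw [hPS]
    intro g hg
    have hgS : g ∈ S := hnorm g fun s hs => (Subgroup.mem_normalizer_iff.mp hg s).mp hs
    exact Subgroup.mem_centralizer_iff.mpr fun s hs => Subtype.ext (T.fx_comm hs hgS)
  set O := (MonoidHom.transferSylow P hPC).ker with hO
  have hcomp : Subgroup.IsComplement' O (P : Subgroup K) := MonoidHom.ker_transferSylow_isComplement' P hPC
  rw [hPS] at hcomp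
  have hdis : O ⊓ S = ⊥ := hcomp.disjoint.eq_bot
  have hcopO : ∀ A : Subgroup K, A ≤ S → (Nat.card A).Coprime (Nat.card O) := fun A hA => by
    obtain ⟨k, hk⟩ := (IsPGroup.iff_card).mp (hSp.to_le hA)
    rw [hk]
    exact (hpp.coprime_iff_not_dvd.mpr (MonoidHom.not_dvd_card_ker_transferSylow P hPC)).pow_left k
  have main : ∀ (k : ℕ) (R : Subgroup K), R ≤ S → Nat.card S ≤ Nat.card R + k →
      O ⊓ Subgroup.centralizer (R : Set K) = ⊥ := by
    intro k
    induction k using Nat.strong_induction_on with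
    | _ k ih =>
      intro R hR hk
      by_cases hcyc : ∃ s0 ∈ S, S ≤ R ⊔ Subgroup.zpowers s0
      · obtain ⟨s0, hs0, hle⟩ := hcyc
        rw [eq_bot_iff]
        rintro o ⟨ho, hoR⟩
        suffices h : o ∈ S from hdis ▸ ⟨ho, h⟩
        refine hgen o (R.map K.subtype) s0 o.2 (by rintro _ ⟨t, ht, rfl⟩; exact hR ht) hs0 (fun s hs => ?_) ?_
        · have h : (⟨s, hSK hs⟩ : K) ∈ R ⊔ Subgroup.zpowers s0 := hle hs
          have h' := Subgroup.mem_map_of_mem K.subtype h
          rw [Subgroup.map_sup, MonoidHom.map_zpowers] at h'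
          exact h'
        rintro _ ⟨t, ht, rfl⟩ c
        have hco : t * o = o * t := Subgroup.mem_centralizer_iff.mp hoR t ht
        have e : ((t : V ≃ₗ[F] V)) ((o : V ≃ₗ[F] V) (c • x')) = (o : V ≃ₗ[F] V) ((t : V ≃ₗ[F] V) (c • x')) :=
          LinearEquiv.congr_fun (congrArg Subtype.val hco) _
        have htf : (t : V ≃ₗ[F] V) ∈ T.fx := hR ht
        rw [T.nf_spec htf, T.nf_x' htf, map_add, add_right_inj] at e
        exact ⟨_, e.symm⟩
      push Not at hcyc
      obtain ⟨a', ha', haR⟩ : ∃ a' ∈ S, a' ∉ R := by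
        by_contra! h
        exact hcyc 1 S.one_mem (le_sup_of_le_left h)
      obtain ⟨b', hb', hbR⟩ : ∃ b' ∈ S, b' ∉ R ⊔ Subgroup.zpowers a' := SetLike.not_le_iff_exists.mp (hcyc a' ha')
      set A := Subgroup.closure ({a', b'} : Set K) with hA
      have hAS : A ≤ S := (Subgroup.closure_le _).mpr (by rintro c (rfl | rfl) <;> assumption)
      haveI : IsMulCommutative A := ⟨⟨fun u v => Subtype.ext (Subtype.ext (T.fx_comm (hAS u.2) (hAS v.2)))⟩⟩
      have hordp : ∀ c ∈ S, c ^ p = 1 := fun c hc => Subtype.ext (T.eq_one_of_nf (T.fx.pow_mem hc p) fun b => by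
        rw [SubmonoidClass.coe_pow, T.nf_pow (show (c : V ≃ₗ[F] V) ∈ T.fx from hc), ← Nat.cast_smul_eq_nsmul F, CharP.cast_eq_zero, zero_smul])
      have hnc : ¬ IsCyclic A := by
        intro hc
        obtain ⟨g, hg⟩ := hc.exists_generator
        have hga : ∀ c ∈ A, c ∈ Subgroup.zpowers (g : K) := fun c hc' => by
          obtain ⟨i, hi⟩ := hg ⟨c, hc'⟩
          exact ⟨i, congrArg Subtype.val hi⟩
        have ha1' : a' ≠ 1 := fun h => haR (h ▸ R.one_mem)
        have e : Subgroup.zpowers a' = Subgroup.zpowers (g : K) := by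
          refine Subgroup.eq_of_le_of_card_ge (Subgroup.zpowers_le.mpr (hga a' (Subgroup.subset_closure (by simp)))) ?_
          rw [Nat.card_zpowers, Nat.card_zpowers, orderOf_eq_prime (hordp a' ha') ha1']
          exact Nat.le_of_dvd hpp.pos (orderOf_dvd_of_pow_eq_one (hordp _ (hAS g.2)))
        exact hbR (Subgroup.mem_sup_right (e ▸ hga b' (Subgroup.subset_closure (by simp))))
      set Q := O ⊓ Subgroup.centralizer (R : Set K) with hQ
      have hAQ : A ≤ Subgroup.normalizer (Q : Set K) := by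
        intro c hc
        rw [Subgroup.mem_normalizer_iff]
        have hn : (O : Subgroup K).Normal := MonoidHom.normal_ker _
        have hcR : ∀ d : K, d ∈ Subgroup.centralizer (R : Set K) →
            c * d * c⁻¹ ∈ Subgroup.centralizer (R : Set K) := fun d hd =>
          Subgroup.mul_mem _ (Subgroup.mul_mem _ (Subgroup.mem_centralizer_iff.mpr fun t ht =>
            Subtype.ext (T.fx_comm (hR ht) (hAS hc))) hd)
            (Subgroup.inv_mem _ (Subgroup.mem_centralizer_iff.mpr fun t ht =>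
              Subtype.ext (T.fx_comm (hR ht) (hAS hc))))
        intro d
        refine ⟨fun hd => ⟨hn.conj_mem d hd.1 c, hcR d hd.2⟩, fun hd => ⟨?_, ?_⟩⟩
        · have := hn.conj_mem _ hd.1 c⁻¹
          simpa [mul_assoc] using this
        · have hC : c ∈ Subgroup.centralizer (R : Set K) := Subgroup.mem_centralizer_iff.mpr fun t ht =>
            Subtype.ext (T.fx_comm (hR ht) (hAS hc))
          have := Subgroup.mul_mem _ (Subgroup.mul_mem _ (Subgroup.inv_mem _ hC) hd.2) hC
          simpa [mul_assoc] using this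
      have hgenA := Cfsg.Lib.Coprime.centralizerJoin_eq hnc hAQ
        ((hcopO A hAS).coprime_dvd_right (Subgroup.card_dvd_of_le inf_le_left))
      rw [← hgenA, eq_bot_iff]
      refine iSup₂_le fun c ⟨hc, hc1⟩ => ?_
      have hcR' : c ∉ R := by
        intro hcR
        have hab : Commute a' b' := Subtype.ext (T.fx_comm ha' hb')
        obtain ⟨i, j, rfl⟩ : ∃ i j : ℤ, a' ^ i * b' ^ j = c := by
          refine Subgroup.closure_induction ?_ ⟨0, 0, by simp⟩ ?_ ?_ hc
          · rintro z (rfl | rfl)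
            · exact ⟨1, 0, by simp⟩
            · exact ⟨0, 1, by simp⟩
          · rintro _ _ - - ⟨i, j, rfl⟩ ⟨i', j', rfl⟩
            exact ⟨i + i', j + j', by rw [zpow_add, zpow_add, (hab.zpow_zpow i' j).mul_mul_mul_comm]⟩
          · rintro _ - ⟨i, j, rfl⟩
            exact ⟨-i, -j, by rw [zpow_neg, zpow_neg, ← mul_inv_rev, (hab.zpow_zpow i j).eq]⟩
        by_cases hj : (p : ℤ) ∣ j
        · obtain ⟨j, rfl⟩ := hj
          rw [zpow_mul, zpow_natCast, hordp b' hb', one_zpow, mul_one] at hcR hc1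
          by_cases hi : (p : ℤ) ∣ i
          · obtain ⟨i, rfl⟩ := hi
            exact hc1 (by rw [zpow_mul, zpow_natCast, hordp a' ha', one_zpow])
          · obtain ⟨u, v, huv⟩ := (Nat.prime_iff_prime_int.mp hpp).coprime_iff_not_dvd.mpr hi
            refine haR ?_
            rw [← zpow_one a', ← huv, zpow_add, mul_comm u, zpow_mul a' (p : ℤ), zpow_natCast, hordp a' ha', one_zpow,
              one_mul, mul_comm v, zpow_mul]
            exact zpow_mem hcR v
        · obtain ⟨u, v, huv⟩ := (Nat.prime_iff_prime_int.mp hpp).coprime_iff_not_dvd.mpr hj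
          refine hbR ?_
          have hbj : b' ^ j ∈ R ⊔ Subgroup.zpowers a' := by
            have h : (a' ^ i)⁻¹ * (a' ^ i * b' ^ j) ∈ R ⊔ Subgroup.zpowers a' :=
              Subgroup.mul_mem _ (Subgroup.inv_mem _ (Subgroup.mem_sup_right ⟨i, rfl⟩)) (Subgroup.mem_sup_left hcR)
            rwa [inv_mul_cancel_left] at h
          rw [← zpow_one b', ← huv, zpow_add, mul_comm u, zpow_mul b' (p : ℤ), zpow_natCast, hordp b' hb', one_zpow,
            one_mul, mul_comm v, zpow_mul]
          exact zpow_mem hbj v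
      have hcS : c ∈ S := hAS hc
      have hR' : R ⊔ Subgroup.zpowers c ≤ S := sup_le hR (Subgroup.zpowers_le.mpr hcS)
      have hlt : R < R ⊔ Subgroup.zpowers c := lt_of_le_of_ne le_sup_left fun h =>
        hcR' (h ▸ Subgroup.mem_sup_right (Subgroup.mem_zpowers c))
      have hcard : Nat.card R < Nat.card (R ⊔ Subgroup.zpowers c : Subgroup K) := by
        by_contra! hle'
        exact hlt.ne (Subgroup.eq_of_le_of_card_ge hlt.le hle')
      have hcardS : Nat.card (R ⊔ Subgroup.zpowers c : Subgroup K) ≤ Nat.card S :=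
        Nat.le_of_dvd Nat.card_pos (Subgroup.card_dvd_of_le hR')
      have := ih (k - 1) (by omega) (R ⊔ Subgroup.zpowers c) hR' (by omega)
      rintro o ⟨⟨ho, hoR⟩, hoc⟩
      refine this ▸ ⟨ho, Subgroup.mem_centralizer_iff.mpr fun t ht => ?_⟩
      have hle : R ⊔ Subgroup.zpowers c ≤ Subgroup.centralizer ({o} : Set K) := sup_le
        (fun t ht => Subgroup.mem_centralizer_singleton_iff.mpr (Subgroup.mem_centralizer_iff.mp hoR t ht))
        (Subgroup.zpowers_le.mpr (Subgroup.mem_centralizer_singleton_iff.mpr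
          (Subgroup.mem_centralizer_singleton_iff.mp hoc).symm))
      exact Subgroup.mem_centralizer_singleton_iff.mp (hle ht)
  have hO1 : O = ⊥ := by
    have := main (Nat.card S) ⊥ bot_le (Nat.le_add_left _ _)
    rwa [eq_bot_iff.mpr (le_of_eq this) |> fun _ => show O ⊓ Subgroup.centralizer ((⊥ : Subgroup K) : Set K) = O by
      rw [inf_eq_left]; exact fun g _ => Subgroup.mem_centralizer_iff.mpr fun t ht => by
        rw [Subgroup.mem_bot.mp ht, one_mul, mul_one]] at this
  have hY : (⟨n * X * n, hYK⟩ : K) ∈ S := by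
    rw [hO1] at hcomp
    rw [Subgroup.isComplement'_bot_left.mp hcomp]
    exact Subgroup.mem_top _
  refine hX1 (T.eq_one_of_nf hX fun c => ?_)
  have h1 := (show n * X * n ∈ T.fx from hY).2 ((-(c / l)) • x) (by simp [T.sx])
  rw [LinearEquiv.mul_apply, LinearEquiv.mul_apply, hXa, show -(-(c / l) * l) = c by field_simp, T.nf_x' hX] at h1
  have h2 := congrArg n h1
  rw [hnn, hXa, show -(-(c / l) * l) = c by field_simp, add_eq_left, smul_eq_zero] at h2
  exact h2.resolve_right T.x_ne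

/-- Only the identity fixes the orthogonal of a singular line. -/
theorem fx_eq_one (T : Frame L G f H x x') (hF : ¬ Full f H) {X : V ≃ₗ[F] V} (hX : X ∈ H)
    (hfix : ∀ z, G z x = 0 → X z = z) : X = 1 := by
  rcases T.ov.prime.eq_two_or_odd' with h | h
  · exact T.fx_eq_one_two hF h ⟨hX, hfix⟩
  · exact T.fx_eq_one_odd hF h ⟨hX, hfix⟩

end Frame

end Cfsg.Lib.Classical.ExtFieldOrth
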