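import Cfsg.Agent.Classical.ExtFieldOrth.Setting

/-! A hyperbolic frame and the elements of an overgroup adapted to it. -/

set_option autoImplicit false
set_option linter.unusedSectionVars false

namespace Cfsg.Lib.Classical.ExtFieldOrth

open Module Cfsg.Lib.Classical
open scoped commutatorElement

section Maps

variable {K W : Type*} [Field K] [AddCommGroup W] [Module K W] (B : LinearMap.BilinForm K W)

/-- Scale the two vectors of a hyperbolic pair. -/
def dia (x x' : W) (c d : K) (z : W) : W :=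
  z + ((c - 1) * B z x') • x + ((d - 1) * B z x) • x'

theorem dia_dia {x x' : W} (hx : B x x = 0) (hx' : B x' x' = 0) (h : B x x' = 1) (h' : B x' x = 1)
    (c d c' d' : K) (z : W) : dia B x x' c d (dia B x x' c' d' z) = dia B x x' (c * c') (d * d') z := by
  simp only [dia, map_add, map_smul, LinearMap.add_apply, LinearMap.smul_apply, smul_eq_mul, hx, hx', h, h']
  match_scalars <;> ring

/-- The linear map `dia`. -/
def diaLin (x x' : W) (c d : K) : W →ₗ[K] W where
  toFun := dia B x x' c d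
  map_add' a b := by simp only [dia, map_add, LinearMap.add_apply, mul_add, add_smul]; abel
  map_smul' s a := by
    simp only [dia, map_smul, LinearMap.smul_apply, smul_eq_mul, RingHom.id_apply, smul_add, smul_smul]
    match_scalars <;> ring

end Maps

variable {F L V : Type*} [Field F] [Finite F] [Field L] [Algebra F L] [FiniteDimensional F L]
  [AddCommGroup V] [Module F V] [Module L V] [IsScalarTower F L V] [FiniteDimensional F V]

variable (L) in
/-- An overgroup together with a hyperbolic pair over `L`. -/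
structure Frame (G : LinearMap.BilinForm L V) (f : LinearMap.BilinForm F V) (H : Subgroup (V ≃ₗ[F] V)) (x x' : V) :
    Prop where
  ov : Over L G f H
  sx : G x x = 0
  sx' : G x' x' = 0
  pair : G x x' = 1

variable {G : LinearMap.BilinForm L V} {f : LinearMap.BilinForm F V} {H : Subgroup (V ≃ₗ[F] V)} {x x' : V}

namespace Frame

theorem pair' (T : Frame L G f H x x') : G x' x = 1 := by rw [T.ov.sG.symm]; exact T.pair

theorem swap (T : Frame L G f H x x') : Frame L G f H x' x := ⟨T.ov, T.sx', T.sx, T.pair'⟩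

theorem x_ne (T : Frame L G f H x x') : x ≠ 0 := (T.ov.sG.pair_ne_zero T.pair).1

theorem f_line (T : Frame L G f H x x') (a b : L) : f (a • x) (b • x) = 0 := by
  simp [T.ov.trace, T.sx]

theorem f_line_pair (T : Frame L G f H x x') (a b : L) : f (a • x) (b • x') = Algebra.trace F L (a * b) := by
  simp [T.ov.trace, T.pair, mul_comm]

/-- The component orthogonal to the pair. -/
def proj (_T : Frame L G f H x x') (z : V) : V := z - G z x' • x - G z x • x'

/-- Orthogonal to the pair. -/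
def InW (_T : Frame L G f H x x') (z : V) : Prop := G z x = 0 ∧ G z x' = 0

theorem proj_mem (T : Frame L G f H x x') (z : V) : T.InW (T.proj z) :=
  ⟨by simp [proj, T.sx, T.pair'], by simp [proj, T.sx', T.pair]⟩

theorem decomp (T : Frame L G f H x x') (z : V) : z = G z x' • x + T.proj z + G z x • x' := by
  simp [proj]; abel

theorem f_w_line (T : Frame L G f H x x') {w : V} (hw : T.InW w) (a : L) : f w (a • x) = 0 := by
  rw [T.ov.trace, map_smul, hw.1, smul_zero, map_zero]

theorem f_w_line' (T : Frame L G f H x x') {w : V} (hw : T.InW w) (a : L) : f w (a • x') = 0 :=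
  T.swap.f_w_line ⟨hw.2, hw.1⟩ a

theorem inW_smul (T : Frame L G f H x x') {w : V} (hw : T.InW w) (a : L) : T.InW (a • w) :=
  ⟨by simp [hw.1], by simp [hw.2]⟩

theorem mem_line (T : Frame L G f H x x') {d : V} (h : ∀ y, G y x = 0 → f d y = 0) : d = G d x' • x := by
  have hG : ∀ y, G y x = 0 → G d y = 0 := fun y hy => T.ov.eq_zero_of_trace fun c => by
    rw [T.ov.f_smul]; exact h _ (by simp [hy])
  refine sub_eq_zero.mp (T.ov.sG.nondeg _ fun y => ?_)
  have hy : G d (y - G y x • x') = 0 := hG _ (by simp [T.pair'])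
  have hdx : G d x = 0 := hG x T.sx
  rw [map_sub, map_smul, smul_eq_mul] at hy
  rw [map_sub, LinearMap.sub_apply, map_smul, LinearMap.smul_apply, smul_eq_mul, T.ov.sG.symm x y,
    sub_eq_zero.mp hy, mul_comm, sub_self]

theorem exists_aniso (T : Frame L G f H x x') : ∃ w, T.InW w ∧ G w w ≠ 0 := by
  classical
  by_contra! hall
  have hW : ∀ z, T.proj z = 0 := by
    intro z
    refine T.ov.sG.nondeg _ fun y => ?_
    have h2 := T.ov.sG.two
    have e : ∀ a b, T.InW a → T.InW b → G a b = 0 := fun a b ha hb => by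
      have h := hall (a + b) ⟨by simp [ha.1, hb.1], by simp [ha.2, hb.2]⟩
      simp only [map_add, LinearMap.add_apply, hall a ha, hall b hb, T.ov.sG.symm b a] at h
      exact (mul_eq_zero.mp (show (2 : L) * G a b = 0 by linear_combination h)).resolve_left h2
    rw [T.decomp y, map_add, map_add, map_smul, map_smul, (T.proj_mem z).1, (T.proj_mem z).2,
      e _ _ (T.proj_mem z) (T.proj_mem y), smul_zero, smul_zero, add_zero, add_zero]
  have htop : Submodule.span L ({x, x'} : Set V) = ⊤ := Submodule.eq_top_iff'.mpr fun z => by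
    refine Submodule.mem_span_pair.mpr ⟨G z x', G z x, ?_⟩
    conv_rhs => rw [T.decomp z, hW z, add_zero]
  have h1 := finrank_span_finset_le_card ({x, x'} : Finset V) (R := L)
  rw [Set.finrank, Finset.coe_pair, htop, finrank_top] at h1
  have := T.ov.three_le
  have := Finset.card_le_two (a := x) (b := x')
  omega

/-- The diagonal map as an automorphism. -/
def diaE (T : Frame L G f H x x') {c d : L} (hc : c ≠ 0) (hd : d ≠ 0) : V ≃ₗ[L] V :=
  LinearEquiv.ofLinearMap (diaLin G x x' c d) (diaLin G x x' c⁻¹ d⁻¹)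
    (LinearMap.ext fun z => by
      show dia G x x' c d (dia G x x' c⁻¹ d⁻¹ z) = z
      rw [dia_dia G T.sx T.sx' T.pair T.pair', mul_inv_cancel₀ hc, mul_inv_cancel₀ hd]; simp [dia])
    (LinearMap.ext fun z => by
      show dia G x x' c⁻¹ d⁻¹ (dia G x x' c d z) = z
      rw [dia_dia G T.sx T.sx' T.pair T.pair', inv_mul_cancel₀ hc, inv_mul_cancel₀ hd]; simp [dia])

theorem diaE_apply (T : Frame L G f H x x') {c d : L} (hc : c ≠ 0) (hd : d ≠ 0) (z : V) :
    T.diaE hc hd z = dia G x x' c d z := rfl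

/-- The torus element with a square parameter. -/
noncomputable def tor (T : Frame L G f H x x') {c : L} (hc : c ≠ 0) : V ≃ₗ[F] V :=
  resHom (T.diaE hc (inv_ne_zero hc))

theorem tor_apply (T : Frame L G f H x x') {c : L} (hc : c ≠ 0) (z : V) :
    T.tor hc z = dia G x x' c c⁻¹ z := rfl

theorem tor_x (T : Frame L G f H x x') {c : L} (hc : c ≠ 0) (a : L) : T.tor hc (a • x) = (c * a) • x := by
  rw [tor_apply, dia]
  simp [T.pair, T.sx]
  module

theorem tor_x' (T : Frame L G f H x x') {c : L} (hc : c ≠ 0) (a : L) : T.tor hc (a • x') = (c⁻¹ * a) • x' := by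
  rw [tor_apply, dia]
  simp [T.pair', T.sx']
  module

theorem tor_fix (T : Frame L G f H x x') {c : L} (hc : c ≠ 0) {z : V} (hz : T.InW z) : T.tor hc z = z := by
  rw [tor_apply, dia, hz.1, hz.2]; simp

theorem tor_sq_mem (T : Frame L G f H x x') {d : L} (hd : d ≠ 0) : T.tor (pow_ne_zero 2 hd) ∈ H := by
  have e2 : (2 : L) ≠ 0 := T.ov.sG.two
  have e2' : (-2 : L) ≠ 0 := neg_ne_zero.mpr e2
  have hu : G (x - x') (x - x') ≠ 0 := by
    simp [T.sx, T.sx', T.pair, T.pair']
    intro h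
    exact e2 (by linear_combination -h)
  have hs : ∀ z, rfE T.ov.sG hu z = z + (G z x - G z x') • x + (G z x' - G z x) • x' := by
    intro z
    rw [rfE_apply, rf]
    simp only [map_sub, LinearMap.sub_apply, T.sx, T.sx', T.pair, T.pair', zero_sub, sub_zero]
    match_scalars <;> simp [inv_neg, neg_div, div_eq_mul_inv] <;> field_simp <;> ring_nf <;>
      simp [inv_neg, mul_assoc, inv_mul_cancel₀ e2] <;> ring
  have key : T.tor (pow_ne_zero 2 hd) = resHom ⁅T.diaE hd (inv_ne_zero hd), rfE T.ov.sG hu⁆ := by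
    refine LinearEquiv.ext fun z => ?_
    show dia G x x' (d ^ 2) (d ^ 2)⁻¹ z =
      T.diaE hd (inv_ne_zero hd) (rfE T.ov.sG hu ((T.diaE hd (inv_ne_zero hd)).symm ((rfE T.ov.sG hu)⁻¹ z)))
    rw [rfE_inv, show ∀ w, (T.diaE hd (inv_ne_zero hd)).symm w = dia G x x' d⁻¹ d⁻¹⁻¹ w from fun w => rfl, hs, hs,
      diaE_apply]
    simp only [dia, map_add, map_smul, LinearMap.add_apply, LinearMap.smul_apply, smul_eq_mul, T.sx, T.sx', T.pair,
      T.pair', inv_inv]
    match_scalars <;> field_simp <;> ring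
  rw [key]
  refine T.ov.comm_mem (T.diaE hd (inv_ne_zero hd)) (rfE T.ov.sG hu) (fun u v => ?_) (rf_form T.ov.sG hu)
  simp only [diaE_apply, dia, map_add, map_smul, LinearMap.add_apply, LinearMap.smul_apply, smul_eq_mul, T.sx, T.sx',
    T.pair, T.pair', T.ov.sG.symm x v, T.ov.sG.symm x' v]
  field_simp
  ring

/-- An element of `H` exchanging the lines of the pair. -/
theorem exists_flip (T : Frame L G f H x x') :
    ∃ (n : V ≃ₗ[F] V) (l : L), n ∈ H ∧ l ≠ 0 ∧ IsLin L n ∧ n x = -l • x' ∧ n x' = -l⁻¹ • x ∧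
      (∀ z, T.InW z → T.InW (n z)) ∧ (∀ z, n (n z) = z) ∧ ∀ u v, G (n u) (n v) = G u v := by
  obtain ⟨w, hw, hww⟩ := T.exists_aniso
  have e2 : (2 : L) ≠ 0 := T.ov.sG.two
  set l := G w w / 2 with hl
  have hl0 : l ≠ 0 := div_ne_zero hww e2
  have huu : G (x + l • x') (x + l • x') = G w w := by
    simp [T.sx, T.sx', T.pair, T.pair', hl]
    field_simp
    ring
  have hu : G (x + l • x') (x + l • x') ≠ 0 := by rw [huu]; exact hww
  have huw : G (x + l • x') w = 0 := by simp [T.ov.sG.symm x w, T.ov.sG.symm x' w, hw.1, hw.2]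
  have happ : ∀ z, rfE T.ov.sG hu (rfE T.ov.sG hww z) = rf G (x + l • x') (rf G w z) := fun z => rfl
  refine ⟨resHom (rfE T.ov.sG hu * rfE T.ov.sG hww), l, T.ov.rfl_mem hu hww huw huu, hl0, isLin_resHom _,
    ?_, ?_, fun z hz => ?_, fun z => ?_, fun u v => ?_⟩
  · show rf G (x + l • x') (rf G w x) = _
    have hxw : G x w = 0 := by rw [T.ov.sG.symm]; exact hw.1
    simp only [rf, map_add, map_smul, LinearMap.add_apply, LinearMap.smul_apply, smul_eq_mul, hxw, T.sx, T.sx',
      T.pair, T.pair', zero_div, mul_zero, zero_smul, sub_zero]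
    have key : 2 / (l + l) = l⁻¹ := by rw [← two_mul, div_eq_mul_inv, mul_inv, mul_inv_cancel_left₀ e2]
    have key2 : 2 * (l / (l + l)) = 1 := by rw [← two_mul, ← mul_div_assoc, div_self (mul_ne_zero e2 hl0)]
    match_scalars <;> simp [key, key2, hl0, mul_div_assoc]
  · show rf G (x + l • x') (rf G w x') = _
    have hxw : G x' w = 0 := by rw [T.ov.sG.symm]; exact hw.2
    simp only [rf, map_add, map_smul, LinearMap.add_apply, LinearMap.smul_apply, smul_eq_mul, hxw, T.sx, T.sx',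
      T.pair, T.pair', zero_div, mul_zero, zero_smul, sub_zero]
    have key : 2 / (l + l) = l⁻¹ := by rw [← two_mul, div_eq_mul_inv, mul_inv, mul_inv_cancel_left₀ e2]
    have key2 : 2 * (l / (l + l)) = 1 := by rw [← two_mul, ← mul_div_assoc, div_self (mul_ne_zero e2 hl0)]
    match_scalars <;> simp [key, key2, hl0, mul_div_assoc]
  · show T.InW (rf G (x + l • x') (rf G w z))
    have h1 : G (rf G w z) (x + l • x') = 0 := by
      simp [rf, hz.1, hz.2, hw.1, hw.2]
    rw [rf, h1]
    simp [rf, InW, hz.1, hz.2, hw.1, hw.2]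
  · show rf G (x + l • x') (rf G w (rf G (x + l • x') (rf G w z))) = z
    have hc : ∀ a, rf G w (rf G (x + l • x') a) = rf G (x + l • x') (rf G w a) := by
      intro a
      simp only [rf, map_sub, map_smul, LinearMap.sub_apply, LinearMap.smul_apply, huw,
        T.ov.sG.symm w (x + l • x'), smul_eq_mul, mul_zero, sub_zero, smul_sub, smul_zero]
      abel
    rw [hc, rf_rf T.ov.sG hu, rf_rf T.ov.sG hww]
  · show G (rf G (x + l • x') (rf G w u)) (rf G (x + l • x') (rf G w v)) = _
    rw [rf_form T.ov.sG hu, rf_form T.ov.sG hww]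

/-- Elements trivial on the line and on its orthogonal modulo the line. -/
structure InU (_T : Frame L G f H x x') (u : V ≃ₗ[F] V) : Prop where
  mem : u ∈ H
  fixLine : ∀ a : L, u (a • x) = a • x
  shift : ∀ z, G z x = 0 → ∃ c : L, u z = z + c • x

/-- The coefficient map. -/
def phi (_T : Frame L G f H x x') (u : V ≃ₗ[F] V) (z : V) : L := G (u z) x'

theorem InU.apply_W {T : Frame L G f H x x'} {u : V ≃ₗ[F] V} (hu : T.InU u) {z : V} (hz : T.InW z) :
    u z = z + T.phi u z • x := by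
  obtain ⟨c, hc⟩ := hu.shift z hz.1
  have : T.phi u z = c := by simp [phi, hc, hz.2, T.pair]
  rw [this, hc]

theorem InU.mul {T : Frame L G f H x x'} {u v : V ≃ₗ[F] V} (hu : T.InU u) (hv : T.InU v) : T.InU (u * v) where
  mem := H.mul_mem hu.mem hv.mem
  fixLine a := by rw [LinearEquiv.mul_apply, hv.fixLine, hu.fixLine]
  shift z hz := by
    obtain ⟨c, hc⟩ := hv.shift z hz
    obtain ⟨d, hd⟩ := hu.shift z hz
    exact ⟨d + c, by rw [LinearEquiv.mul_apply, hc, map_add, hd, hu.fixLine, add_smul, add_assoc]⟩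

theorem InU.inv {T : Frame L G f H x x'} {u : V ≃ₗ[F] V} (hu : T.InU u) : T.InU u⁻¹ where
  mem := H.inv_mem hu.mem
  fixLine a := by
    show u.symm (a • x) = a • x
    rw [LinearEquiv.symm_apply_eq, hu.fixLine]
  shift z hz := by
    obtain ⟨c, hc⟩ := hu.shift z hz
    refine ⟨-c, ?_⟩
    show u.symm z = z + (-c) • x
    rw [LinearEquiv.symm_apply_eq, map_add, hc, hu.fixLine, neg_smul, add_assoc, add_neg_cancel, add_zero]

/-- Coefficient maps of elements of `InU`. -/
def InM (T : Frame L G f H x x') (φ : V → L) : Prop := ∃ u, T.InU u ∧ ∀ z, T.InW z → φ z = T.phi u z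

theorem inM_congr (T : Frame L G f H x x') {φ ψ : V → L} (h : T.InM φ) (e : ∀ z, T.InW z → ψ z = φ z) : T.InM ψ := by
  obtain ⟨u, hu, h'⟩ := h
  exact ⟨u, hu, fun z hz => (e z hz).trans (h' z hz)⟩

theorem inM_add (T : Frame L G f H x x') {φ ψ : V → L} (h : T.InM φ) (h' : T.InM ψ) :
    T.InM (fun z => φ z + ψ z) := by
  obtain ⟨u, hu, e⟩ := h
  obtain ⟨v, hv, e'⟩ := h'
  refine ⟨u * v, hu.mul hv, fun z hz => ?_⟩
  show φ z + ψ z = G ((u * v) z) x'
  rw [LinearEquiv.mul_apply, hv.apply_W hz, map_add, hu.fixLine, hu.apply_W hz, e z hz, e' z hz]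
  simp [T.pair, hz.2]

theorem inM_zero (T : Frame L G f H x x') : T.InM (fun _ => 0) :=
  ⟨1, ⟨H.one_mem, fun _ => rfl, fun z _ => ⟨0, by simp⟩⟩, fun z hz => by simp [phi, hz.2]⟩

theorem inM_neg (T : Frame L G f H x x') {φ : V → L} (h : T.InM φ) : T.InM (fun z => -φ z) := by
  obtain ⟨u, hu, e⟩ := h
  refine ⟨u⁻¹, hu.inv, fun z hz => ?_⟩
  have h1 := hu.inv.apply_W hz
  have h2 : u (u⁻¹ z) = z := u.apply_symm_apply z
  rw [h1, map_add, hu.fixLine, hu.apply_W hz, add_assoc, ← add_smul, add_eq_left, smul_eq_zero] at h2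
  show -φ z = _
  rw [e z hz, eq_neg_of_add_eq_zero_left (h2.resolve_right T.x_ne), neg_neg]

theorem inM_linear (T : Frame L G f H x x') {w : V} (hw : T.InW w) : T.InM (fun z => G z w) := by
  have hxw : G x (-w) = 0 := by rw [map_neg, T.ov.sG.symm, hw.1, neg_zero]
  refine ⟨resHom (sgE T.ov.sG T.sx hxw), ⟨T.ov.siegel_mem T.sx hxw, fun a => ?_, fun z hz => ⟨G z w, ?_⟩⟩,
    fun z hz => ?_⟩
  · show sg G x (-w) (a • x) = _
    simp [sg, T.sx, T.ov.sG.symm x w, hw.1]
  · show sg G x (-w) z = _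
    simp [sg, hz]
  · show _ = G (sg G x (-w) z) x'
    simp [sg, hz.1, hz.2, T.pair]

/-- The maps that can be composed with coefficient maps. -/
def Al (T : Frame L G f H x x') : Subring (Module.End F L) where
  carrier := {A | ∀ φ, T.InM φ → T.InM (fun z => A (φ z))}
  mul_mem' {A B} hA hB φ h := hA _ (hB φ h)
  one_mem' φ h := h
  add_mem' {A B} hA hB φ h := T.inM_add (hA φ h) (hB φ h)
  zero_mem' φ _ := T.inM_zero
  neg_mem' {A} hA φ h := T.inM_neg (hA φ h)

theorem mem_Al_of_stab (T : Frame L G f H x x') {s : V ≃ₗ[F] V} (hs : s ∈ H) (B : Module.End F L)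
    (hB : ∀ a, s (a • x) = B a • x) (hW : ∀ z, G z x = 0 → ∃ c : L, s z = z + c • x) : B ∈ T.Al := by
  rintro φ ⟨u, hu, e⟩
  have hinj : Function.Injective B := fun a b h => by
    have h' : s (a • x) = s (b • x) := by rw [hB, hB, h]
    exact smul_left_injective L T.x_ne (s.injective h')
  have hsurj := (LinearMap.injective_iff_surjective (f := B)).mp hinj
  have hinv : ∀ a, ∃ b, (s⁻¹ : V ≃ₗ[F] V) (a • x) = b • x := fun a => by
    obtain ⟨b, rfl⟩ := hsurj a
    exact ⟨b, by rw [← hB]; exact s.symm_apply_apply _⟩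
  have hinv' : ∀ z, G z x = 0 → ∃ c : L, (s⁻¹ : V ≃ₗ[F] V) z = z + c • x := fun z hz => by
    obtain ⟨c, hc⟩ := hW z hz
    obtain ⟨b, hb⟩ := hinv (-c)
    refine ⟨b, ?_⟩
    show s.symm z = _
    rw [LinearEquiv.symm_apply_eq, map_add, hc, ← hb]
    show z = z + c • x + s (s.symm (-c • x))
    rw [LinearEquiv.apply_symm_apply, neg_smul, add_neg_cancel_right]
  refine ⟨s * u * s⁻¹, ⟨H.mul_mem (H.mul_mem hs hu.mem) (H.inv_mem hs), fun a => ?_, fun z hz => ?_⟩, fun z hz => ?_⟩
  · obtain ⟨b, hb⟩ := hinv a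
    rw [LinearEquiv.mul_apply, LinearEquiv.mul_apply, hb, hu.fixLine, ← hb]
    exact s.apply_symm_apply _
  · obtain ⟨c, hc⟩ := hinv' z hz
    obtain ⟨d, hd⟩ := hu.shift z hz
    refine ⟨B d, ?_⟩
    rw [LinearEquiv.mul_apply, LinearEquiv.mul_apply, hc, map_add, hu.fixLine, hd, add_right_comm, ← hc, map_add,
      hB]
    congr 1
    exact s.apply_symm_apply z
  · obtain ⟨c, hc⟩ := hinv' z hz.1
    show B (φ z) = G ((s * u * s⁻¹ : V ≃ₗ[F] V) z) x'
    rw [LinearEquiv.mul_apply, LinearEquiv.mul_apply, hc, map_add, hu.fixLine, hu.apply_W hz, add_right_comm, ← hc,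
      map_add, hB, show s ((s⁻¹ : V ≃ₗ[F] V) z) = z from s.apply_symm_apply z, ← e z hz]
    simp [hz.2, T.pair]

theorem mulLeft_mem_Al (T : Frame L G f H x x') (c : L) : LinearMap.mulLeft F c ∈ T.Al := by
  let A : AddSubgroup L :=
    { carrier := {c | LinearMap.mulLeft F c ∈ T.Al}
      zero_mem' := by show LinearMap.mulLeft F (0 : L) ∈ T.Al; rw [LinearMap.mulLeft_zero_eq_zero]; exact T.Al.zero_mem
      add_mem' := fun {a b} ha hb => by
        show LinearMap.mulLeft F (a + b) ∈ T.Al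
        convert T.Al.add_mem ha hb using 1
        exact LinearMap.ext fun z => add_mul a b z
      neg_mem' := fun {a} ha => by
        show LinearMap.mulLeft F (-a) ∈ T.Al
        convert T.Al.neg_mem ha using 1
        exact LinearMap.ext fun z => neg_mul a z }
  have h1 : (1 : L) ∈ A := by
    show LinearMap.mulLeft F (1 : L) ∈ T.Al
    rw [LinearMap.mulLeft_one]; exact T.Al.one_mem
  have := mul_mem_of_sq T.ov.two A (fun d hd a ha => by
    show LinearMap.mulLeft F (d ^ 2 * a) ∈ T.Al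
    have hm : LinearMap.mulLeft F (d ^ 2) ∈ T.Al :=
      T.mem_Al_of_stab (T.tor_sq_mem hd) _ (fun b => T.tor_x _ b) fun z hz => ⟨(d ^ 2 - 1) * G z x', by
        rw [tor_apply, dia, hz, mul_zero, zero_smul, add_zero]⟩
    rw [LinearMap.mulLeft_mul]
    exact T.Al.mul_mem hm ha) c h1
  rwa [mul_one] at this

theorem inM_smul (T : Frame L G f H x x') {φ : V → L} (h : T.InM φ) (c : L) : T.InM (fun z => c * φ z) :=
  T.mulLeft_mem_Al c φ h

/-- An element of `H` stabilising the line acts on it by a map. -/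
theorem exists_A (T : Frame L G f H x x') {g : V ≃ₗ[F] V} (hg : g ∈ H) (hst : ∀ a : L, ∃ b : L, g (a • x) = b • x) :
    ∃ A : L ≃ₗ[F] L, (∀ a, g (a • x) = A a • x) ∧ (∀ z, G z x = 0 → G (g z) x = 0) ∧
      (∀ a, (g⁻¹ : V ≃ₗ[F] V) (a • x) = A.symm a • x) ∧ ∀ z, G z x = 0 → G ((g⁻¹ : V ≃ₗ[F] V) z) x = 0 := by
  let A₀ : L →ₗ[F] L := (G.flip x').restrictScalars F ∘ₗ g.toLinearMap ∘ₗ
    (LinearMap.toSpanSingleton L V x).restrictScalars F
  have hA₀ : ∀ a, g (a • x) = A₀ a • x := fun a => by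
    obtain ⟨b, hb⟩ := hst a
    show g (a • x) = G (g (a • x)) x' • x
    rw [hb]; simp [T.pair]
  have hinj : Function.Injective A₀ := fun a b h => smul_left_injective L T.x_ne (g.injective (by rw [hA₀, hA₀, h]))
  let A := LinearEquiv.ofInjectiveEndo A₀ hinj
  have hA : ∀ a, g (a • x) = A a • x := hA₀
  have hsymm : ∀ a, (g⁻¹ : V ≃ₗ[F] V) (a • x) = A.symm a • x := fun a => by
    show g.symm (a • x) = _
    rw [LinearEquiv.symm_apply_eq, hA, A.apply_symm_apply]
  refine ⟨A, hA, fun z hz => ?_, hsymm, fun z hz => ?_⟩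
  · refine T.ov.eq_zero_of_trace fun c => ?_
    rw [T.ov.f_smul, show c • x = g (A.symm c • x) by rw [hA, A.apply_symm_apply], T.ov.isom g hg,
      ← T.ov.f_smul, T.ov.trace, map_smul, LinearMap.smul_apply, hz, smul_zero, map_zero]
  · refine T.ov.eq_zero_of_trace fun c => ?_
    rw [T.ov.f_smul, show c • x = (g⁻¹ : V ≃ₗ[F] V) (A c • x) by rw [hsymm, A.symm_apply_apply],
      T.ov.isom _ (H.inv_mem hg), ← T.ov.f_smul, T.ov.trace, map_smul, LinearMap.smul_apply, hz, smul_zero,
      map_zero]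

/-- Conjugation by the stabiliser of the line. -/
theorem conj_inU (T : Frame L G f H x x') {g : V ≃ₗ[F] V} (hg : g ∈ H) {A : L ≃ₗ[F] L}
    (hA : ∀ a, g (a • x) = A a • x) (hp : ∀ z, G z x = 0 → G ((g⁻¹ : V ≃ₗ[F] V) z) x = 0)
    (hs : ∀ a, (g⁻¹ : V ≃ₗ[F] V) (a • x) = A.symm a • x) {u : V ≃ₗ[F] V} (hu : T.InU u) :
    T.InU (g * u * g⁻¹) ∧ ∀ z, T.InW z →
      T.phi (g * u * g⁻¹) z = A (T.phi u (T.proj ((g⁻¹ : V ≃ₗ[F] V) z))) := by
  have hgg : ∀ z, g ((g⁻¹ : V ≃ₗ[F] V) z) = z := g.apply_symm_apply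
  have key : ∀ z, G z x = 0 → (g * u * g⁻¹ : V ≃ₗ[F] V) z = z + A (T.phi u (T.proj ((g⁻¹ : V ≃ₗ[F] V) z))) • x := by
    intro z hz
    set y := (g⁻¹ : V ≃ₗ[F] V) z with hy
    have hdy : y = G y x' • x + T.proj y := by
      conv_lhs => rw [T.decomp y, show G y x = 0 from hp z hz, zero_smul, add_zero]
    rw [LinearEquiv.mul_apply, LinearEquiv.mul_apply, ← hy]
    conv_lhs => rw [hdy, map_add, hu.fixLine, hu.apply_W (T.proj_mem y), ← add_assoc, ← hdy, map_add, hA]
    rw [hy, hgg]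
  refine ⟨⟨H.mul_mem (H.mul_mem hg hu.mem) (H.inv_mem hg), fun a => ?_, fun z hz => ⟨_, key z hz⟩⟩, fun z hz => ?_⟩
  · rw [LinearEquiv.mul_apply, LinearEquiv.mul_apply, hs, hu.fixLine, ← hs, hgg]
  · conv_lhs => rw [phi, key z hz.1]
    simp [hz.2, T.pair]

end Frame

end Cfsg.Lib.Classical.ExtFieldOrth
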