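import Cfsg.Agent.Classical.ExtFieldOrth.Fix

/-! An element sending a singular line to a line is semilinear. -/

set_option autoImplicit false
set_option linter.unusedSectionVars false

namespace Cfsg.Lib.Classical.ExtFieldOrth

open Module Cfsg.Lib.Classical

variable {F L V : Type*} [Field F] [Finite F] [Field L] [Algebra F L] [FiniteDimensional F L]
  [AddCommGroup V] [Module F V] [Module L V] [IsScalarTower F L V] [FiniteDimensional F V]

variable {G : LinearMap.BilinForm L V} {f : LinearMap.BilinForm F V} {H : Subgroup (V ≃ₗ[F] V)} {x x' : V}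

theorem IsLin.mul {g h : V ≃ₗ[F] V} (hg : IsLin L g) (hh : IsLin L h) : IsLin L (g * h) := fun a z => by
  rw [LinearEquiv.mul_apply, LinearEquiv.mul_apply, hh, hg]

theorem IsLin.inv {g : V ≃ₗ[F] V} (hg : IsLin L g) : IsLin L g⁻¹ := fun a z => by
  show g.symm (a • z) = a • g.symm z
  rw [LinearEquiv.symm_apply_eq, hg, LinearEquiv.apply_symm_apply]

theorem IsLin.semi {g : V ≃ₗ[F] V} (hg : IsLin L g) : Semi L g := fun a => ⟨a, hg a⟩

theorem Semi.mul {g h : V ≃ₗ[F] V} (hg : Semi L g) (hh : Semi L h) : Semi L (g * h) := fun a => by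
  obtain ⟨b, hb⟩ := hh a
  obtain ⟨c, hc⟩ := hg b
  exact ⟨c, fun z => by rw [LinearEquiv.mul_apply, LinearEquiv.mul_apply, hb, hc]⟩

/-- Images of a line inside a line fill it. -/
theorem exists_preimage_line {g : V ≃ₗ[F] V} {y v : V} (hy : y ≠ 0) (hg : ∀ a : L, ∃ b : L, g (a • y) = b • v)
    (b : L) : ∃ a : L, g (a • y) = b • v := by
  have hv : v ≠ 0 := by
    rintro rfl
    obtain ⟨c, hc⟩ := hg 1
    rw [one_smul, smul_zero] at hc
    exact hy (g.injective (hc.trans (map_zero g).symm))
  let φ : L →ₗ[F] V := g.toLinearMap ∘ₗ (LinearMap.toSpanSingleton L V y).restrictScalars F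
  let ψ : L →ₗ[F] V := (LinearMap.toSpanSingleton L V v).restrictScalars F
  have hφ : Function.Injective φ := g.injective.comp (smul_left_injective L hy)
  have hψ : Function.Injective ψ := smul_left_injective L hv
  have hle : LinearMap.range φ ≤ LinearMap.range ψ := by
    rintro _ ⟨a, rfl⟩
    obtain ⟨c, hc⟩ := hg a
    exact ⟨c, hc.symm⟩
  have heq := Submodule.eq_of_le_of_finrank_eq hle
    (by rw [LinearMap.finrank_range_of_inj hφ, LinearMap.finrank_range_of_inj hψ])
  have hmem : ψ b ∈ LinearMap.range φ := by rw [heq]; exact ⟨b, rfl⟩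
  exact hmem

/-- `H` is transitive on singular lines. -/
theorem Over.exists_move (hO : Over L G f H) {x x1 : V} (hx0 : x ≠ 0) (hx : G x x = 0) (hx10 : x1 ≠ 0)
    (hx1 : G x1 x1 = 0) : ∃ h ∈ H, IsLin L h ∧ ∃ k : L, k ≠ 0 ∧ h x = k • x1 := by
  have step : ∀ {a b : V}, G a a = 0 → G b b = 0 → G a b ≠ 0 →
      ∃ h ∈ H, IsLin L h ∧ ∃ k : L, k ≠ 0 ∧ h a = k • b := by
    intro a b ha hb hab
    have T : Frame L G f H a ((G a b)⁻¹ • b) := ⟨hO, ha, by simp [hb], by simp [hab]⟩
    obtain ⟨n, l, hn, hl, hlin, hnx, -⟩ := T.exists_flip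
    exact ⟨n, hn, hlin, -l * (G a b)⁻¹, mul_ne_zero (neg_ne_zero.mpr hl) (inv_ne_zero hab), by rw [hnx, smul_smul]⟩
  by_cases h : G x x1 = 0
  · obtain ⟨z, hz, hzx, hzx1⟩ : ∃ z, G z z = 0 ∧ G x z ≠ 0 ∧ G z x1 ≠ 0 := by
      obtain ⟨y, hy, hxy⟩ := hO.sG.exists_partner hx0 hx
      obtain ⟨y1, hy1, hxy1⟩ := hO.sG.exists_partner hx10 hx1
      by_cases h1 : G y x1 = 0
      · by_cases h2 : G x y1 = 0
        · refine ⟨y + y1 - G y y1 • x, ?_, ?_, ?_⟩
          · simp only [map_add, map_sub, map_smul, LinearMap.add_apply, LinearMap.sub_apply, LinearMap.smul_apply,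
              hy, hy1, hx, hxy, h2, hO.sG.symm y x, hO.sG.symm y1 x, hO.sG.symm y1 y, smul_eq_mul]
            ring
          · simp [hxy, h2, hx]
          · simp [h1, hO.sG.symm y1 x1, hxy1, h]
        · exact ⟨y1, hy1, h2, by rw [hO.sG.symm, hxy1]; exact one_ne_zero⟩
      · exact ⟨y, hy, by rw [hxy]; exact one_ne_zero, h1⟩
    obtain ⟨h1, hh1, hl1, k1, hk1, e1⟩ := step hx hz hzx
    obtain ⟨h2, hh2, hl2, k2, hk2, e2⟩ := step hz hx1 hzx1
    exact ⟨h2 * h1, H.mul_mem hh2 hh1, hl2.mul hl1, k1 * k2, mul_ne_zero hk1 hk2, by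
      rw [LinearEquiv.mul_apply, e1, hl2, e2, smul_smul]⟩
  · exact step hx hx1 h

namespace Frame

/-- Elements of `InU` are linear. -/
theorem inU_lin (T : Frame L G f H x x') (hF : ¬ Full f H) {u : V ≃ₗ[F] V} (hu : T.InU u) : IsLin L u := by
  have hux : ∀ z, G z x = 0 → u z = z + T.phi u (T.proj z) • x := fun z hz => by
    conv_lhs => rw [T.decomp_perp hz, map_add, hu.fixLine, hu.apply_W (T.proj_mem z), ← add_assoc, ← T.decomp_perp hz]
  have hproj : ∀ {z}, T.InW z → T.proj z = z := fun {z} hz => by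
    simp [proj, hz.1, hz.2]
  have hphi : ∀ (w : V), T.InW w → ∀ a : L, T.phi u (a • w) = -G (u (a • x')) w := by
    intro w hw a
    have hxw : G x w = 0 := by rw [T.ov.sG.symm]; exact hw.1
    set ρ : V ≃ₗ[F] V := resHom (sgE T.ov.sG T.sx hxw) with hρ
    have hρH : ρ ∈ H := T.ov.siegel_mem T.sx hxw
    have hρz : ∀ z, G z x = 0 → ρ z = z - G z w • x := fun z hz => by
      show sg G x w z = _
      simp [sg, hz]
    have hcomm : u * ρ = ρ * u := by
      have h1 := T.fx_eq_one hF (X := (ρ * u)⁻¹ * (u * ρ))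
        (H.mul_mem (H.inv_mem (H.mul_mem hρH hu.mem)) (H.mul_mem hu.mem hρH)) fun z hz => ?_
      · exact (inv_mul_eq_one.mp h1).symm
      show (ρ * u).symm ((u * ρ) z) = z
      rw [LinearEquiv.symm_apply_eq, LinearEquiv.mul_apply, LinearEquiv.mul_apply, hρz z hz, map_sub, hu.fixLine,
        hux z hz, map_add, hρz z hz, hρz _ (by simp [T.sx] : G (T.phi u (T.proj z) • x) x = 0)]
      simp [hxw]
      abel
    have hyx : G (u (a • x')) x = a := by
      refine eq_of_trace (F := F) fun c => ?_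
      rw [← smul_eq_mul c (G (u (a • x')) x), ← map_smul, ← T.ov.trace, ← hu.fixLine c, T.ov.isom u hu.mem,
        T.ov.sf.symm, T.f_line_pair]
    have e := LinearEquiv.congr_fun hcomm (a • x')
    rw [LinearEquiv.mul_apply, LinearEquiv.mul_apply, show ρ (a • x') = sg G x w (a • x') from rfl,
      show ρ (u (a • x')) = sg G x w (u (a • x')) from rfl, sg, sg, hyx] at e
    simp only [map_smul, LinearMap.smul_apply, T.pair', smul_eq_mul, mul_one, T.ov.sG.symm x' w, hw.2, mul_zero,
      zero_smul, sub_zero] at e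
    rw [map_sub, map_add, hu.fixLine, hu.apply_W (T.inW_smul hw a), ← sub_eq_zero] at e
    have e' : (T.phi u (a • w) + G (u (a • x')) w) • x = 0 := by rw [← e, add_smul]; abel
    exact eq_neg_of_add_eq_zero_left ((smul_eq_zero.mp e').resolve_right T.x_ne)
  have hsym : ∀ (w : V), T.InW w → ∀ a b : L, Algebra.trace F L (b * T.phi u (a • w)) =
      Algebra.trace F L (a * T.phi u (b • w)) := by
    intro w hw a b
    have h1 := T.ov.isom u hu.mem (a • x') (b • w)
    rw [hu.apply_W (T.inW_smul hw b), map_add, ← hu.fixLine (T.phi u (b • w)), T.ov.isom u hu.mem,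
      show f (a • x') (b • w) = 0 by rw [T.ov.sf.symm]; exact T.f_w_line' (T.inW_smul hw b) a,
      T.ov.sf.symm (a • x'), T.f_line_pair, T.ov.trace, map_smul, smul_eq_mul] at h1
    rw [hphi w hw a, mul_neg, map_neg, eq_neg_of_add_eq_zero_left h1, neg_neg, mul_comm]
  have hlinW : ∀ (w : V), T.InW w → ∀ c : L, T.phi u (c • w) = c * T.phi u w := by
    intro w hw c
    refine eq_of_trace (F := F) fun b => ?_
    have h2 := hsym w hw c b
    have h3 := hsym (b • w) (T.inW_smul hw b) c 1
    rw [one_smul, smul_smul, one_mul] at h3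
    have h4 := hsym w hw (c * b) 1
    rw [one_mul, one_smul] at h4
    rw [h2, ← h3, h4]
    congr 1; ring
  let θ : V →ₗ[L] L :=
    { toFun := fun z => T.phi u (T.proj z)
      map_add' := fun a b => by
        have e : T.proj (a + b) = T.proj a + T.proj b := by simp [proj, add_smul]; abel
        rw [e]
        show G (u _) x' = G (u _) x' + G (u _) x'
        rw [map_add, map_add, LinearMap.add_apply]
      map_smul' := fun c a => by
        have e : T.proj (c • a) = c • T.proj a := by simp [proj, smul_sub, smul_smul]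
        rw [e, hlinW _ (T.proj_mem a)]; rfl }
  obtain ⟨w0, hw0, hrep⟩ := T.exists_rep_W θ
  have hxw : G x (-w0) = 0 := by rw [map_neg, T.ov.sG.symm, hw0.1, neg_zero]
  set ρ : V ≃ₗ[F] V := resHom (sgE T.ov.sG T.sx hxw) with hρ
  have hρH : ρ ∈ H := T.ov.siegel_mem T.sx hxw
  have h1 := T.fx_eq_one hF (X := ρ⁻¹ * u) (H.mul_mem (H.inv_mem hρH) hu.mem) fun z hz => ?_
  · rw [← inv_mul_eq_one.mp h1]
    exact isLin_resHom _
  show ρ.symm (u z) = z
  rw [LinearEquiv.symm_apply_eq, hux z hz]
  show _ = sg G x (-w0) z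
  have h2 : θ (T.proj z) = T.phi u (T.proj z) := by
    show T.phi u (T.proj (T.proj z)) = _
    rw [hproj (T.proj_mem z)]
  have h3 : G z w0 = G (T.proj z) w0 := by
    conv_lhs => rw [T.decomp_perp hz, map_add, LinearMap.add_apply, map_smul, LinearMap.smul_apply, T.ov.sG.symm x,
      hw0.1, smul_zero, zero_add]
  rw [← h2, ← hrep _ (T.proj_mem z), ← h3]
  simp [sg, hz]

/-- The stabiliser of the line is semilinear modulo it on the orthogonal. -/
theorem stab_data (T : Frame L G f H x x') (hF : ¬ Full f H) {g : V ≃ₗ[F] V} (hg : g ∈ H)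
    (hst : ∀ a : L, ∃ b : L, g (a • x) = b • x) :
    ∃ (σ : L ≃ₐ[F] L) (k : L), k ≠ 0 ∧ (∀ a, g (a • x) = (σ a * k) • x) ∧
      (∀ z, G z x = 0 → G (g z) x = 0) ∧ (∀ z, G z x = 0 → G ((g⁻¹ : V ≃ₗ[F] V) z) x = 0) ∧
      ∀ (c : L) z, G z x = 0 → ∃ d : L, g (c • z) = σ c • g z + d • x := by
  obtain ⟨A, hA, hp', hs, hp⟩ := T.exists_A hg hst
  obtain ⟨σ, hA1, hσ⟩ := T.exists_aut hF hg hA hp hp' hs
  refine ⟨σ, A 1, hA1, fun a => by rw [hA, hσ], hp', hp, ?_⟩
  have hcz : ∀ (w : V), T.InW w → ∀ (c : L) z, T.InW z → G (g (c • z)) w = σ c * G (g z) w := by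
    intro w hw c z hz
    have hxw : G x (-w) = 0 := by rw [map_neg, T.ov.sG.symm, hw.1, neg_zero]
    set ρ : V ≃ₗ[F] V := resHom (sgE T.ov.sG T.sx hxw) with hρ
    have hu : T.InU ρ := ⟨T.ov.siegel_mem T.sx hxw, fun a => by
        show sg G x (-w) (a • x) = _
        simp [sg, T.sx, T.ov.sG.symm x w, hw.1], fun y hy => ⟨G y w, by
        show sg G x (-w) y = _
        simp [sg, hy]⟩⟩
    have hphi : ∀ y, G y x = 0 → T.phi ρ (T.proj y) = G y w := fun y hy => by
      show G (sg G x (-w) (T.proj y)) x' = _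
      conv_rhs => rw [T.decomp_perp hy, map_add, LinearMap.add_apply, map_smul, LinearMap.smul_apply, T.ov.sG.symm x,
        hw.1, smul_zero, zero_add]
      simp [sg, (T.proj_mem y).1, (T.proj_mem y).2, T.pair]
    obtain ⟨hu', e'⟩ := T.conj_inU (H.inv_mem hg) hs (A := A.symm) (by simpa using hp')
      (fun a => by rw [inv_inv, LinearEquiv.symm_symm]; exact hA a) hu
    have hlin := T.inU_lin hF hu'
    have h1 := e' (c • z) (T.inW_smul hz c)
    have h2 := e' z hz
    rw [inv_inv, hphi _ (hp' _ (T.inW_smul hz c).1)] at h1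
    rw [inv_inv, hphi _ (hp' _ hz.1)] at h2
    simp only [phi] at h1 h2
    rw [inv_inv] at hlin
    rw [hlin, map_smul, LinearMap.smul_apply, smul_eq_mul, h2] at h1
    have h3 := congrArg A h1
    rw [A.apply_symm_apply, hσ, map_mul σ, mul_assoc, ← hσ, A.apply_symm_apply] at h3
    exact h3.symm
  intro c z hz
  set δ := g (c • z) - σ c • g z with hδ
  refine ⟨G δ x', ?_⟩
  have hδx : G δ x = 0 := by
    rw [hδ, map_sub, LinearMap.sub_apply, hp' (c • z) (by simp [hz]), map_smul, LinearMap.smul_apply, hp' z hz]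
    simp
  have hW : T.proj δ = 0 := by
    refine T.ov.sG.nondeg _ fun v => ?_
    have hw := T.proj_mem v
    have e0 : G δ (T.proj v) = 0 := by
      have hpz := T.proj_mem z
      have e1 : g (c • z) = A (c * G z x') • x + g (c • T.proj z) := by
        conv_lhs => rw [T.decomp_perp hz, smul_add, smul_smul, map_add, hA]
      have e2 : g z = A (G z x') • x + g (T.proj z) := by
        conv_lhs => rw [T.decomp_perp hz, map_add, hA]
      rw [hδ, e1, e2]
      simp only [map_sub, map_add, map_smul, LinearMap.sub_apply, LinearMap.add_apply, LinearMap.smul_apply,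
        smul_eq_mul, T.ov.sG.symm x (T.proj v), hw.1, hcz _ hw c _ hpz]
      ring
    conv at e0 => lhs; rw [T.decomp_perp hδx, map_add, LinearMap.add_apply, map_smul, LinearMap.smul_apply,
      T.ov.sG.symm x, hw.1, smul_zero, zero_add]
    rw [T.decomp v, map_add, map_add, map_smul, map_smul, e0, (T.proj_mem δ).1, (T.proj_mem δ).2, smul_zero, smul_zero,
      add_zero, add_zero]
  have := T.decomp_perp hδx
  rw [hW, add_zero] at this
  rw [← this, hδ, add_sub_cancel]

end Frame

/-- Elements sending a singular line to a line are semilinear modulo it on its orthogonal. -/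
theorem Over.line_data (hO : Over L G f H) (hF : ¬ Full f H) {g : V ≃ₗ[F] V} (hg : g ∈ H) {y : V} (hy0 : y ≠ 0)
    (hy : G y y = 0) (hline : ∀ a : L, ∃ b : L, g (a • y) = b • g y) :
    ∃ σ : L ≃ₐ[F] L, G (g y) (g y) = 0 ∧ (∀ a, g (a • y) = σ a • g y) ∧
      ∀ (c : L) z, G z y = 0 → ∃ d : L, g (c • z) = σ c • g z + d • g y := by
  have hgy : G (g y) (g y) = 0 := hO.eq_zero_of_trace fun b => by
    obtain ⟨a, ha⟩ := exists_preimage_line hy0 hline b
    rw [← ha, hO.isom g hg, hO.trace, map_smul, LinearMap.smul_apply, hy, smul_zero, map_zero]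
  have hgy0 : g y ≠ 0 := fun h => hy0 (g.injective (by rw [h, map_zero]))
  obtain ⟨y', hy', hyy'⟩ := hO.sG.exists_partner hy0 hy
  have T : Frame L G f H y y' := ⟨hO, hy, hy', hyy'⟩
  obtain ⟨h, hh, hlin, k, hk, hhk⟩ := hO.exists_move hgy0 hgy hy0 hy
  obtain ⟨σ, k', -, hA, -, -, hd⟩ := T.stab_data hF (g := h * g) (H.mul_mem hh hg) fun a => by
    obtain ⟨b, hb⟩ := hline a
    exact ⟨b * k, by rw [LinearEquiv.mul_apply, hb, hlin, hhk, smul_smul]⟩
  refine ⟨σ, hgy, fun a => h.injective ?_, fun c z hz => ?_⟩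
  · have h1 := hA 1
    rw [one_smul, map_one, one_mul] at h1
    rw [hlin, ← LinearEquiv.mul_apply, ← LinearEquiv.mul_apply, hA, h1, smul_smul]
  · obtain ⟨d, hd⟩ := hd c z hz
    refine ⟨d / k, h.injective ?_⟩
    rw [map_add, hlin, hlin, ← LinearEquiv.mul_apply, hd, hhk, smul_smul, div_mul_cancel₀ d hk,
      ← LinearEquiv.mul_apply]

namespace Frame

/-- A semilinear correction lies in `H`, so the defect vanishes. -/
theorem lam_eq_zero (T : Frame L G f H x x') (hF : ¬ Full f H) {g : V ≃ₗ[F] V} (hg : g ∈ H) {σ : L ≃ₐ[F] L} {k : L}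
    (hk : k ≠ 0) (hA : ∀ a, g (a • x) = (σ a * k) • x) (hkey : ∀ c : L, G (g (c • x')) x = σ c / k)
    (hp' : ∀ z, G z x = 0 → G (g z) x = 0) (hW : ∀ (c : L) y, T.InW y → g (c • y) = σ c • g y)
    {lam : L → L} (hadd : ∀ a b, lam (a + b) = lam a + lam b) (hone : lam 1 = 0)
    (hlam : ∀ c, g (c • x') = σ c • g x' + lam c • x) (c : L) : lam c = 0 := by
  classical
  set γ := G (g x') (g x') with hγ
  set β := k * γ / 2 with hβ
  have h2L := two_ne (L := L) T.ov.two
  let N : L →ₗ[F] L :=
    { toFun := fun a => -σ.symm ((lam a + σ a * β) / k)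
      map_add' := fun a b => by
        simp only [hadd, map_add σ, add_mul, add_div, map_add σ.symm]; ring
      map_smul' := fun t a => by
        have hlt : lam (t • a) = t • lam a := smul_left_injective L T.x_ne (by
          have h := hlam (t • a)
          rw [smul_assoc t a x', map_smul g, hlam a, map_smul σ, smul_add, smul_assoc, add_right_inj] at h
          show lam (t • a) • x = (t • lam a) • x
          rw [smul_assoc]; exact h.symm)
        simp only [RingHom.id_apply, hlt, map_smul σ, smul_mul_assoc, ← smul_add, smul_div_assoc, map_smul, smul_neg] }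
  let nn : V →ₗ[F] V := LinearMap.id + (LinearMap.toSpanSingleton L V x).restrictScalars F ∘ₗ N ∘ₗ
    (G.flip x).restrictScalars F
  have hnn : ∀ z, nn z = z + N (G z x) • x := fun z => rfl
  let nn' : V →ₗ[F] V := LinearMap.id - (LinearMap.toSpanSingleton L V x).restrictScalars F ∘ₗ N ∘ₗ
    (G.flip x).restrictScalars F
  have hnn' : ∀ z, nn' z = z - N (G z x) • x := fun z => rfl
  let n : V ≃ₗ[F] V := LinearEquiv.ofLinearMap nn nn'
    (LinearMap.ext fun z => by simp [hnn, hnn', T.sx])
    (LinearMap.ext fun z => by simp [hnn, hnn', T.sx])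
  have hn : ∀ z, n z = z + N (G z x) • x := fun z => rfl
  have hgn : ∀ z, g (n z) = g z - (lam (G z x) + σ (G z x) * β) • x := fun z => by
    rw [hn, map_add, hA]
    show _ + (σ (-σ.symm _) * k) • x = _
    rw [map_neg, σ.apply_symm_apply, neg_mul, div_mul_cancel₀ _ hk, neg_smul, ← sub_eq_add_neg]
  have hgdec : ∀ z, g z = g (G z x' • x + T.proj z) + σ (G z x) • g x' + lam (G z x) • x := fun z => by
    conv_lhs => rw [T.decomp z, map_add, hlam, ← add_assoc]
  have hgx : ∀ z, G (g z) x = σ (G z x) / k := fun z => by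
    conv_lhs => rw [T.decomp z, map_add, map_add, LinearMap.add_apply, hkey,
      hp' _ (by simp [T.sx, (T.proj_mem z).1]), zero_add]
  have hx' : G (g x') x = 1 / k := by simpa using hkey 1
  have hiso : ∀ u v, f (n u) (n v) = f u v := by
    intro u v
    rw [← T.ov.isom g hg (n u) (n v), hgn, hgn, ← T.ov.isom g hg u v, T.ov.trace, T.ov.trace]
    simp only [map_sub, LinearMap.sub_apply, map_smul, LinearMap.smul_apply, smul_eq_mul, hgx, T.sx, mul_zero,
      sub_zero, T.ov.sG.symm x (g v)]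
    have h0 : ∀ a b : L, Algebra.trace F L (σ (a * b) * γ + σ a * lam b / k + σ b * lam a / k) = 0 := by
      intro a b
      have h := T.ov.isom g hg (a • x') (b • x')
      rw [T.swap.f_line, T.ov.trace, hlam, hlam] at h
      rw [← h]
      congr 1
      simp only [map_add, LinearMap.add_apply, map_smul, LinearMap.smul_apply, smul_eq_mul, T.sx, ← hγ, hx',
        T.ov.sG.symm x (g x'), map_mul σ]
      ring
    have e := h0 (G u x) (G v x)
    rw [sub_sub, sub_eq_self, ← map_add, ← e]
    congr 1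
    simp only [hβ, map_mul σ]
    field_simp
    ring
  have hsemi : Semi L (g * n) := by
    intro a
    refine ⟨σ a, fun z => ?_⟩
    have hz : ∀ z, g (n z) = g (G z x' • x + T.proj z) + σ (G z x) • (g x' - β • x) := fun z => by
      rw [hgn, hgdec, add_smul, smul_sub, mul_smul]; abel
    have hpr : T.proj (a • z) = a • T.proj z := by simp [proj, smul_sub, smul_smul]
    show g (n (a • z)) = σ a • g (n z)
    rw [hz, hz, hpr]
    simp only [map_smul, LinearMap.smul_apply, smul_eq_mul, map_add, hA, hW a _ (T.proj_mem z), map_mul σ,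
      smul_add, smul_smul, mul_assoc]
  have hord : ∃ j, Odd j ∧ n ^ j = 1 := by
    obtain ⟨p, hp⟩ := CharP.exists F
    refine ⟨p, ?_, ?_⟩
    · have hpp : p.Prime := (CharP.char_is_prime_or_zero F p).resolve_right (CharP.char_ne_zero_of_finite F p)
      refine hpp.odd_of_ne_two ?_
      rintro rfl
      exact T.ov.two (CharP.cast_eq_zero F 2)
    · have hpow : ∀ (j : ℕ) z, (n ^ j : V ≃ₗ[F] V) z = z + (j : F) • N (G z x) • x := by
        intro j
        induction j with
        | zero => intro z; simp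
        | succ j ih =>
          intro z
          rw [pow_succ, LinearEquiv.mul_apply, ih, hn]
          simp only [map_add, LinearMap.add_apply, map_smul, LinearMap.smul_apply, T.sx, smul_zero, add_zero,
            Nat.cast_succ, add_smul, one_smul]
          abel
      exact LinearEquiv.ext fun z => by rw [hpow, CharP.cast_eq_zero, zero_smul, add_zero]; rfl
  have h1 := T.fx_eq_one hF (T.ov.semi_mem g hg n hsemi hiso hord) fun z hz => by
    rw [hn, hz, map_zero, zero_smul, add_zero]
  have hN : ∀ a, N a = 0 := fun a => by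
    have h := LinearEquiv.congr_fun h1 (a • x')
    rw [hn, LinearEquiv.coe_one, id_eq, add_eq_left, smul_eq_zero, or_iff_left T.x_ne] at h
    simpa [T.pair'] using h
  have hl : ∀ a, lam a + σ a * β = 0 := fun a => by
    have h := hN a
    change -σ.symm _ = 0 at h
    exact (div_eq_zero_iff.mp ((map_eq_zero_iff σ.symm σ.symm.injective).mp (neg_eq_zero.mp h))).resolve_right hk
  have h := hl 1
  rw [hone, map_one, one_mul, zero_add] at h
  have h' := hl c
  rwa [h, mul_zero, add_zero] at h'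

/-- The stabiliser of the line is semilinear. -/
theorem semi_of_stab (T : Frame L G f H x x') (hF : ¬ Full f H) {g : V ≃ₗ[F] V} (hg : g ∈ H)
    (hst : ∀ a : L, ∃ b : L, g (a • x) = b • x) : Semi L g := by
  classical
  obtain ⟨σ, k, hk, hA, hp', hp, hmod⟩ := T.stab_data hF hg hst
  have hsymm : ∀ a, (g⁻¹ : V ≃ₗ[F] V) (a • x) = σ.symm (a / k) • x := fun a => by
    show g.symm (a • x) = _
    rw [LinearEquiv.symm_apply_eq, hA, σ.apply_symm_apply, div_mul_cancel₀ a hk]
  -- conjugates of the torus are linear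
  have hslin : ∀ {d : L} (hd : d ≠ 0), IsLin L (g * T.tor (pow_ne_zero 2 hd) * g⁻¹) := by
    intro d hd
    set s := g * T.tor (pow_ne_zero 2 hd) * g⁻¹
    have hσd : σ d ≠ 0 := by simpa using hd
    set t := T.tor (pow_ne_zero 2 hσd) with ht
    have htlin : IsLin L t := isLin_resHom _
    have hu : T.InU (t⁻¹ * s) := by
      refine ⟨H.mul_mem (H.inv_mem (T.tor_sq_mem hσd)) (H.mul_mem (H.mul_mem hg (T.tor_sq_mem hd)) (H.inv_mem hg)),
        fun a => ?_, fun z hz => ?_⟩
      · show t.symm (g (T.tor _ ((g⁻¹ : V ≃ₗ[F] V) (a • x)))) = a • x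
        rw [LinearEquiv.symm_apply_eq, hsymm, T.tor_x, hA, ht, T.tor_x, map_mul σ, σ.apply_symm_apply, map_pow]
        congr 1
        field_simp
      · set y := (g⁻¹ : V ≃ₗ[F] V) z
        set e := σ ((d ^ 2 - 1) * G y x') * k with he
        refine ⟨(e - (σ d ^ 2 - 1) * G z x') / σ d ^ 2, ?_⟩
        show t.symm (g (T.tor _ y)) = _
        rw [LinearEquiv.symm_apply_eq, tor_apply, dia, hp z hz, mul_zero, zero_smul, add_zero, map_add, hA, ← he,
          show g y = z from g.apply_symm_apply z, map_add, ht, T.tor_x, tor_apply, dia, hz, mul_zero, zero_smul,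
          add_zero, add_assoc, ← add_smul]
        congr 2
        field_simp
        ring
    have h := htlin.mul (T.inU_lin hF hu)
    rwa [mul_inv_cancel_left] at h
  obtain ⟨d0, hd0, hd0F⟩ := exists_sq_notMem T.ov.two T.ov.prime.two_le
  have hd1 : d0 ^ 2 - 1 ≠ 0 := sub_ne_zero.mpr fun h => hd0F (h ▸ one_mem _)
  have hd2 : (d0 ^ 2)⁻¹ - 1 ≠ 0 := sub_ne_zero.mpr fun h => hd0F (by rw [inv_eq_one.mp h]; exact one_mem _)
  have hsub : ∀ (b α β : L), ∃ α' β' : L, b • g (α • x + β • x') = g (α' • x + β' • x') := by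
    intro b α β
    set q := (α / (d0 ^ 2 - 1)) • x + (β / ((d0 ^ 2)⁻¹ - 1)) • x'
    set v := (g⁻¹ : V ≃ₗ[F] V) (b • g q) with hv
    refine ⟨(d0 ^ 2 - 1) * G v x', ((d0 ^ 2)⁻¹ - 1) * G v x, ?_⟩
    have e1 : ∀ w, T.tor (pow_ne_zero 2 hd0) w - w =
        ((d0 ^ 2 - 1) * G w x') • x + (((d0 ^ 2)⁻¹ - 1) * G w x) • x' := fun w => by
      rw [tor_apply, dia]; abel
    have e2 : g (T.tor (pow_ne_zero 2 hd0) v) = b • g (T.tor (pow_ne_zero 2 hd0) q) := by
      have h := hslin hd0 b (g q)
      rw [LinearEquiv.mul_apply, LinearEquiv.mul_apply, LinearEquiv.mul_apply, LinearEquiv.mul_apply,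
        show (g⁻¹ : V ≃ₗ[F] V) (g q) = q from g.symm_apply_apply q] at h
      exact h
    have e3 : T.tor (pow_ne_zero 2 hd0) q - q = α • x + β • x' := by
      rw [e1]
      simp [q, T.sx, T.sx', T.pair, T.pair', mul_div_cancel₀ _ hd1, mul_div_cancel₀ _ hd2]
    rw [← e3, ← e1, map_sub, map_sub, smul_sub, e2, hv]
    congr 1
    exact (g.apply_symm_apply _).symm
  have horth : ∀ y, T.InW y → ∀ α β : L, G (g y) (g (α • x + β • x')) = 0 := by
    intro y hy α β
    refine T.ov.eq_zero_of_trace fun b => ?_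
    obtain ⟨α', β', e⟩ := hsub b α β
    rw [T.ov.f_smul, e, T.ov.isom g hg, map_add, T.f_w_line hy, T.f_w_line' hy, add_zero]
  have hW : ∀ (c : L) y, T.InW y → g (c • y) = σ c • g y := by
    intro c y hy
    obtain ⟨d, hd⟩ := hmod c y hy.1
    suffices hd' : d = 0 by rw [hd, hd', zero_smul, add_zero]
    by_contra hd'
    refine T.x_ne (T.ov.sG.nondeg x fun v => ?_)
    obtain ⟨v, rfl⟩ := g.surjective v
    rw [T.decomp v, add_assoc, map_add g, map_add g, map_add, map_add, hA, map_smul, T.sx, smul_zero, zero_add]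
    have h1 : G x (g (T.proj v)) = 0 := by rw [T.ov.sG.symm]; exact hp' _ (T.proj_mem v).1
    have h2 := horth (c • y) (T.inW_smul hy c) 0 (G v x)
    rw [zero_smul, zero_add, hd] at h2
    simp only [map_add, LinearMap.add_apply, map_smul G, LinearMap.smul_apply] at h2
    have h3 := horth y hy 0 (G v x)
    rw [zero_smul, zero_add] at h3
    rw [h3, smul_zero, zero_add, smul_eq_zero] at h2
    rw [h1, zero_add]
    exact h2.resolve_left hd'
  have hkey : ∀ c : L, G (g (c • x')) x = σ c / k := fun c => by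
    refine eq_of_trace (F := F) fun b => ?_
    set a := σ.symm (b / k)
    have e : b = σ a * k := by rw [σ.apply_symm_apply, div_mul_cancel₀ b hk]
    rw [← smul_eq_mul b (G (g (c • x')) x), ← map_smul, ← T.ov.trace, e, ← hA, T.ov.isom g hg, T.ov.sf.symm,
      T.f_line_pair, ← Algebra.trace_eq_of_algEquiv σ, map_mul σ]
    congr 1
    field_simp
  have hδ : ∀ c : L, ∃ e : L, g (c • x') = σ c • g x' + e • x := by
    intro c
    obtain ⟨α, β, e⟩ := hsub (σ c) 0 1
    rw [zero_smul, zero_add, one_smul] at e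
    refine ⟨σ (0 - α) * k, ?_⟩
    have h1 : G (σ c • g x') x = σ c / k := by
      rw [map_smul, LinearMap.smul_apply, smul_eq_mul, show g x' = g ((1 : L) • x') by rw [one_smul], hkey, map_one,
        mul_one_div]
    rw [e, map_add g, hA, map_add, LinearMap.add_apply, map_smul, LinearMap.smul_apply, T.sx, smul_zero, zero_add,
      hkey, div_left_inj' hk, EmbeddingLike.apply_eq_iff_eq] at h1
    rw [e, h1, map_add g, hA, zero_sub, map_neg σ, neg_mul, neg_smul]
    abel
  choose lam hlam using hδ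
  have hlam0 : ∀ c, lam c = 0 := by
    have hadd : ∀ a b, lam (a + b) = lam a + lam b := fun a b => smul_left_injective L T.x_ne (by
        have h := hlam (a + b)
        rw [add_smul, map_add g, hlam a, hlam b, map_add σ, add_smul] at h
        refine add_left_cancel (a := σ a • g x' + σ b • g x') (h.symm.trans ?_)
        beta_reduce
        rw [add_smul]; abel)
    have hone : lam 1 = 0 := by
      have h := hlam 1
      rwa [one_smul, map_one, one_smul, eq_comm, add_eq_left, smul_eq_zero, or_iff_left T.x_ne] at h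
    exact T.lam_eq_zero hF hg hk hA hkey hp' hW hadd hone hlam
  intro c
  refine ⟨σ c, fun z => ?_⟩
  conv_lhs => rw [T.decomp z, smul_add, smul_add, smul_smul, smul_smul, map_add g, map_add g, hA,
    hW c _ (T.proj_mem z), hlam, hlam0, zero_smul, add_zero]
  conv_rhs => rw [T.decomp z, map_add g, map_add g, hA, hlam, hlam0, zero_smul, add_zero, smul_add, smul_add, smul_smul,
    smul_smul]
  rw [map_mul σ, map_mul σ, mul_assoc]

end Frame

/-- An element sending a singular line into a line is semilinear. -/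
theorem Over.semi_of_line (hO : Over L G f H) (hF : ¬ Full f H) {g : V ≃ₗ[F] V} (hg : g ∈ H) {y : V} (hy0 : y ≠ 0)
    (hy : G y y = 0) (hline : ∀ a : L, ∃ b : L, g (a • y) = b • g y) : Semi L g := by
  obtain ⟨σ, hgy, hσ, -⟩ := hO.line_data hF hg hy0 hy hline
  have hgy0 : g y ≠ 0 := fun h => hy0 (g.injective (by rw [h, map_zero]))
  obtain ⟨y', hy', hyy'⟩ := hO.sG.exists_partner hy0 hy
  have T : Frame L G f H y y' := ⟨hO, hy, hy', hyy'⟩
  obtain ⟨h, hh, hlin, k, hk, hhk⟩ := hO.exists_move hgy0 hgy hy0 hy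
  have h1 := T.semi_of_stab hF (H.mul_mem hh hg) fun a => by
    obtain ⟨b, hb⟩ := hline a
    exact ⟨b * k, by rw [LinearEquiv.mul_apply, hb, hlin, hhk, smul_smul]⟩
  have := hlin.inv.semi.mul h1
  rwa [inv_mul_cancel_left] at this

end Cfsg.Lib.Classical.ExtFieldOrth
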