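import Cfsg.Agent.Classical.ExtFieldOrth.Three

/-! Every element of a proper overgroup is semilinear. -/

set_option autoImplicit false
set_option linter.unusedSectionVars false

namespace Cfsg.Lib.Classical.ExtFieldOrth

open Module Cfsg.Lib.Classical

variable {F L V : Type*} [Field F] [Finite F] [Field L] [Algebra F L] [FiniteDimensional F L]
  [AddCommGroup V] [Module F V] [Module L V] [IsScalarTower F L V] [FiniteDimensional F V]

variable {G : LinearMap.BilinForm L V} {f : LinearMap.BilinForm F V} {H : Subgroup (V ≃ₗ[F] V)}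

theorem Over.singular_image (hO : Over L G f H) (hF : ¬ Full f H) {g : V ≃ₗ[F] V} (hg : g ∈ H) {x : V}
    (hx : G x x = 0) : G (g x) (g x) = 0 := by
  rcases Nat.lt_or_ge (finrank L V) 4 with h | h
  · exact hO.singular_image_three hF (by have := hO.three_le; omega) hg hx
  · exact hO.singular_image_four hF h hg hx

/-- Orthogonality of singular vectors is preserved. -/
theorem Over.orth_image (hO : Over L G f H) (hF : ¬ Full f H) {g : V ≃ₗ[F] V} (hg : g ∈ H) {u v : V}
    (hu : G u u = 0) (hv : G v v = 0) (huv : G u v = 0) : G (g u) (g v) = 0 := by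
  have h := hO.singular_image hF hg (x := u + v) (by simp [hu, hv, huv, hO.sG.symm v u])
  simp only [map_add, LinearMap.add_apply, hO.singular_image hF hg hu, hO.singular_image hF hg hv,
    hO.sG.symm (g v) (g u), zero_add, add_zero] at h
  exact (mul_eq_zero.mp (show (2 : L) * G (g u) (g v) = 0 by linear_combination h)).resolve_left hO.sG.two

/-- A singular vector orthogonal to every singular vector orthogonal to `u` is a multiple of `u`. -/
theorem Over.mem_line_of_orth (hO : Over L G f H) {u z : V} (hu0 : u ≠ 0) (hu : G u u = 0) (hz : G z z = 0)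
    (h : ∀ y, G y y = 0 → G u y = 0 → G z y = 0) : ∃ a : L, z = a • u := by
  obtain ⟨u', hu', huu'⟩ := hO.sG.exists_partner hu0 hu
  have T : Frame L G f H u u' := ⟨hO, hu, hu', huu'⟩
  have hzu : G z u = 0 := h u hu hu
  refine ⟨G z u', ?_⟩
  conv_lhs => rw [T.decomp_perp hzu]
  rw [add_eq_left]
  by_contra hp
  set p := T.proj z with hpdef
  have hpW : T.InW p := T.proj_mem z
  have hzp : ∀ d, T.InW d → G z d = G p d := fun d hd => by
    conv_lhs => rw [T.decomp_perp hzu, map_add, LinearMap.add_apply, map_smul, LinearMap.smul_apply, hO.sG.symm u,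
      hd.1, smul_zero, zero_add]
  obtain ⟨d, hd, hdz⟩ : ∃ d, T.InW d ∧ G p d ≠ 0 := by
    by_contra! hc
    refine hp (hO.sG.nondeg p fun a => ?_)
    rw [T.decomp a, map_add, map_add, map_smul, map_smul, hpW.1, hpW.2, hc _ (T.proj_mem a), smul_zero, smul_zero,
      add_zero, add_zero]
  set d1 := (G p d)⁻¹ • d
  have hd1 : T.InW d1 := T.inW_smul hd _
  have hzd : G z d1 = 1 := by
    rw [hzp _ hd1, map_smul, smul_eq_mul, inv_mul_cancel₀ hdz]
  obtain ⟨e1, e2⟩ := hO.sG.exists_singular_partner hz hzd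
  have hud : G u d1 = 0 := by rw [hO.sG.symm]; exact hd1.1
  refine one_ne_zero (e2.symm.trans (h _ e1 ?_))
  rw [map_sub (G u), hud, map_smul (G u), hO.sG.symm u z, hzu, smul_zero, sub_zero]

/-- Every element of a proper overgroup is semilinear. -/
theorem Over.all_semi (hO : Over L G f H) (hF : ¬ Full f H) {g : V ≃ₗ[F] V} (hg : g ∈ H) : Semi L g := by
  have := hO.finV
  have := hO.finiteL
  obtain ⟨x, -, hx0, hx⟩ := hO.sG.exists_singular_mem ⊤ (by rw [finrank_top]; exact hO.three_le)
  have hgx0 : g x ≠ 0 := fun e => hx0 (g.injective (e.trans (map_zero g).symm))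
  refine hO.semi_of_line hF hg hx0 hx fun a => hO.mem_line_of_orth hgx0 (hO.singular_image hF hg hx)
    (hO.singular_image hF hg (by simp [hx])) fun y hy hxy => ?_
  have hy' : g ((g⁻¹ : V ≃ₗ[F] V) y) = y := g.apply_symm_apply y
  have hs : G ((g⁻¹ : V ≃ₗ[F] V) y) ((g⁻¹ : V ≃ₗ[F] V) y) = 0 := hO.singular_image hF (H.inv_mem hg) hy
  have ho : G x ((g⁻¹ : V ≃ₗ[F] V) y) = 0 := by
    have := hO.orth_image hF (H.inv_mem hg) (hO.singular_image hF hg hx) hy hxy
    rwa [show (g⁻¹ : V ≃ₗ[F] V) (g x) = x from g.symm_apply_apply x] at this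
  have h := hO.orth_image hF hg (u := a • x) (by simp [hx]) hs (by rw [map_smul, LinearMap.smul_apply, ho, smul_zero])
  rwa [hy'] at h

end Cfsg.Lib.Classical.ExtFieldOrth
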