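import Cfsg.Agent.Classical.ExtFieldOrth.Setting

/-! Rotations of an anisotropic or hyperbolic plane of prime order. -/

set_option autoImplicit false
set_option linter.unusedSectionVars false

namespace Cfsg.Lib.Classical.ExtFieldOrth

open Module Cfsg.Lib.Classical
open scoped commutatorElement

/-- The solutions of `a² + δ b² = 1`. -/
@[ext] structure Circ {L : Type*} [Field L] (δ : L) where
  fst : L
  snd : L
  eqn : fst ^ 2 + δ * snd ^ 2 = 1

namespace Circ

variable {L : Type*} [Field L] {δ : L}

instance : Mul (Circ δ) :=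
  ⟨fun c d => ⟨c.fst * d.fst - δ * (c.snd * d.snd), c.fst * d.snd + c.snd * d.fst, by
    linear_combination (d.fst ^ 2 + δ * d.snd ^ 2) * c.eqn + d.eqn⟩⟩

instance : One (Circ δ) := ⟨⟨1, 0, by ring⟩⟩

instance : Inv (Circ δ) := ⟨fun c => ⟨c.fst, -c.snd, by linear_combination c.eqn⟩⟩

theorem mul_fst (c d : Circ δ) : (c * d).fst = c.fst * d.fst - δ * (c.snd * d.snd) := rfl
theorem mul_snd (c d : Circ δ) : (c * d).snd = c.fst * d.snd + c.snd * d.fst := rfl
theorem one_fst : (1 : Circ δ).fst = 1 := rfl
theorem one_snd : (1 : Circ δ).snd = 0 := rfl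
theorem inv_fst (c : Circ δ) : c⁻¹.fst = c.fst := rfl
theorem inv_snd (c : Circ δ) : c⁻¹.snd = -c.snd := rfl

instance : CommGroup (Circ δ) where
  mul_assoc a b c := by ext <;> simp only [mul_fst, mul_snd] <;> ring
  one_mul a := by ext <;> simp [mul_fst, mul_snd, one_fst, one_snd]
  mul_one a := by ext <;> simp [mul_fst, mul_snd, one_fst, one_snd]
  inv_mul_cancel a := by
    ext
    · rw [mul_fst, inv_fst, inv_snd, one_fst]; linear_combination a.eqn
    · rw [mul_snd, inv_fst, inv_snd, one_snd]; ring
  mul_comm a b := by ext <;> simp only [mul_fst, mul_snd] <;> ring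

instance [Finite L] : Finite (Circ δ) :=
  Finite.of_injective (fun c : Circ δ => (c.fst, c.snd)) fun a b h => by
    ext
    · exact congrArg Prod.fst h
    · exact congrArg Prod.snd h

theorem card_cases [Finite L] (h2 : (2 : L) ≠ 0) (hδ : δ ≠ 0) :
    Nat.card (Circ δ) + 1 = Nat.card L ∨ Nat.card (Circ δ) = Nat.card L + 1 := by
  classical
  by_cases hs : ∃ s : L, s ^ 2 = -δ
  · left
    obtain ⟨s, hs⟩ := hs
    have hs0 : s ≠ 0 := fun h => hδ (by subst h; simpa using hs)
    let e : Circ δ ≃ Lˣ :=
      { toFun := fun c => ⟨c.fst + s * c.snd, c.fst - s * c.snd, by linear_combination c.eqn - c.snd ^ 2 * hs,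
          by linear_combination c.eqn - c.snd ^ 2 * hs⟩
        invFun := fun u => ⟨((u : L) + (u⁻¹ : Lˣ)) / 2, ((u : L) - (u⁻¹ : Lˣ)) / (2 * s), by
          have hu : (u : L) * (u⁻¹ : Lˣ) = 1 := u.mul_inv
          field_simp
          linear_combination (((u : L) - (u⁻¹ : Lˣ)) ^ 2) * hs + 4 * s ^ 2 * hu⟩
        left_inv := fun c => by
          ext <;> simp only [Units.inv_mk] <;> field_simp <;> ring
        right_inv := fun u => by
          ext
          field_simp
          ring }
    rw [Nat.card_congr e, Nat.card_units]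
    have : 0 < Nat.card L := Nat.card_pos
    omega
  · right
    push Not at hs
    have hden : ∀ t : L, 1 + δ * t ^ 2 ≠ 0 := fun t h => by
      rcases eq_or_ne t 0 with rfl | ht
      · simp at h
      · refine hs (1 / t) ?_
        field_simp
        linear_combination h
    let e : Option L ≃ Circ δ :=
      { toFun := fun o => o.elim ⟨-1, 0, by ring⟩ fun t =>
          ⟨(1 - δ * t ^ 2) / (1 + δ * t ^ 2), 2 * t / (1 + δ * t ^ 2), by
            have := hden t
            field_simp
            ring⟩
        invFun := fun c => if c.fst = -1 then none else some (c.snd / (1 + c.fst))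
        left_inv := by
          rintro (_ | t)
          · simp
          · have hd := hden t
            have hne : (1 - δ * t ^ 2) / (1 + δ * t ^ 2) ≠ -1 := by
              rw [Ne, div_eq_iff hd]
              intro h
              exact h2 (by linear_combination h)
            show (if (1 - δ * t ^ 2) / (1 + δ * t ^ 2) = -1 then none
              else some (2 * t / (1 + δ * t ^ 2) / (1 + (1 - δ * t ^ 2) / (1 + δ * t ^ 2)))) = some t
            rw [if_neg hne]
            congr 1
            rw [show 1 + (1 - δ * t ^ 2) / (1 + δ * t ^ 2) = 2 / (1 + δ * t ^ 2) by field_simp; ring]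
            field_simp
            rw [mul_comm (t ^ 2) δ, mul_div_assoc, div_self hd, mul_one]
        right_inv := fun c => by
          by_cases hc : c.fst = -1
          · have hb : c.snd = 0 := by
              have h := c.eqn
              rw [hc] at h
              have : δ * c.snd ^ 2 = 0 := by linear_combination h
              simpa [hδ] using this
            simp only [if_pos hc, Option.elim]
            ext <;> simp [hc, hb]
          · have h1 : 1 + c.fst ≠ 0 := fun h => hc (by linear_combination h)
            have hd := hden (c.snd / (1 + c.fst))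
            have e1 : 1 + δ * (c.snd / (1 + c.fst)) ^ 2 = 2 / (1 + c.fst) := by
              field_simp
              linear_combination c.eqn
            simp only [if_neg hc, Option.elim]
            ext
            · show _ / _ = c.fst
              rw [e1]; field_simp; linear_combination -c.eqn
            · show _ / _ = c.snd
              rw [e1]; field_simp }
    rw [← Nat.card_congr e, Finite.card_option]

end Circ

variable {F L V : Type*} [Field F] [Finite F] [Field L] [Algebra F L] [FiniteDimensional F L]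
  [AddCommGroup V] [Module F V] [Module L V] [IsScalarTower F L V] [FiniteDimensional F V]

variable {G : LinearMap.BilinForm L V} {f : LinearMap.BilinForm F V} {H : Subgroup (V ≃ₗ[F] V)}

/-- A rotation of prime order `ℓ` fixing only the orthogonal of a plane. -/
theorem Over.exists_rot (hO : Over L G f H) (hr3 : 3 ≤ finrank F L) {u1 u2 : V} (h1 : G u1 u1 ≠ 0) (h2 : G u2 u2 ≠ 0)
    (h12 : G u1 u2 = 0) : ∃ ℓ : ℕ, ℓ.Prime ∧ (Nat.card F : ZMod ℓ) ≠ 0 ∧
      (∀ d : ℕ, (Nat.card F : ZMod ℓ) ^ d = 1 → finrank F L ∣ d) ∧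
      ∃ e ∈ H, e ^ ℓ = 1 ∧ (∀ z, G z u1 = 0 → G z u2 = 0 → e z = z) ∧
        (∀ z, e z = z → G z u1 = 0 ∧ G z u2 = 0) ∧
        IsLin L e ∧ ∃ a : L, e u1 + (e⁻¹ : V ≃ₗ[F] V) u1 = a • u1 ∧ e u2 + (e⁻¹ : V ≃ₗ[F] V) u2 = a • u2 := by
  classical
  have : Finite L := hO.finiteL
  have h21 : G u2 u1 = 0 := by rw [hO.sG.symm]; exact h12
  have two : (2 : L) ≠ 0 := hO.sG.two
  obtain ⟨δ, hδdef⟩ : ∃ δ, δ = G u2 u2 / G u1 u1 := ⟨_, rfl⟩
  have hδ : δ ≠ 0 := by rw [hδdef]; exact div_ne_zero h2 h1
  have hn2 : G u2 u2 = δ * G u1 u1 := by rw [hδdef, div_mul_cancel₀ _ h1]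
  let A : Circ δ → V → L := fun c z => (c.fst - 1) * (G z u1 / G u1 u1) - δ * c.snd * (G z u2 / G u2 u2)
  let B : Circ δ → V → L := fun c z => c.snd * (G z u1 / G u1 u1) + (c.fst - 1) * (G z u2 / G u2 u2)
  let R : Circ δ →* Module.End L V :=
    { toFun := fun c =>
        { toFun := fun z => z + A c z • u1 + B c z • u2
          map_add' := fun a b => by
            simp only [A, B, map_add, LinearMap.add_apply]
            match_scalars <;> ring
          map_smul' := fun t a => by
            simp only [A, B, map_smul, LinearMap.smul_apply, smul_eq_mul, RingHom.id_apply]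
            match_scalars <;> ring }
      map_one' := LinearMap.ext fun z => by simp [A, B, Circ.one_fst, Circ.one_snd]
      map_mul' := fun c d => LinearMap.ext fun z => by
        show z + A (c * d) z • u1 + B (c * d) z • u2 =
          (z + A d z • u1 + B d z • u2) + A c (z + A d z • u1 + B d z • u2) • u1 +
            B c (z + A d z • u1 + B d z • u2) • u2
        simp only [A, B, Circ.mul_fst, Circ.mul_snd, map_add, map_smul, LinearMap.add_apply, LinearMap.smul_apply,
          smul_eq_mul, h12, h21]
        match_scalars <;> field_simp <;> ring }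
  let E : Circ δ →* (V ≃ₗ[L] V) := (LinearMap.GeneralLinearGroup.generalLinearEquiv L V).toMonoidHom.comp R.toHomUnits
  have hE : ∀ c z, E c z = z + A c z • u1 + B c z • u2 := fun c z => rfl
  have hEiso : ∀ c u v, G (E c u) (E c v) = G u v := fun c u v => by
    rw [hE, hE]
    simp only [A, B, map_add, map_smul, LinearMap.add_apply, LinearMap.smul_apply, smul_eq_mul, h12, h21,
      hO.sG.symm u1 v, hO.sG.symm u2 v]
    rw [hn2]
    field_simp
    linear_combination (G u1 u1 * (G u u1 * G v u1 * δ + G u u2 * G v u2)) * c.eqn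
  -- a prime of the right order and an element of that order
  have hq : 3 ≤ Nat.card F := by
    haveI := Fintype.ofFinite F
    rw [Nat.card_eq_fintype_card]
    have h1 := Fintype.one_lt_card (α := F)
    have h2 := FiniteField.odd_card_of_char_ne_two (F := F) fun h => by
      haveI : CharP F 2 := h ▸ ringChar.charP F
      exact hO.two (CharP.cast_eq_zero F 2)
    omega
  have hN := Circ.card_cases (δ := δ) two hδ
  rw [Module.natCard_eq_pow_finrank (K := F) (V := L)] at hN
  obtain ⟨ℓ, hℓ, hℓ2, hℓN, hord⟩ := exists_prime_order hO.prime hr3 hq _ hN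
  haveI : Fact ℓ.Prime := ⟨hℓ⟩
  obtain ⟨c, hc⟩ := exists_prime_orderOf_dvd_card' (G := Circ δ) ℓ hℓN
  have hq0 : (Nat.card F : ZMod ℓ) ≠ 0 := by
    intro h0
    have hr0 : finrank F L ≠ 0 := by omega
    have hNz : ((Nat.card (Circ δ) : ℕ) : ZMod ℓ) = 0 := (ZMod.natCast_eq_zero_iff _ _).mpr hℓN
    rcases hN with hN | hN
    · have h := congrArg (fun n : ℕ => (n : ZMod ℓ)) hN
      simp only [Nat.cast_add, Nat.cast_one, Nat.cast_pow, hNz, h0, zero_pow hr0, zero_add] at h
      exact one_ne_zero h
    · have h := congrArg (fun n : ℕ => (n : ZMod ℓ)) hN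
      simp only [Nat.cast_add, Nat.cast_one, Nat.cast_pow, hNz, h0, zero_pow hr0, zero_add] at h
      exact zero_ne_one h
  refine ⟨ℓ, hℓ, hq0, hord, resHom (E (c ^ 2)), ?_, ?_, fun z z1 z2 => ?_, fun z hz => ?_, isLin_resHom _,
    2 * (c ^ 2).fst, ?_, ?_⟩
  · have hrf : ∀ z, rf G u2 z = z - (2 * (G z u2 / G u2 u2)) • u2 := fun z => by rw [rf, mul_div_assoc]
    have e : E (c ^ 2) = ⁅E c, rfE hO.sG h2⁆ := by
      rw [commutatorElement_def, rfE_inv, mul_assoc (E c), mul_assoc (E c), pow_two, map_mul]
      congr 1
      refine LinearEquiv.ext fun z => ?_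
      rw [LinearEquiv.mul_apply, LinearEquiv.mul_apply, rfE_apply, rfE_apply, ← map_inv, hE, hE]
      simp only [A, B, hrf, Circ.inv_fst, Circ.inv_snd, map_add, map_sub, map_smul, LinearMap.add_apply,
        LinearMap.sub_apply, LinearMap.smul_apply, smul_eq_mul, h12, h21]
      match_scalars <;> field_simp <;> ring
    rw [e]
    exact hO.comm_mem _ _ (hEiso c) (rf_form hO.sG h2)
  · rw [← map_pow, ← map_pow, ← pow_mul, mul_comm, pow_mul, ← hc, pow_orderOf_eq_one, one_pow, map_one, map_one]
  · show E (c ^ 2) z = z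
    rw [hE]
    simp [A, B, z1, z2]
  · have hne : c ^ 2 ≠ 1 := by
      intro h
      have h' := orderOf_dvd_of_pow_eq_one h
      rw [hc] at h'
      exact hℓ2 ((Nat.prime_dvd_prime_iff_eq hℓ Nat.prime_two).mp h')
    set d := c ^ 2
    have hz' : z + A d z • u1 + B d z • u2 = z := by rw [← hE]; exact hz
    have hA : A d z = 0 := by
      have h := congrArg (fun w => G w u1) hz'
      simpa [h12, h21, h1] using h
    have hB : B d z = 0 := by
      have h := congrArg (fun w => G w u2) hz'
      simpa [h12, h21, h2] using h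
    have hd1 : d.fst ≠ 1 := fun h => hne (by
      have hb : d.snd = 0 := by
        have h' := d.eqn
        rw [h] at h'
        have : δ * d.snd ^ 2 = 0 := by linear_combination h'
        simpa [hδ] using this
      ext
      · exact h
      · exact hb)
    have hk : 2 - 2 * d.fst ≠ 0 := fun h => hd1 (mul_left_cancel₀ two (by linear_combination -h))
    simp only [A, B] at hA hB
    constructor
    · have : (2 - 2 * d.fst) * (G z u1 / G u1 u1) = 0 := by
        linear_combination (d.fst - 1) * hA + δ * d.snd * hB - (G z u1 / G u1 u1) * d.eqn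
      exact (div_eq_zero_iff.mp ((mul_eq_zero.mp this).resolve_left hk)).resolve_right h1
    · have : (2 - 2 * d.fst) * (G z u2 / G u2 u2) = 0 := by
        linear_combination (d.fst - 1) * hB - d.snd * hA - (G z u2 / G u2 u2) * d.eqn
      exact (div_eq_zero_iff.mp ((mul_eq_zero.mp this).resolve_left hk)).resolve_right h2
  · rw [← map_inv, ← map_inv]
    show E (c ^ 2) u1 + E (c ^ 2)⁻¹ u1 = _
    rw [hE, hE]
    simp only [A, B, Circ.inv_fst, Circ.inv_snd, h12, h21, h1, div_self, zero_div, ne_eq, not_false_eq_true]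
    match_scalars <;> ring
  · rw [← map_inv, ← map_inv]
    show E (c ^ 2) u2 + E (c ^ 2)⁻¹ u2 = _
    rw [hE, hE]
    simp only [A, B, Circ.inv_fst, Circ.inv_snd, h12, h21, h2, div_self, zero_div, ne_eq, not_false_eq_true]
    match_scalars <;> ring

end Cfsg.Lib.Classical.ExtFieldOrth
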