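import Mathlib
import Cfsg.Agent.Classical.Orth.Basic
import Cfsg.Agent.Classical.ExtFieldOrth.Field

/-! Orthogonal groups over an extension field inside those over the base field. -/

set_option autoImplicit false
set_option linter.unusedSectionVars false

namespace Cfsg.Lib.Classical.ExtFieldOrth

open Module Cfsg.Lib.Classical
open scoped commutatorElement

section Generic

variable {K W : Type*} [Field K] [AddCommGroup W] [Module K W]

/-- The Siegel map of `u` along `z`. -/
def sg (B : LinearMap.BilinForm K W) (u z v : W) : W := v + B v u • z - B v z • u - (B z z / 2 * B v u) • u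

/-- The Siegel map as a linear map. -/
def sgLin (B : LinearMap.BilinForm K W) (u z : W) : W →ₗ[K] W where
  toFun := sg B u z
  map_add' a b := by simp only [sg, map_add, LinearMap.add_apply, add_smul, mul_add]; abel
  map_smul' c a := by simp only [sg, map_smul, LinearMap.smul_apply, smul_eq_mul, RingHom.id_apply, smul_add,
    smul_sub, smul_smul]; match_scalars <;> ring

theorem sgLin_apply (B : LinearMap.BilinForm K W) (u z v : W) : sgLin B u z v = sg B u z v := rfl

variable {B : LinearMap.BilinForm K W} (S : SymSpace B)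
include S

theorem sg_sg {u z z' : W} (hu : B u u = 0) (huz : B u z = 0) (huz' : B u z' = 0) (v : W) :
    sg B u z (sg B u z' v) = sg B u (z + z') v := by
  have h2 := S.two
  simp only [sg, map_add, map_sub, map_smul, LinearMap.add_apply, LinearMap.sub_apply, LinearMap.smul_apply,
    smul_eq_mul, S.symm z' u, S.symm z u, S.symm z' z, hu, huz, huz']
  match_scalars <;> field_simp <;> ring

theorem sg_zero (u v : W) : sg B u 0 v = v := by simp [sg]

theorem sg_form {u z : W} (hu : B u u = 0) (huz : B u z = 0) (v v' : W) :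
    B (sg B u z v) (sg B u z v') = B v v' := by
  have h2 := S.two
  simp only [sg, map_add, map_sub, map_smul, LinearMap.add_apply, LinearMap.sub_apply, LinearMap.smul_apply,
    smul_eq_mul, S.symm z u, S.symm u v', S.symm z v', hu, huz]
  field_simp
  ring

/-- The Siegel map as a linear automorphism. -/
def sgE {u z : W} (hu : B u u = 0) (huz : B u z = 0) : W ≃ₗ[K] W :=
  LinearEquiv.ofLinearMap (sgLin B u z) (sgLin B u (-z))
    (LinearMap.ext fun v => by
      show sg B u z (sg B u (-z) v) = v
      rw [sg_sg S hu huz (by simp [huz]), add_neg_cancel, sg_zero S])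
    (LinearMap.ext fun v => by
      show sg B u (-z) (sg B u z v) = v
      rw [sg_sg S hu (by simp [huz]) huz, neg_add_cancel, sg_zero S])

theorem sgE_apply {u z : W} (hu : B u u = 0) (huz : B u z = 0) (v : W) : sgE S hu huz v = sg B u z v := rfl

theorem sgE_inv {u z : W} (hu : B u u = 0) (huz : B u z = 0) (v : W) :
    (sgE S hu huz)⁻¹ v = sg B u (-z) v := rfl

theorem sgE_mul {u z z' : W} (hu : B u u = 0) (huz : B u z = 0) (huz' : B u z' = 0)
    (h : B u (z + z') = 0) : sgE S hu huz * sgE S hu huz' = sgE S hu h :=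
  LinearEquiv.ext fun v => sg_sg S hu huz huz' v

/-- The reflection. -/
def rf (B : LinearMap.BilinForm K W) (u v : W) : W := v - (2 * B v u / B u u) • u

theorem rf_rf {u : W} (hu : B u u ≠ 0) (v : W) : rf B u (rf B u v) = v := by
  simp only [rf, map_sub, map_smul, LinearMap.sub_apply, LinearMap.smul_apply, smul_eq_mul]
  match_scalars <;> field_simp
  ring

theorem rf_form {u : W} (hu : B u u ≠ 0) (v v' : W) : B (rf B u v) (rf B u v') = B v v' := by
  simp only [rf, map_sub, map_smul, LinearMap.sub_apply, LinearMap.smul_apply, smul_eq_mul, S.symm u v']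
  field_simp
  ring

/-- The reflection as a linear automorphism. -/
def rfE {u : W} (hu : B u u ≠ 0) : W ≃ₗ[K] W :=
  LinearEquiv.ofInvolutive
    ({ toFun := rf B u
       map_add' := fun a b => by
        simp only [rf, map_add, LinearMap.add_apply, mul_add, add_div, add_smul]; abel
       map_smul' := fun c a => by
        simp only [rf, map_smul, LinearMap.smul_apply, smul_eq_mul, RingHom.id_apply, smul_sub, smul_smul]
        match_scalars <;> ring } : W →ₗ[K] W) (rf_rf S hu)

theorem rfE_apply {u : W} (hu : B u u ≠ 0) (v : W) : rfE S hu v = rf B u v := rfl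

theorem rfE_inv {u : W} (hu : B u u ≠ 0) : (rfE S hu)⁻¹ = rfE S hu :=
  inv_eq_of_mul_eq_one_right (LinearEquiv.ext (rf_rf S hu))

theorem rfE_conj {u : W} (hu : B u u ≠ 0) (g : W ≃ₗ[K] W) (hg : ∀ a b, B (g a) (g b) = B a b)
    (h : B (g u) (g u) ≠ 0) : g * rfE S hu * g⁻¹ = rfE S h := by
  refine LinearEquiv.ext fun v => ?_
  obtain ⟨w, rfl⟩ := g.surjective v
  show g (rf B u (g.symm (g w))) = rf B (g u) (g w)
  simp only [LinearEquiv.symm_apply_apply, rf, map_sub, map_smul, hg]

/-- A product of reflections in orthogonal vectors of equal norm is a commutator. -/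
theorem rfE_mul_eq_commutator {u w : W} (hu : B u u ≠ 0) (hw : B w w ≠ 0) (huw : B u w = 0)
    (heq : B u u = B w w) :
    ∃ hd : B (u - w) (u - w) ≠ 0, rfE S hu * rfE S hw = ⁅rfE S hu, rfE S hd⁆ := by
  have h2 := S.two
  have hd : B (u - w) (u - w) ≠ 0 := by
    simp only [map_sub, LinearMap.sub_apply, huw, S.symm w u, sub_zero, zero_sub, sub_neg_eq_add, ← heq, ← two_mul]
    exact mul_ne_zero h2 hu
  refine ⟨hd, ?_⟩
  have himg : rf B (u - w) u = w := by
    have e : B (u - w) (u - w) = 2 * B u u := by
      simp only [map_sub, LinearMap.sub_apply, huw, S.symm w u, sub_zero, zero_sub, sub_neg_eq_add, ← heq, ← two_mul]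
    rw [rf, e, map_sub, huw, sub_zero, div_self (mul_ne_zero h2 hu), one_smul, sub_sub_cancel]
  have hconj := rfE_conj S hu (rfE S hd) (rf_form S hd) (by rw [rfE_apply, himg]; exact hw)
  rw [rfE_inv] at hconj
  rw [commutatorElement_def, rfE_inv, rfE_inv, mul_assoc (rfE S hu), mul_assoc (rfE S hu)]
  congr 1
  rw [hconj]
  refine LinearEquiv.ext fun v => ?_
  rw [rfE_apply, rfE_apply, rfE_apply, himg]

end Generic

section Over

variable {F L V : Type*} [Field F] [Finite F] [Field L] [Algebra F L] [FiniteDimensional F L]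
  [AddCommGroup V] [Module F V] [Module L V] [IsScalarTower F L V] [FiniteDimensional F V]

variable (L) in
/-- `g` is semilinear over `L`. -/
def Semi (g : V ≃ₗ[F] V) : Prop := ∀ a : L, ∃ b : L, ∀ z : V, g (a • z) = b • g z

variable (L) in
/-- Scalars of `L` commute with `g`. -/
def IsLin (g : V ≃ₗ[F] V) : Prop := ∀ (a : L) (z : V), g (a • z) = a • g z

/-- `L`-linear automorphisms over the base field. -/
def resHom : (V ≃ₗ[L] V) →* (V ≃ₗ[F] V) where
  toFun g := g.restrictScalars F
  map_one' := rfl
  map_mul' _ _ := rfl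

theorem resHom_apply (g : V ≃ₗ[L] V) (z : V) : (resHom g : V ≃ₗ[F] V) z = g z := rfl

theorem isLin_resHom (g : V ≃ₗ[L] V) : IsLin L (resHom g : V ≃ₗ[F] V) := fun a z => map_smul g a z

variable (L) in
/-- The form over `L` and the hypotheses on a subgroup of the isometries of its trace. -/
structure Over (G : LinearMap.BilinForm L V) (f : LinearMap.BilinForm F V) (H : Subgroup (V ≃ₗ[F] V)) : Prop where
  prime : (finrank F L).Prime
  sG : SymSpace G
  sf : SymSpace f
  trace : ∀ u v, f u v = Algebra.trace F L (G u v)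
  isom : ∀ g ∈ H, ∀ u v, f (g u) (g v) = f u v
  det_eq : ∀ g ∈ H, LinearMap.det (g : V →ₗ[F] V) = 1
  comm_mem : ∀ a b : V ≃ₗ[L] V, (∀ u v, G (a u) (a v) = G u v) → (∀ u v, G (b u) (b v) = G u v) →
    resHom ⁅a, b⁆ ∈ H
  three_le : 3 ≤ finrank L V
  five_le : finrank F L = 2 → 4 ≤ finrank L V
  /-- Semilinear isometries differing from `H` by an element of odd order are in `H`. -/
  semi_mem : ∀ g ∈ H, ∀ n : V ≃ₗ[F] V, Semi L (g * n) → (∀ u v, f (n u) (n v) = f u v) →
    (∃ j, Odd j ∧ n ^ j = 1) → n ∈ H

/-- All Siegel maps of `f` are in `H`. -/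
def Full (f : LinearMap.BilinForm F V) (H : Subgroup (V ≃ₗ[F] V)) : Prop :=
  ∀ u z, f u u = 0 → f u z = 0 → ∃ h ∈ H, ∀ v, h v = sg f u z v

variable {G : LinearMap.BilinForm L V} {f : LinearMap.BilinForm F V} {H : Subgroup (V ≃ₗ[F] V)}

theorem Over.two (hO : Over L G f H) : (2 : F) ≠ 0 := hO.sf.two

theorem Over.finiteL (_hO : Over L G f H) : Finite L := Module.finite_of_finite F

theorem Over.finV (_hO : Over L G f H) : FiniteDimensional L V := FiniteDimensional.right F L V

theorem Over.card_dim (_hO : Over L G f H) : finrank F L * finrank L V = finrank F V := finrank_mul_finrank F L V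

theorem Over.f_smul (hO : Over L G f H) (c : L) (u v : V) : f (c • u) v = f u (c • v) := by
  rw [hO.trace, hO.trace]
  simp only [map_smul, LinearMap.smul_apply]

theorem Over.eq_zero_of_trace (hO : Over L G f H) {u v : V} (h : ∀ c : L, f (c • u) v = 0) : G u v = 0 := by
  refine eq_of_trace (F := F) fun c => ?_
  have := h c
  rw [hO.trace, map_smul, LinearMap.smul_apply, smul_eq_mul] at this
  rw [this, mul_zero, map_zero]

/-- A Siegel element of `G` as an element of `H`. -/
theorem Over.siegel_mem (hO : Over L G f H) {x w : V} (hx : G x x = 0) (hxw : G x w = 0) :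
    resHom (sgE hO.sG hx hxw) ∈ H := by
  rcases eq_or_ne x 0 with rfl | hx0
  · have : sgE hO.sG hx hxw = (1 : V ≃ₗ[L] V) := LinearEquiv.ext fun v => by simp [sgE_apply, sg]
    rw [this, map_one]; exact H.one_mem
  obtain ⟨x', hx', hxx'⟩ := hO.sG.exists_partner hx0 hx
  have hu : G (x + x') (x + x') ≠ 0 := by
    simp only [map_add, LinearMap.add_apply, hx, hx', hxx', hO.sG.symm x' x, zero_add, add_zero]
    rw [show (1 : L) + 1 = 2 by norm_num]; exact hO.sG.two
  have hv : G (x - x') (x - x') ≠ 0 := by
    simp only [map_sub, LinearMap.sub_apply, hx, hx', hxx', hO.sG.symm x' x, zero_sub, sub_zero]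
    rw [show -(1 : L) - 1 = -2 by norm_num]; exact neg_ne_zero.mpr hO.sG.two
  set t := rfE hO.sG hu * rfE hO.sG hv with ht
  have htform : ∀ a b, G (t a) (t b) = G a b := fun a b => by
    rw [ht, LinearEquiv.mul_apply, LinearEquiv.mul_apply, rfE_apply, rfE_apply, rfE_apply, rfE_apply,
      rf_form hO.sG hu, rf_form hO.sG hv]
  set w' := w - G w x' • x with hw'
  have hxw' : G x w' = 0 := by simp [hw', hxw, hx]
  have hx'w' : G x' w' = 0 := by simp [hw', hO.sG.symm x' x, hxx', hO.sG.symm w x']
  have e2 : (2 : L) ≠ 0 := hO.sG.two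
  have htx : t x = -x := by
    rw [ht, LinearEquiv.mul_apply, rfE_apply, rfE_apply]
    simp only [rf, map_add, map_sub, map_smul, LinearMap.add_apply, LinearMap.sub_apply, LinearMap.smul_apply, hx,
      hx', hxx', hO.sG.symm x' x, smul_eq_mul]
    match_scalars <;> simp [inv_neg, neg_div, div_eq_mul_inv, e2, show (-1 : L) - 1 = -2 by norm_num,
      show (1 : L) + 1 = 2 by norm_num] <;> ring
  have htw : t w' = w' := by
    rw [ht, LinearEquiv.mul_apply, rfE_apply, rfE_apply]
    simp [rf, hO.sG.symm w' x, hO.sG.symm w' x', hxw', hx'w']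
  have hxh : G x ((-(2⁻¹ : L)) • w') = 0 := by rw [map_smul, hxw', smul_zero]
  have key : sgE hO.sG hx hxw = ⁅t, sgE hO.sG hx hxh⁆ := by
    refine LinearEquiv.ext fun v => ?_
    rw [commutatorElement_def]
    simp only [LinearEquiv.mul_apply, sgE_apply, sgE_inv]
    have hconj : ∀ z a, G x z = 0 → t (sg G x z (t⁻¹ a)) = sg G (t x) (t z) a := fun z a _ => by
      obtain ⟨a, rfl⟩ := t.surjective a
      show t (sg G x z (t.symm (t a))) = _
      simp only [LinearEquiv.symm_apply_apply, sg, map_add, map_sub, map_smul, htform]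
    rw [hconj _ _ hxh, htx, map_smul, htw]
    simp only [sg, map_neg, map_smul, map_add, map_sub, LinearMap.add_apply, LinearMap.sub_apply,
      LinearMap.neg_apply, LinearMap.smul_apply, smul_eq_mul, hw', hO.sG.symm w x, hxw, hx]
    match_scalars <;> field_simp <;> ring
  rw [key]
  exact hO.comm_mem _ _ htform (sg_form hO.sG hx hxh)

theorem Over.isLin_sg (hO : Over L G f H) {x w : V} (hx : G x x = 0) (hxw : G x w = 0) :
    IsLin L (resHom (sgE hO.sG hx hxw) : V ≃ₗ[F] V) := isLin_resHom _

/-- Two reflections with orthogonal vectors of equal norm. -/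
theorem Over.rfl_mem (hO : Over L G f H) {u w : V} (hu : G u u ≠ 0) (hw : G w w ≠ 0) (huw : G u w = 0)
    (heq : G u u = G w w) : resHom (rfE hO.sG hu * rfE hO.sG hw) ∈ H := by
  obtain ⟨hd, e⟩ := rfE_mul_eq_commutator hO.sG hu hw huw heq
  rw [e]
  exact hO.comm_mem _ _ (rf_form hO.sG hu) (rf_form hO.sG hd)

end Over

end Cfsg.Lib.Classical.ExtFieldOrth
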