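import Cfsg.Agent.Classical.ExtFieldOrth.Win

/-! The stabiliser of a singular line acts semilinearly on the line. -/

set_option autoImplicit false
set_option linter.unusedSectionVars false

namespace Cfsg.Lib.Classical.ExtFieldOrth

open Module Cfsg.Lib.Classical

variable {F L V : Type*} [Field F] [Finite F] [Field L] [Algebra F L] [FiniteDimensional F L]
  [AddCommGroup V] [Module F V] [Module L V] [IsScalarTower F L V] [FiniteDimensional F V]

variable {G : LinearMap.BilinForm L V} {f : LinearMap.BilinForm F V} {H : Subgroup (V ≃ₗ[F] V)} {x x' : V}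

namespace Frame

/-- Vectors in the orthogonal of the line have no component at `x'`. -/
theorem decomp_perp (T : Frame L G f H x x') {z : V} (hz : G z x = 0) : z = G z x' • x + T.proj z := by
  conv_lhs => rw [T.decomp z, hz, zero_smul, add_zero]

/-- Linear functionals vanishing on the line are represented in the complement. -/
theorem exists_rep_W (T : Frame L G f H x x') (θ : V →ₗ[L] L) :
    ∃ w, T.InW w ∧ ∀ z, T.InW z → G z w = θ z := by
  have := T.ov.finV
  let P : V →ₗ[L] V := LinearMap.id - (G.flip x').smulRight x - (G.flip x).smulRight x'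
  have hP : ∀ z, P z = T.proj z := fun z => by simp [P, proj]
  obtain ⟨e, he⟩ := T.ov.sG.exists_rep (θ ∘ₗ P)
  refine ⟨e, ⟨?_, ?_⟩, fun z hz => ?_⟩
  · rw [T.ov.sG.symm, he, LinearMap.comp_apply, hP]
    simp [proj, T.sx, T.pair]
  · rw [T.ov.sG.symm, he, LinearMap.comp_apply, hP]
    simp [proj, T.sx', T.pair']
  · rw [he, LinearMap.comp_apply, hP]
    simp [proj, hz.1, hz.2]

/-- Without all Siegel maps, the maps acting on coefficient maps are scalar. -/
theorem al_linear (T : Frame L G f H x x') (hF : ¬ Full f H) {B : Module.End F L} (hB : B ∈ T.Al) (a : L) :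
    B a = B 1 * a := by
  rcases subring_dichotomy T.ov.prime T.Al T.mulLeft_mem_Al with h | h
  · conv_lhs => rw [← mul_one a, h B hB]
    exact mul_comm _ _
  · refine absurd (T.full_of_all fun w hw => T.inM_congr (h _ (T.inM_linear hw)) fun z _ => ?_) hF
    rw [T.ov.trace]
    rfl

/-- The stabiliser acts semilinearly on the line. -/
theorem exists_aut (T : Frame L G f H x x') (hF : ¬ Full f H) {g : V ≃ₗ[F] V} (hg : g ∈ H) {A : L ≃ₗ[F] L}
    (hA : ∀ a, g (a • x) = A a • x) (hp : ∀ z, G z x = 0 → G ((g⁻¹ : V ≃ₗ[F] V) z) x = 0)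
    (hp' : ∀ z, G z x = 0 → G (g z) x = 0) (hs : ∀ a, (g⁻¹ : V ≃ₗ[F] V) (a • x) = A.symm a • x) :
    ∃ σ : L ≃ₐ[F] L, A 1 ≠ 0 ∧ ∀ a, A a = σ a * A 1 := by
  classical
  let C : L → Module.End F L := fun c => A.toLinearMap ∘ₗ LinearMap.mulLeft F c ∘ₗ A.symm.toLinearMap
  have hC : ∀ c, C c ∈ T.Al := by
    let S : AddSubgroup L :=
      { carrier := {c | C c ∈ T.Al}
        zero_mem' := by
          show C 0 ∈ T.Al
          convert T.Al.zero_mem using 1
          exact LinearMap.ext fun a => by simp [C]
        add_mem' := fun {p q} hp hq => by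
          show C (p + q) ∈ T.Al
          convert T.Al.add_mem hp hq using 1
          exact LinearMap.ext fun a => by
            show A ((p + q) * A.symm a) = A (p * A.symm a) + A (q * A.symm a)
            rw [add_mul, map_add]
        neg_mem' := fun {p} hp => by
          show C (-p) ∈ T.Al
          convert T.Al.neg_mem hp using 1
          exact LinearMap.ext fun a => by
            show A (-p * A.symm a) = -A (p * A.symm a)
            rw [neg_mul, map_neg] }
    have h1 : (1 : L) ∈ S := by
      show C 1 ∈ T.Al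
      convert T.Al.one_mem using 1
      exact LinearMap.ext fun a => by simp [C]
    intro c
    have := mul_mem_of_sq T.ov.two S (fun d hd a ha => by
      show C (d ^ 2 * a) ∈ T.Al
      have hm : C (d ^ 2) ∈ T.Al := by
        refine T.mem_Al_of_stab (s := g * T.tor (pow_ne_zero 2 hd) * g⁻¹)
          (H.mul_mem (H.mul_mem hg (T.tor_sq_mem hd)) (H.inv_mem hg)) _ (fun b => ?_) fun z hz => ?_
        · rw [LinearEquiv.mul_apply, LinearEquiv.mul_apply, hs, tor_x, hA]; rfl
        · refine ⟨A ((d ^ 2 - 1) * G ((g⁻¹ : V ≃ₗ[F] V) z) x'), ?_⟩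
          rw [LinearEquiv.mul_apply, LinearEquiv.mul_apply, tor_apply, dia, hp z hz, mul_zero, zero_smul, add_zero,
            map_add, hA]
          congr 1
          exact g.apply_symm_apply z
      convert T.Al.mul_mem hm ha using 1
      exact LinearMap.ext fun b => by
        show A (d ^ 2 * a * A.symm b) = A (d ^ 2 * A.symm (A (a * A.symm b)))
        rw [A.symm_apply_apply, mul_assoc]) c h1
    rwa [mul_one] at this
  let μ : L → L := fun c => A (c * A.symm 1)
  have hμ : ∀ c b, A (c * b) = μ c * A b := fun c b => by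
    have h : A (c * A.symm (A b)) = μ c * A b := T.al_linear hF (hC c) (A b)
    rwa [A.symm_apply_apply] at h
  have hA1 : A 1 ≠ 0 := fun h => one_ne_zero (A.injective (by rw [h, map_zero]) : (1 : L) = 0)
  have hμ1 : μ 1 = 1 := by simp [μ]
  let φ : L →ₐ[F] L :=
    { toFun := μ
      map_one' := hμ1
      map_mul' := fun p q => by
        refine mul_right_cancel₀ hA1 ?_
        rw [mul_assoc, ← hμ q, ← hμ p, mul_one, ← hμ, mul_one]
      map_zero' := by simp [μ]
      map_add' := fun p q => by simp [μ, add_mul]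
      commutes' := fun t => by
        refine mul_right_cancel₀ hA1 ?_
        show μ (algebraMap F L t) * A 1 = _
        rw [← hμ, ← Algebra.smul_def, map_smul, Algebra.smul_def] }
  have : Finite L := Module.finite_of_finite F
  have hbij : Function.Bijective φ := Finite.injective_iff_bijective.mp φ.toRingHom.injective
  refine ⟨AlgEquiv.ofBijective φ hbij, hA1, fun a => ?_⟩
  show A a = μ a * A 1
  rw [← hμ, mul_one]

/-- Semilinearity on the line and linearity modulo it force linearity on the line. -/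
theorem aut_eq_one (T : Frame L G f H x x') (hF : ¬ Full f H) {g : V ≃ₗ[F] V} (hg : g ∈ H) {A : L ≃ₗ[F] L}
    (hA : ∀ a, g (a • x) = A a • x) (hp : ∀ z, G z x = 0 → G ((g⁻¹ : V ≃ₗ[F] V) z) x = 0)
    (hs : ∀ a, (g⁻¹ : V ≃ₗ[F] V) (a • x) = A.symm a • x) {σ : L ≃ₐ[F] L} (hA1 : A 1 ≠ 0)
    (hσ : ∀ a, A a = σ a * A 1) (hlin : ∀ (c : L) z, G z x = 0 → ∃ d : L, g (c • z) = c • g z + d • x) : σ = 1 := by
  classical
  by_contra hne
  refine hF (T.full_of_all fun w hw => ?_)
  have hpow : ∀ i : ℕ, ∀ w, T.InW w → T.InM (fun z => (σ ^ i : L ≃ₐ[F] L) (G z w)) := by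
    intro i
    induction i with
    | zero => exact fun w hw => T.inM_linear hw
    | succ i ih =>
      intro w1 hw1
      let θ : V →ₗ[L] L :=
        { toFun := fun y => G (g (T.proj y)) w1
          map_add' := fun a b => by
            have e : T.proj (a + b) = T.proj a + T.proj b := by simp [proj, add_smul]; abel
            simp [e]
          map_smul' := fun c a => by
            have e : T.proj (c • a) = c • T.proj a := by simp [proj, smul_sub, smul_smul]
            obtain ⟨d, hd⟩ := hlin c (T.proj a) (T.proj_mem a).1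
            rw [e, hd, map_add, LinearMap.add_apply, map_smul, LinearMap.smul_apply, map_smul, LinearMap.smul_apply,
              T.ov.sG.symm x, hw1.1, smul_zero, add_zero]
            rfl }
      obtain ⟨w, hw, hrep⟩ := T.exists_rep_W θ
      obtain ⟨u, hu, e⟩ := ih w hw
      obtain ⟨hu', e'⟩ := T.conj_inU hg hA hp hs hu
      refine T.inM_congr (T.inM_smul ⟨_, hu', fun z hz => rfl⟩ (A 1)⁻¹) fun z hz => ?_
      rw [e' z hz, ← e _ (T.proj_mem _)]
      beta_reduce
      have hz1 : G (T.proj ((g⁻¹ : V ≃ₗ[F] V) z)) w = G z w1 := by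
        rw [hrep _ (T.proj_mem _)]
        have hy := T.decomp_perp (hp z hz.1)
        have hgp : g (T.proj ((g⁻¹ : V ≃ₗ[F] V) z)) = z - A (G ((g⁻¹ : V ≃ₗ[F] V) z) x') • x := by
          rw [eq_sub_iff_add_eq, ← hA, add_comm, ← map_add, ← hy]
          exact g.apply_symm_apply z
        show G (g (T.proj (T.proj _))) w1 = _
        have hidem : ∀ y, T.proj (T.proj y) = T.proj y := fun y => by
          conv_lhs => rw [proj, (T.proj_mem y).1, (T.proj_mem y).2, zero_smul, zero_smul, sub_zero, sub_zero]
        rw [hidem, hgp, map_sub, LinearMap.sub_apply, map_smul, LinearMap.smul_apply, T.ov.sG.symm x, hw1.1,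
          smul_zero, sub_zero]
      rw [hz1, hσ ((σ ^ i : L ≃ₐ[F] L) (G z w1)), pow_succ', AlgEquiv.mul_apply]
      field_simp
  refine T.inM_congr ?_ fun z _ => show algebraMap F L (f z w) = ∑ τ : L ≃ₐ[F] L, τ (G z w) by
    rw [T.ov.trace, trace_eq_sum]
  induction (Finset.univ : Finset (L ≃ₐ[F] L)) using Finset.induction with
  | empty => simpa using T.inM_zero
  | @insert a t ha ih =>
    refine T.inM_congr (T.inM_add ?_ ih) fun z _ => Finset.sum_insert ha
    obtain ⟨i, rfl⟩ := aut_eq_pow T.ov.prime hne a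
    exact hpow i w hw

/-- Elements acting linearly modulo the line act linearly on it. -/
theorem line_linear (T : Frame L G f H x x') (hF : ¬ Full f H) {g : V ≃ₗ[F] V} (hg : g ∈ H)
    (hst : ∀ a : L, ∃ b : L, g (a • x) = b • x)
    (hlin : ∀ (c : L) z, G z x = 0 → ∃ d : L, g (c • z) = c • g z + d • x) :
    ∃ k : L, k ≠ 0 ∧ ∀ a : L, g (a • x) = (k * a) • x := by
  obtain ⟨A, hA, hp', hs, hp⟩ := T.exists_A hg hst
  obtain ⟨σ, hA1, hσ⟩ := T.exists_aut hF hg hA hp hp' hs
  have h1 := T.aut_eq_one hF hg hA hp hs hA1 hσ hlin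
  refine ⟨A 1, hA1, fun a => ?_⟩
  rw [hA, hσ, h1, AlgEquiv.one_apply, mul_comm]

end Frame

end Cfsg.Lib.Classical.ExtFieldOrth
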