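import Cfsg.Agent.Classical.ExtFieldOrth.ThreeSetup
import Cfsg.Agent.Coprime.Generation

/-!
The stabiliser of a singular vector, in dimension three over a cubic field of characteristic three, is a
three-group: by Burnside's transfer theorem there is no further element of prime order.
-/

set_option autoImplicit false
set_option linter.unusedSectionVars false

namespace Cfsg.Lib.Classical.ExtFieldOrth

open Module Cfsg.Lib.Classical

variable {F L V : Type*} [Field F] [Finite F] [Field L] [Algebra F L] [FiniteDimensional F L]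
  [AddCommGroup V] [Module F V] [Module L V] [IsScalarTower F L V] [FiniteDimensional F V]

variable {G : LinearMap.BilinForm L V} {f : LinearMap.BilinForm F V} {H : Subgroup (V ≃ₗ[F] V)} {x x' y : V} {γ : F}

namespace Frame3

/-- Siegel elements fixing `x`. -/
theorem us_mem_stab (T : Frame3 L G f H x x' y γ) (c : Multiplicative L) :
    T.fr.ov.usHom T.fr.sx T.Gxy c ∈ T.fr.ov.stab x :=
  ⟨(T.fr.ov.usHom_mem T.fr.sx T.Gxy c).1, by
    show sg G x (Multiplicative.toAdd c • y) x = x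
    simp [sg, T.fr.sx, T.Gxy]⟩

theorem us_value (T : Frame3 L G f H x x' y γ) (c : L) :
    G (T.fr.ov.usHom T.fr.sx T.Gxy (Multiplicative.ofAdd c) x') y = c * algebraMap F L γ := by
  rw [T.fr.ov.usHom_apply]
  simp [sg, T.fr.pair', T.Gxy, T.Gx'y, T.norm_eq]

/-- A linear element fixing `x` is a Siegel element. -/
theorem lin_eq_us (T : Frame3 L G f H x x' y γ) {q : V ≃ₗ[F] V} (hq : q ∈ H) (hx : q x = x) (hlin : IsLin L q) :
    q = T.fr.ov.usHom T.fr.sx T.Gxy (Multiplicative.ofAdd (G (q x') y / algebraMap F L γ)) := by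
  set c := G (q x') y / algebraMap F L γ with hc
  set us := T.fr.ov.usHom T.fr.sx T.Gxy
  set u := us (Multiplicative.ofAdd (-c)) with hu
  obtain ⟨huH, hulin⟩ := T.fr.ov.usHom_mem T.fr.sx T.Gxy (Multiplicative.ofAdd (-c))
  have hux : u x = x := (T.us_mem_stab _).2
  have h1 : u * q = 1 := by
    have hlin' : IsLin L (u * q) := fun a z => by
      rw [LinearEquiv.mul_apply, LinearEquiv.mul_apply, hlin, hulin]
    obtain ⟨d, hd, -, -, -, hd0, -⟩ :=
      T.lin_data (H.mul_mem huH hq) (by rw [LinearEquiv.mul_apply, hx, hux]) hlin'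
    refine hd0 ?_
    obtain ⟨hGx, -, -⟩ := T.data hq hx (σ := 1) fun a z => hlin a z
    obtain ⟨-, -, hGy⟩ := T.data huH hux (σ := 1) fun a z => hulin a z
    rw [hd, LinearEquiv.mul_apply, hGy, AlgEquiv.one_apply, AlgEquiv.one_apply, hGx, AlgEquiv.one_apply, T.fr.pair',
      T.us_value, one_mul, hc, neg_mul, div_mul_cancel₀ _ T.gL, add_neg_cancel]
  rw [eq_inv_of_mul_eq_one_right h1, ← map_inv, ← ofAdd_neg, neg_neg]

/-- An involution in the centraliser of a Siegel element is a scalar on the singular line. -/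
theorem invol_data (T : Frame3 L G f H x x' y γ) (hF : ¬ Full f H) (hr : finrank F L = 3) {τ : V ≃ₗ[F] V}
    (hτ : τ ∈ H) (h2 : τ * τ = 1)
    (hcomm : τ * T.fr.ov.usHom T.fr.sx T.Gxy (Multiplicative.ofAdd 1) =
      T.fr.ov.usHom T.fr.sx T.Gxy (Multiplicative.ofAdd 1) * τ) :
    IsLin L τ ∧ (τ x = x ∨ τ x = -x) := by
  set u := T.fr.ov.usHom T.fr.sx T.Gxy (Multiplicative.ofAdd (1 : L)) with hu
  obtain ⟨huH, hulin⟩ := T.fr.ov.usHom_mem T.fr.sx T.Gxy (Multiplicative.ofAdd (1 : L))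
  obtain ⟨c, hc, -, -, -, -, hfix⟩ := T.lin_data huH (T.us_mem_stab _).2 hulin
  have hc0 : c ≠ 0 := by rw [hc, T.us_value, one_mul]; exact T.gL
  have hst : ∀ a : L, ∃ b : L, τ (a • x) = b • x := fun a => hfix hc0 _ (by
    rw [← LinearEquiv.mul_apply, ← hcomm, LinearEquiv.mul_apply, hulin, (T.us_mem_stab _).2])
  obtain ⟨b₁, hb₁⟩ := hst 1
  rw [one_smul] at hb₁
  have hb₁0 : b₁ ≠ 0 := fun h => T.fr.x_ne (τ.injective (by rw [hb₁, h, zero_smul, map_zero]))
  have hst' : ∀ a : L, ∃ b : L, τ (a • x) = b • τ x := fun a => by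
    obtain ⟨b, hb⟩ := hst a
    exact ⟨b / b₁, by rw [hb, hb₁, smul_smul, div_mul_cancel₀ _ hb₁0]⟩
  obtain ⟨σ, hσ⟩ := (T.fr.ov.semi_of_line hF hτ T.fr.x_ne T.fr.sx hst').exists_aut T.fr.x_ne
  have hσ2 : σ * σ = 1 := AlgEquiv.ext fun a => smul_left_injective L T.fr.x_ne (by
    show σ (σ a) • x = a • x
    have h := LinearEquiv.congr_fun h2 (a • x)
    have h' := LinearEquiv.congr_fun h2 x
    rw [LinearEquiv.mul_apply, hσ, hσ] at h
    rw [LinearEquiv.mul_apply] at h'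
    rw [h'] at h
    exact h)
  have hσ1 : σ = 1 := by
    have h3 : σ ^ 3 = 1 := hr ▸ T.pow_aut_r σ
    rwa [pow_succ, pow_two, hσ2, one_mul] at h3
  have hlin : IsLin L τ := fun a z => by rw [hσ, hσ1, AlgEquiv.one_apply]
  refine ⟨hlin, ?_⟩
  obtain ⟨b, hb⟩ := hst 1
  rw [one_smul] at hb
  have h := LinearEquiv.congr_fun h2 x
  rw [LinearEquiv.mul_apply, hb, hlin, hb, smul_smul] at h
  have hbb : b * b = 1 := smul_left_injective L T.fr.x_ne (by simpa using h)
  rcases mul_self_eq_one_iff.mp hbb with rfl | rfl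
  · exact Or.inl (by rw [hb, one_smul])
  · exact Or.inr (by rw [hb, neg_one_smul])

/-- Two commuting involutions in the centraliser of a Siegel element coincide or are trivial. -/
theorem invol_eq (T : Frame3 L G f H x x' y γ) (hF : ¬ Full f H) (hr : finrank F L = 3) (h3 : ringChar F = 3)
    {τ₁ τ₂ : V ≃ₗ[F] V} (hτ₁ : τ₁ ∈ H) (hτ₂ : τ₂ ∈ H) (h₁ : τ₁ * τ₁ = 1) (h₂ : τ₂ * τ₂ = 1)
    (h₁₂ : τ₁ * τ₂ = τ₂ * τ₁)
    (hc₁ : τ₁ * T.fr.ov.usHom T.fr.sx T.Gxy (Multiplicative.ofAdd 1) =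
      T.fr.ov.usHom T.fr.sx T.Gxy (Multiplicative.ofAdd 1) * τ₁)
    (hc₂ : τ₂ * T.fr.ov.usHom T.fr.sx T.Gxy (Multiplicative.ofAdd 1) =
      T.fr.ov.usHom T.fr.sx T.Gxy (Multiplicative.ofAdd 1) * τ₂) :
    τ₁ = 1 ∨ τ₂ = 1 ∨ τ₁ = τ₂ := by
  haveI : CharP F 3 := h3 ▸ ringChar.charP F
  haveI : CharP L 3 := charP_of_injective_algebraMap (algebraMap F L).injective 3
  have key : ∀ t ∈ H, t * t = 1 → IsLin L t → t x = x → t = 1 := by
    intro t ht htt hl hx
    have e := T.lin_eq_us ht hx hl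
    set c := G (t x') y / algebraMap F L γ
    have hcube : t ^ 3 = 1 := by
      rw [e, ← map_pow, ← ofAdd_nsmul, nsmul_eq_mul, CharP.cast_eq_zero, zero_mul, ofAdd_zero, map_one]
    rwa [pow_succ, pow_two, htt, one_mul] at hcube
  obtain ⟨l₁, hx₁⟩ := T.invol_data hF hr hτ₁ h₁ hc₁
  obtain ⟨l₂, hx₂⟩ := T.invol_data hF hr hτ₂ h₂ hc₂
  rcases hx₁ with hx₁ | hx₁
  · exact Or.inl (key _ hτ₁ h₁ l₁ hx₁)
  rcases hx₂ with hx₂ | hx₂
  · exact Or.inr (Or.inl (key _ hτ₂ h₂ l₂ hx₂))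
  refine Or.inr (Or.inr ?_)
  have h := key _ (H.mul_mem hτ₁ hτ₂) (by rw [mul_assoc, ← mul_assoc τ₂, ← h₁₂, mul_assoc τ₁, h₂, mul_one, h₁])
    (fun a z => by rw [LinearEquiv.mul_apply, LinearEquiv.mul_apply, l₂, l₁])
    (by rw [LinearEquiv.mul_apply, hx₂, map_neg, hx₁, neg_neg])
  calc τ₁ = τ₁ * τ₂ * τ₂ := by rw [mul_assoc, h₂, mul_one]
    _ = τ₂ := by rw [h, one_mul]

/-- A semilinear element of order three fixing `x` commutes with two commuting involutions of `H`, up to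
conjugation in the stabiliser. -/
theorem exists_invols (T : Frame3 L G f H x x' y γ) (hr : finrank F L = 3) (h3 : ringChar F = 3) {t : V ≃ₗ[F] V}
    (ht : t ∈ H) (htx : t x = x) (ht3 : t ^ 3 = 1) {σ : L ≃ₐ[F] L} (hσ : ∀ (a : L) z, t (a • z) = σ a • t z)
    (hne : σ ≠ 1) :
    ∃ d τ₁ τ₂ : V ≃ₗ[F] V, d ∈ H ∧ τ₁ ∈ H ∧ τ₂ ∈ H ∧ τ₁ * τ₁ = 1 ∧ τ₂ * τ₂ = 1 ∧ τ₁ * τ₂ = τ₂ * τ₁ ∧
      τ₁ ≠ 1 ∧ τ₂ ≠ 1 ∧ τ₁ ≠ τ₂ ∧ τ₁ * (d * t * d⁻¹) = d * t * d⁻¹ * τ₁ ∧
      τ₂ * (d * t * d⁻¹) = d * t * d⁻¹ * τ₂ := by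
  classical
  haveI : CharP F 3 := h3 ▸ ringChar.charP F
  haveI : CharP L 3 := charP_of_injective_algebraMap (algebraMap F L).injective 3
  have three : (3 : L) = 0 := by exact_mod_cast CharP.cast_eq_zero L 3
  have two : (2 : L) ≠ 0 := T.fr.ov.sG.two
  set g := algebraMap F L γ with hg
  have hg0 : g ≠ 0 := T.gL
  have hσg : σ g = g := σ.commutes γ
  -- the value at `x'` has trace zero
  set c := G (t x') y with hc
  have htr : c + σ c + σ (σ c) = 0 := by
    have h := T.pow_data ht htx hσ 3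
    rw [ht3, Finset.sum_range_succ, Finset.sum_range_succ, Finset.sum_range_one] at h
    simp only [pow_succ, pow_zero, one_mul, AlgEquiv.one_apply, AlgEquiv.mul_apply] at h
    rw [show ((1 : V ≃ₗ[F] V) x') = x' from rfl, T.Gx'y, ← hc] at h
    exact h.symm
  have hσ3 : σ ^ 3 = 1 := hr ▸ T.pow_aut_r σ
  have hσσσ : ∀ a, σ (σ (σ a)) = a := fun a => by
    have := AlgEquiv.congr_fun hσ3 a
    simpa [pow_succ, AlgEquiv.mul_apply] using this
  obtain ⟨θ, hθ⟩ : ∃ θ : L, θ + σ θ + σ (σ θ) ≠ 0 := by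
    by_contra! hall
    haveI : Fact (finrank F L).Prime := ⟨T.fr.ov.prime⟩
    have hord : orderOf σ = 3 := hr ▸ orderOf_eq_prime (T.pow_aut_r σ) hne
    have hinj : Function.Injective fun i : Fin 3 => ((σ ^ (i : ℕ) : L ≃ₐ[F] L) : L →* L) := by
      intro i j hij
      refine Fin.ext (pow_injOn_Iio_orderOf (x := σ) (by rw [Set.mem_Iio, hord]; omega)
        (by rw [Set.mem_Iio, hord]; omega) (AlgEquiv.ext fun a => DFunLike.congr_fun hij a))
    have hli := (linearIndependent_monoidHom L L).comp _ hinj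
    have := Fintype.linearIndependent_iff.mp hli (fun _ => 1) (by
      funext a
      simp only [Finset.sum_apply, Fin.sum_univ_three, Pi.smul_apply, Pi.zero_apply, smul_eq_mul, Function.comp,
        one_mul]
      simpa [pow_succ, AlgEquiv.mul_apply] using hall a) 0
    exact one_ne_zero this
  set S := θ + σ θ + σ (σ θ) with hS
  have hσS : σ S = S := by rw [hS, map_add, map_add, hσσσ]; ring
  -- Hilbert's theorem ninety
  set d0 := (c * σ θ + (c + σ c) * σ (σ θ)) / S with hd0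
  have hd : d0 - σ d0 = c := by
    rw [hd0, map_div₀, hσS, ← sub_div, div_eq_iff hθ]
    simp only [map_add, map_mul, hσσσ, hS]
    linear_combination -θ * htr
  set us := T.fr.ov.usHom T.fr.sx T.Gxy with hus
  set d := us (Multiplicative.ofAdd (-(d0 / g))) with hdd
  obtain ⟨hdH, hdlin⟩ := T.fr.ov.usHom_mem T.fr.sx T.Gxy (Multiplicative.ofAdd (-(d0 / g)))
  have hdinv : d⁻¹ = us (Multiplicative.ofAdd (d0 / g)) := by rw [hdd, ← map_inv, ← ofAdd_neg, neg_neg]
  obtain ⟨hdiH, hdilin⟩ := T.fr.ov.usHom_mem T.fr.sx T.Gxy (Multiplicative.ofAdd (d0 / g))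
  set s := d * t * d⁻¹ with hs
  have hsH : s ∈ H := H.mul_mem (H.mul_mem hdH ht) (H.inv_mem hdH)
  have hdx : d x = x := (T.us_mem_stab _).2
  have hdix : d⁻¹ x = x := by rw [hdinv]; exact (T.us_mem_stab _).2
  have hsx : s x = x := by rw [hs, LinearEquiv.mul_apply, LinearEquiv.mul_apply, hdix, htx, hdx]
  have hsσ : ∀ (a : L) z, s (a • z) = σ a • s z := fun a z => by
    rw [hs]
    simp only [LinearEquiv.mul_apply, hdinv]
    rw [hdilin, hσ, hdlin]
  obtain ⟨hGx, -, hGy⟩ := T.data hsH hsx hsσ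
  have hsx' : G (s x') y = 0 := by
    obtain ⟨htGx, -, htGy⟩ := T.data ht htx hσ
    obtain ⟨-, -, hdGy⟩ := T.data hdH hdx (σ := 1) fun a z => hdlin a z
    obtain ⟨hiGx, -, hiGy⟩ := T.data hdiH (T.us_mem_stab _).2 (σ := 1) fun a z => hdilin a z
    rw [hs, LinearEquiv.mul_apply, LinearEquiv.mul_apply, hdinv]
    rw [hdGy, htGy, htGx, hiGy, hiGx]
    simp only [AlgEquiv.one_apply, T.fr.pair', T.Gx'y, T.us_value, hdd, ← hg, ← hc, map_one, one_mul, map_add,
      map_zero, map_mul, map_div₀, hσg, zero_add, neg_mul, div_mul_cancel₀ _ hg0]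
    linear_combination -hd
  have hform := T.fr.ov.semi_form hsH hsσ
  have hsX : s x' = x' := by
    have h1 : G (s x') x = 1 := by rw [hGx, T.fr.pair', map_one]
    have h0 := T.span_eq (s x')
    rw [h1, hsx', zero_div, zero_smul, add_zero, one_smul] at h0
    have h2 := hform x' x'
    rw [T.fr.sx', map_zero, h0] at h2
    simp only [map_add, map_smul, LinearMap.add_apply, LinearMap.smul_apply, smul_eq_mul, T.fr.sx, T.fr.sx',
      T.fr.pair, T.fr.pair', mul_zero, zero_add, add_zero, mul_one] at h2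
    have h4 : G (s x') x' = 0 :=
      (mul_eq_zero.mp (show (2 : L) * G (s x') x' = 0 by linear_combination h2)).resolve_left two
    rw [h0, h4, zero_smul, zero_add]
  have hsy : s y = y := by
    have h1 : G (s y) x = 0 := by rw [hGx, T.inW.1, map_zero]
    have h2 : G (s y) x' = 0 := by
      rw [show G (s y) x' = G (s y) (s x') by rw [hsX], hform, T.inW.2, map_zero]
    have h3' : G (s y) y = g := by
      rw [hGy, T.norm_eq, T.inW.1, map_zero, zero_mul, add_zero, ← hg, hσg]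
    rw [T.span_eq (s y), h1, h2, h3', ← hg, div_self hg0, zero_smul, zero_smul, one_smul, zero_add, add_zero]
  -- rational vectors of equal norm
  set u₁ := x - g • x' + y with hu₁
  set u₂ := -(x - g • x') + y with hu₂
  set w := x + g • x' with hw
  have hfix₁ : s u₁ = u₁ := by rw [hu₁, map_add, map_sub, hsσ, hσg, hsx, hsX, hsy]
  have hfix₂ : s u₂ = u₂ := by rw [hu₂, map_add, map_neg, map_sub, hsσ, hσg, hsx, hsX, hsy]
  have hfixw : s w = w := by rw [hw, map_add, hsσ, hσg, hsx, hsX]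
  have hn₁ : G u₁ u₁ = -g := by
    simp only [hu₁, map_add, map_sub, map_smul, LinearMap.add_apply, LinearMap.sub_apply, LinearMap.smul_apply,
      smul_eq_mul, T.fr.sx, T.fr.sx', T.fr.pair, T.fr.pair', T.inW.1, T.inW.2, T.Gxy, T.Gx'y, T.norm_eq, ← hg]
    linear_combination (0 : L) * three
  have hn₂ : G u₂ u₂ = -g := by
    simp only [hu₂, map_add, map_neg, map_sub, map_smul, LinearMap.add_apply, LinearMap.neg_apply,
      LinearMap.sub_apply, LinearMap.smul_apply, smul_eq_mul, T.fr.sx, T.fr.sx', T.fr.pair, T.fr.pair', T.inW.1,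
      T.inW.2, T.Gxy, T.Gx'y, T.norm_eq, ← hg]
    linear_combination (0 : L) * three
  have hnw : G w w = -g := by
    simp only [hw, map_add, map_smul, LinearMap.add_apply, LinearMap.smul_apply, smul_eq_mul, T.fr.sx, T.fr.sx',
      T.fr.pair, T.fr.pair']
    linear_combination g * three
  have h₁₂ : G u₁ u₂ = 0 := by
    simp only [hu₁, hu₂, map_add, map_neg, map_sub, map_smul, LinearMap.add_apply, LinearMap.neg_apply,
      LinearMap.sub_apply, LinearMap.smul_apply, smul_eq_mul, T.fr.sx, T.fr.sx', T.fr.pair, T.fr.pair', T.inW.1,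
      T.inW.2, T.Gxy, T.Gx'y, T.norm_eq, ← hg]
    linear_combination g * three
  have h₁w : G u₁ w = 0 := by
    simp [hu₁, hw, T.fr.sx, T.fr.sx', T.fr.pair, T.fr.pair', T.inW.1, T.inW.2]
  have h₂w : G u₂ w = 0 := by
    simp [hu₂, hw, T.fr.sx, T.fr.sx', T.fr.pair, T.fr.pair', T.inW.1, T.inW.2]
  have hne₁ : G u₁ u₁ ≠ 0 := by rw [hn₁]; exact neg_ne_zero.mpr hg0
  have hne₂ : G u₂ u₂ ≠ 0 := by rw [hn₂]; exact neg_ne_zero.mpr hg0
  have hnew : G w w ≠ 0 := by rw [hnw]; exact neg_ne_zero.mpr hg0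
  set τ₁ : V ≃ₗ[F] V := resHom (rfE T.fr.ov.sG hne₁ * rfE T.fr.ov.sG hnew) with hτ₁
  set τ₂ : V ≃ₗ[F] V := resHom (rfE T.fr.ov.sG hne₂ * rfE T.fr.ov.sG hnew) with hτ₂
  have hap₁ : ∀ z, τ₁ z = rf G u₁ (rf G w z) := fun z => rfl
  have hap₂ : ∀ z, τ₂ z = rf G u₂ (rf G w z) := fun z => rfl
  have hcomm : ∀ {a : V}, s a = a → ∀ z, s (rf G a z) = rf G a (s z) := by
    intro a ha z
    have h : G (s z) a = σ (G z a) := by
      conv_lhs => rw [← ha]
      exact hform z a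
    have h' : G a a = σ (G a a) := by
      conv_lhs => rw [← ha]
      exact hform a a
    simp only [rf, map_sub s, hsσ, ha, map_div₀ σ, map_mul σ, map_ofNat, ← h, ← h']
  have w₁ : G w u₁ = 0 := by rw [T.fr.ov.sG.symm]; exact h₁w
  have w₂ : G w u₂ = 0 := by rw [T.fr.ov.sG.symm]; exact h₂w
  have e₂₁ : G u₂ u₁ = 0 := by rw [T.fr.ov.sG.symm]; exact h₁₂
  have hτu₁ : τ₁ u₁ = -u₁ ∧ τ₂ u₁ = u₁ := by
    constructor
    · rw [hap₁]
      simp only [rf, map_sub, map_smul, LinearMap.sub_apply, LinearMap.smul_apply, h₁w, w₁, mul_zero, zero_div,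
        zero_smul, sub_zero, mul_div_cancel_right₀ _ hne₁]
      rw [two_smul]
      abel
    · rw [hap₂]
      simp [rf, h₁w, h₁₂]
  have hτu₂ : τ₂ u₂ = -u₂ := by
    rw [hap₂]
    simp only [rf, h₂w, mul_zero, zero_div, zero_smul, sub_zero, mul_div_cancel_right₀ _ hne₂]
    rw [two_smul]
    abel
  have hnz : ∀ {u : V}, G u u ≠ 0 → -u ≠ u := fun {u} hu h => by
    refine hu ((mul_eq_zero.mp ?_).resolve_left two)
    have h' : (2 : L) • u = 0 := by rw [two_smul]; nth_rw 1 [← h]; exact neg_add_cancel u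
    rw [← smul_eq_mul, ← LinearMap.smul_apply, ← map_smul, h', map_zero, LinearMap.zero_apply]
  refine ⟨d, τ₁, τ₂, hdH, T.fr.ov.rfl_mem hne₁ hnew h₁w (hn₁.trans hnw.symm),
    T.fr.ov.rfl_mem hne₂ hnew h₂w (hn₂.trans hnw.symm), ?_, ?_, ?_, ?_, ?_, ?_, ?_, ?_⟩
  · refine LinearEquiv.ext fun z => ?_
    simp only [LinearEquiv.mul_apply, LinearEquiv.coe_one, id_eq, hap₁, rf, map_sub, map_smul, LinearMap.sub_apply, LinearMap.smul_apply,
      smul_eq_mul, w₁, h₁w, hn₁, hnw]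
    match_scalars <;> field_simp <;> ring
  · refine LinearEquiv.ext fun z => ?_
    simp only [LinearEquiv.mul_apply, LinearEquiv.coe_one, id_eq, hap₂, rf, map_sub, map_smul, LinearMap.sub_apply, LinearMap.smul_apply,
      smul_eq_mul, w₂, h₂w, hn₂, hnw]
    match_scalars <;> field_simp <;> ring
  · refine LinearEquiv.ext fun z => ?_
    simp only [LinearEquiv.mul_apply, hap₁, hap₂, rf, map_sub, map_smul, LinearMap.sub_apply, LinearMap.smul_apply,
      smul_eq_mul, w₁, h₁w, w₂, h₂w, h₁₂, e₂₁, hn₁, hn₂, hnw]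
    match_scalars <;> field_simp <;> ring
  · intro h
    exact hnz hne₁ (by rw [← hτu₁.1, h]; rfl)
  · intro h
    exact hnz hne₂ (by rw [← hτu₂, h]; rfl)
  · intro h
    exact hnz hne₁ (by rw [← hτu₁.1, h, hτu₁.2])
  · refine LinearEquiv.ext fun z => ?_
    show τ₁ (s z) = s (τ₁ z)
    rw [hap₁, hap₁, hcomm hfix₁, hcomm hfixw]
  · refine LinearEquiv.ext fun z => ?_
    show τ₂ (s z) = s (τ₂ z)
    rw [hap₂, hap₂, hcomm hfix₂, hcomm hfixw]

set_option maxHeartbeats 1000000 in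
/-- No element of prime order different from three fixes a singular vector. -/
theorem no_other_prime (T : Frame3 L G f H x x' y γ) (hF : ¬ Full f H) (hr : finrank F L = 3) (h3 : ringChar F = 3)
    {ℓ : ℕ} (hℓ : ℓ.Prime) (hℓ3 : ℓ ≠ 3) {e : V ≃ₗ[F] V} (he : e ∈ H) (hex : e x = x) (heℓ : e ^ ℓ = 1) : e = 1 := by
  classical
  set hO := T.fr.ov
  have hx0 : x ≠ 0 := T.fr.x_ne
  have hx : G x x = 0 := T.fr.sx
  have : Finite V := Module.finite_of_finite F
  have : Finite L := hO.finiteL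
  have : Finite (V ≃ₗ[F] V) := Finite.of_injective (fun g => (g : V → V)) DFunLike.coe_injective
  haveI : CharP F 3 := h3 ▸ ringChar.charP F
  haveI : CharP L 3 := charP_of_injective_algebraMap (algebraMap F L).injective 3
  haveI : Fact (Nat.Prime 3) := ⟨Nat.prime_three⟩
  set us := hO.usHom hx T.Gxy with hus
  set K := hO.stab x with hKdef
  let N : Subgroup K := hO.semiGroup.subgroupOf K
  have husK : ∀ c, us c ∈ K := fun c => T.us_mem_stab c
  have husN : ∀ c, (⟨_, husK c⟩ : K) ∈ N := fun c =>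
    ⟨(hO.usHom_mem hx T.Gxy c).1, (hO.usHom_mem hx T.Gxy c).2.semi⟩
  have hlinus : ∀ q : K, IsLin L (q : V ≃ₗ[F] V) → ∃ c, (q : V ≃ₗ[F] V) = us c := fun q hq =>
    ⟨_, T.lin_eq_us q.2.1 q.2.2 hq⟩
  -- the automorphism of a semilinear element
  have hθ0 : ∀ h : N, ∃ σ : L ≃ₐ[F] L, ∀ (a : L) z, ((h : K) : V ≃ₗ[F] V) (a • z) = σ a • ((h : K) : V ≃ₗ[F] V) z :=
    fun h => (show Semi L ((h : K) : V ≃ₗ[F] V) from h.2.2).exists_aut hx0
  choose θ0 hθ using hθ0
  have hθu : ∀ (h : N) (σ : L ≃ₐ[F] L),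
      (∀ (a : L) z, ((h : K) : V ≃ₗ[F] V) (a • z) = σ a • ((h : K) : V ≃ₗ[F] V) z) → θ0 h = σ := fun h σ hs =>
    AlgEquiv.ext fun a => smul_left_injective L hx0 (by
      show θ0 h a • x = σ a • x
      have hh := hθ h a x
      rw [hs a x, (h : K).2.2] at hh
      exact hh.symm)
  letI : CommGroup (L ≃ₐ[F] L) :=
    { (inferInstance : Group (L ≃ₐ[F] L)) with
      mul_comm := fun a b => by
        haveI : Fact (finrank F L).Prime := ⟨hO.prime⟩
        by_cases ha : a = 1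
        · rw [ha, one_mul, mul_one]
        obtain ⟨i, rfl⟩ := aut_eq_pow hO.prime ha b
        exact (Commute.self_pow a i).eq }
  let θ : N →* (L ≃ₐ[F] L) :=
    MonoidHom.mk' θ0 fun a b => hθu (a * b) _ fun c z => by
      show ((a : K) : V ≃ₗ[F] V) (((b : K) : V ≃ₗ[F] V) (c • z)) = _
      rw [hθ b, hθ a]
      rfl
  have hθlin : ∀ h : N, θ h = 1 → IsLin L ((h : K) : V ≃ₗ[F] V) := fun h e a z => by
    have := hθ h a z
    rw [show θ0 h = 1 from e, AlgEquiv.one_apply] at this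
    exact this
  have hθ3 : ∀ h : N, θ h ^ 3 = 1 := fun h => hr ▸ T.pow_aut_r _
  -- semilinear elements form a three-group
  have hexp : ∀ c, us c ^ 3 = 1 := fun c => by
    rw [← map_pow, show c ^ 3 = 1 from Multiplicative.toAdd.injective (by
      rw [toAdd_pow, nsmul_eq_mul, CharP.cast_eq_zero, zero_mul, toAdd_one]), map_one]
  have hNp : IsPGroup 3 N := fun h => ⟨2, by
    obtain ⟨c, hc⟩ := hlinus ((h ^ 3 : N) : K) (hθlin _ (by rw [map_pow, hθ3]))
    have h1 : (((h ^ 3) ^ 3 : N) : K) = 1 := Subtype.ext (by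
      rw [SubmonoidClass.coe_pow, SubmonoidClass.coe_pow, hc, hexp, OneMemClass.coe_one])
    rw [show (3 : ℕ) ^ 2 = 3 * 3 by norm_num, pow_mul]
    exact Subtype.ext h1⟩
  set u0 : K := ⟨_, husK (Multiplicative.ofAdd 1)⟩ with hu0
  have hu0N : u0 ∈ N := husN _
  have hus1 : ∀ {c : L}, us (Multiplicative.ofAdd c) = 1 → c = 0 := fun {c} h => by
    have h' := T.us_value c
    rw [← hus, h, show ((1 : V ≃ₗ[F] V) x') = x' from rfl, T.Gx'y] at h'
    exact (mul_eq_zero.mp h'.symm).resolve_right T.gL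
  -- conjugation in the semilinear group
  have hconj : ∀ (h : N) (c : L),
      ((h : K) : V ≃ₗ[F] V) * us (Multiplicative.ofAdd c) * ((h : K) : V ≃ₗ[F] V)⁻¹ =
        us (Multiplicative.ofAdd (θ0 h c)) := by
    intro h c
    set σ := θ0 h
    set a := ((h : K) : V ≃ₗ[F] V)
    obtain ⟨hcH, hclin⟩ := hO.usHom_mem hx T.Gxy (Multiplicative.ofAdd c)
    have hlin : IsLin L (a * us (Multiplicative.ofAdd c) * a⁻¹) := by
      intro b z
      obtain ⟨w, rfl⟩ := a.surjective z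
      obtain ⟨b, rfl⟩ := σ.surjective b
      have e : σ b • a w = a (b • w) := (hθ h b w).symm
      rw [e]
      simp only [LinearEquiv.mul_apply, show ∀ v, (a⁻¹ : V ≃ₗ[F] V) (a v) = v from a.symm_apply_apply]
      rw [hclin]
      exact hθ h b _
    have hax : (a⁻¹ : V ≃ₗ[F] V) x = x := ((h : K)⁻¹).2.2
    have hmem : a * us (Multiplicative.ofAdd c) * a⁻¹ ∈ K :=
      K.mul_mem (K.mul_mem (h : K).2 (husK _)) (K.inv_mem (h : K).2)
    rw [T.lin_eq_us hmem.1 hmem.2 hlin]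
    congr 2
    obtain ⟨haGx, -, haGy⟩ := T.data (h : K).2.1 (h : K).2.2 (hθ h)
    obtain ⟨huGx, -, huGy⟩ := T.data hcH (T.us_mem_stab _).2 (σ := 1) fun a z => hclin a z
    set w := (a⁻¹ : V ≃ₗ[F] V) x' with hw
    have hwx : G w x = 1 := by
      apply σ.injective
      rw [← haGx, map_one, show a w = x' from a.apply_symm_apply x', T.fr.pair']
    have hwy : σ (G w y) + G (a x') y = 0 := by
      have e := haGy w
      rw [show a w = x' from a.apply_symm_apply x', T.Gx'y, hwx, map_one, one_mul] at e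
      exact e.symm
    rw [LinearEquiv.mul_apply, LinearEquiv.mul_apply, ← hw, haGy, huGy, huGx]
    simp only [AlgEquiv.one_apply, hwx, T.us_value, map_add, map_one, map_mul, AlgEquiv.commutes, one_mul]
    rw [div_eq_iff T.gL]
    linear_combination hwy
  have hcent : ∀ h : N, (h : K) * u0 = u0 * (h : K) := fun h => by
    have e := hconj h 1
    rw [map_one (θ0 h)] at e
    exact Subtype.ext (mul_inv_eq_iff_eq_mul.mp e)
  -- conjugates of Siegel elements
  have hcl : ∀ (k : K) (c : L), c ≠ 0 → IsLin L ((k : V ≃ₗ[F] V) * us (Multiplicative.ofAdd c) * (k : V ≃ₗ[F] V)⁻¹) →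
      k ∈ N := fun k c hc hl => ⟨k.2.1, hO.semi_of_conj_lin hF k.2.1 hx0 hx (w := c • y) (by simp [T.Gxy]) (by
        simp only [map_smul, LinearMap.smul_apply, smul_eq_mul]
        exact mul_ne_zero hc (mul_ne_zero hc T.Gxne)) hl⟩
  have hB : ∀ k : K, k⁻¹ * u0 * k ∈ N → k ∈ N := by
    intro k hk
    set b : N := ⟨_, hk⟩
    by_cases hb : θ b = 1
    · have h1 : k⁻¹ ∈ N := hcl k⁻¹ 1 one_ne_zero (by
        intro a z
        have e : ((k⁻¹ : K) : V ≃ₗ[F] V) * us (Multiplicative.ofAdd 1) * ((k⁻¹ : K) : V ≃ₗ[F] V)⁻¹ =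
            ((b : K) : V ≃ₗ[F] V) := by
          show ((k : V ≃ₗ[F] V))⁻¹ * us (Multiplicative.ofAdd 1) * ((k : V ≃ₗ[F] V))⁻¹⁻¹ = _
          rw [inv_inv]
          rfl
        rw [e]
        exact hθlin b hb a z)
      simpa using N.inv_mem h1
    exfalso
    obtain ⟨d, τ₁, τ₂, hd, h₁, h₂, s₁, s₂, s₁₂, n₁, n₂, n₁₂, c₁, c₂⟩ :=
      T.exists_invols hr h3 (b : K).2.1 (b : K).2.2 (by
        have h' : ((b : K) : V ≃ₗ[F] V) ^ 3 = ((k : V ≃ₗ[F] V)⁻¹ * us (Multiplicative.ofAdd 1) * k) ^ 3 := rfl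
        rw [h']
        have := conj_pow (a := (k : V ≃ₗ[F] V)⁻¹) (b := us (Multiplicative.ofAdd (1 : L))) (i := 3)
        rw [inv_inv] at this
        rw [this, hexp, mul_one, inv_mul_cancel]) (hθ b) hb
    set m := (k : V ≃ₗ[F] V) * d⁻¹ with hm
    have hmH : m ∈ H := H.mul_mem k.2.1 (H.inv_mem hd)
    have hmb : m * (d * ((b : K) : V ≃ₗ[F] V) * d⁻¹) * m⁻¹ = us (Multiplicative.ofAdd 1) := by
      rw [show ((b : K) : V ≃ₗ[F] V) = (k : V ≃ₗ[F] V)⁻¹ * us (Multiplicative.ofAdd 1) * k from rfl, hm]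
      group
    have hcc : ∀ {τ : V ≃ₗ[F] V},
        τ * (d * ((b : K) : V ≃ₗ[F] V) * d⁻¹) = d * ((b : K) : V ≃ₗ[F] V) * d⁻¹ * τ →
        MulAut.conj m τ * us (Multiplicative.ofAdd 1) = us (Multiplicative.ofAdd 1) * MulAut.conj m τ := by
      intro τ hτ
      rw [← hmb, ← MulAut.conj_apply m (d * ((b : K) : V ≃ₗ[F] V) * d⁻¹), ← map_mul, ← map_mul, hτ]
    have hmem : ∀ {τ}, τ ∈ H → MulAut.conj m τ ∈ H := fun hτ =>
      H.mul_mem (H.mul_mem hmH hτ) (H.inv_mem hmH)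
    have hinj := (MulAut.conj m).injective
    rcases T.invol_eq hF hr h3 (hmem h₁) (hmem h₂) (by rw [← map_mul, s₁, map_one]) (by rw [← map_mul, s₂, map_one])
        (by rw [← map_mul, ← map_mul, s₁₂]) (hcc c₁) (hcc c₂) with h | h | h
    · exact n₁ (hinj (h.trans (map_one _).symm))
    · exact n₂ (hinj (h.trans (map_one _).symm))
    · exact n₁₂ (hinj h)
  -- the semilinear group is a Sylow subgroup
  have hmax : ∀ {Q : Subgroup K}, IsPGroup 3 Q → u0 ∈ Q → Q ≤ N := by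
    obtain ⟨P, hP⟩ := hNp.exists_le_sylow
    have hPN : (P : Subgroup K) = N := by
      refine le_antisymm (fun h hh => ⟨h.2.1, ?_⟩) hP
      refine hO.semi_of_pGroup hF hx0 hx T.Gxy T.Gxne (Q := (P : Subgroup K).map K.subtype) (p := 3) (P.2.map _)
        (by rintro _ ⟨a, -, rfl⟩; exact a.2.1) ?_ ⟨h, hh, rfl⟩
      rintro _ ⟨c, rfl⟩
      exact ⟨⟨_, husK c⟩, hP (husN c), rfl⟩
    intro Q hQ hu
    obtain ⟨P', hP'⟩ := hQ.exists_le_sylow
    obtain ⟨m, hm⟩ := MulAction.exists_smul_eq K P P'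
    have hmem : ∀ a ∈ (P' : Subgroup K), m⁻¹ * a * m ∈ N := by
      intro a ha
      rw [← hm] at ha
      obtain ⟨b, hb, rfl⟩ := ha
      rw [← hPN]
      show m⁻¹ * (m * b * m⁻¹) * m ∈ (P : Subgroup K)
      rw [show m⁻¹ * (m * b * m⁻¹) * m = b by group]
      exact hb
    have hm' : m ∈ N := hB m (hmem u0 (hP' hu))
    intro a ha
    have := N.mul_mem (N.mul_mem hm' (hmem a (hP' ha))) (N.inv_mem hm')
    simpa [mul_assoc] using this
  -- fusion
  have hfus : ∀ (a b : N) (k : K), k⁻¹ * (a : K) * k = b → θ b = θ a := by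
    intro a b k hk
    set C := Subgroup.centralizer ({(b : K)} : Set K)
    have hC0 : u0 ∈ C := Subgroup.mem_centralizer_singleton_iff.mpr (hcent b).symm
    have hC1 : k⁻¹ * u0 * k ∈ C := by
      rw [Subgroup.mem_centralizer_singleton_iff, ← hk]
      have := hcent a
      calc k⁻¹ * u0 * k * (k⁻¹ * (a : K) * k) = k⁻¹ * (u0 * (a : K)) * k := by group
        _ = k⁻¹ * ((a : K) * u0) * k := by rw [this]
        _ = _ := by group
    have hp : ∀ {w : C}, (w : K) ^ 3 = 1 → IsPGroup 3 (Subgroup.zpowers w) := by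
      intro w hw
      rintro ⟨_, i, rfl⟩
      refine ⟨1, Subtype.ext (Subtype.ext ?_)⟩
      simp only [pow_one, SubmonoidClass.coe_pow, SubgroupClass.coe_zpow, OneMemClass.coe_one]
      rw [← zpow_natCast, ← zpow_mul, mul_comm, zpow_mul, zpow_natCast, hw, one_zpow]
    have hu3 : u0 ^ 3 = 1 := Subtype.ext (by rw [SubmonoidClass.coe_pow, hu0, hexp, OneMemClass.coe_one])
    obtain ⟨Q, hQ⟩ := (hp (w := ⟨u0, hC0⟩) hu3).exists_le_sylow
    obtain ⟨Q', hQ'⟩ := (hp (w := ⟨_, hC1⟩) (by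
      have := conj_pow (a := k⁻¹) (b := u0) (i := 3)
      rw [inv_inv] at this
      rw [this, hu3, mul_one, inv_mul_cancel])).exists_le_sylow
    obtain ⟨c, hc⟩ := MulAction.exists_smul_eq C Q' Q
    have hQN : (Q : Subgroup C).map C.subtype ≤ N :=
      hmax (Q.2.map _) ⟨_, hQ (Subgroup.mem_zpowers _), rfl⟩
    have hmemQ : (c : K) * (k⁻¹ * u0 * k) * (c : K)⁻¹ ∈ N := hQN ⟨c * ⟨_, hC1⟩ * c⁻¹, by
      rw [← hc]
      exact ⟨_, hQ' (Subgroup.mem_zpowers _), rfl⟩, rfl⟩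
    have hd : k * (c : K)⁻¹ ∈ N := hB _ (by
      rw [show (k * (c : K)⁻¹)⁻¹ * u0 * (k * (c : K)⁻¹) = (c : K) * (k⁻¹ * u0 * k) * (c : K)⁻¹ by group]
      exact hmemQ)
    have hb : b = (⟨_, hd⟩ : N)⁻¹ * a * ⟨_, hd⟩ := Subtype.ext (by
      show (b : K) = (k * (c : K)⁻¹)⁻¹ * (a : K) * (k * (c : K)⁻¹)
      rw [show (k * (c : K)⁻¹)⁻¹ * (a : K) * (k * (c : K)⁻¹) = (c : K) * (k⁻¹ * (a : K) * k) * (c : K)⁻¹ by group,
        hk, Subgroup.mem_centralizer_singleton_iff.mp c.2, mul_inv_cancel_right])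
    rw [hb, map_mul, map_mul, map_inv, mul_comm, mul_inv_cancel_left]
  -- transfer to the Galois group
  haveI : Fintype (K ⧸ N) := Fintype.ofFinite _
  set ψ : K →* (L ≃ₐ[F] L) := MonoidHom.transfer θ with hψ
  have hψN : ∀ a : N, ψ a = θ a ^ N.index := by
    intro a
    haveI := Fintype.ofFinite (Quotient (MulAction.orbitRel (Subgroup.zpowers (a : K)) (K ⧸ N)))
    have hterm : ∀ (n : ℕ) (k : K) (hk : k⁻¹ * (a : K) ^ n * k ∈ N), θ ⟨_, hk⟩ = θ a ^ n := fun n k hk => by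
      rw [hfus (a ^ n) ⟨_, hk⟩ k (by rw [SubmonoidClass.coe_pow]), map_pow]
    rw [hψ, MonoidHom.transfer_eq_prod_quotient_orbitRel_zpowers_quot, Finset.prod_congr rfl fun q _ => hterm _ _ _,
      Finset.prod_pow_eq_pow_sum, ← Subgroup.index_eq_sum_minimalPeriod]
  have hindex : ¬ 3 ∣ N.index := by
    obtain ⟨P, hP⟩ := hNp.exists_le_sylow
    intro h
    exact P.not_dvd_index (h.trans (Subgroup.index_dvd_of_le (hmax P.2 (hP hu0N))))
  set K1 := ψ.ker with hK1
  have hlin1 : ∀ a : K1, (a : K) ∈ N → IsLin L ((a : K) : V ≃ₗ[F] V) := fun a ha => hθlin ⟨_, ha⟩ (by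
    have h1 : θ ⟨_, ha⟩ ^ N.index = 1 := by rw [← hψN]; exact a.2
    by_contra hne
    haveI : Fact (Nat.Prime 3) := ⟨Nat.prime_three⟩
    rw [← orderOf_dvd_iff_pow_eq_one, orderOf_eq_prime (hθ3 _) hne] at h1
    exact hindex h1)
  -- the Siegel group is an abelian Sylow subgroup of the kernel
  have hu01 : u0 ∈ K1 := by
    rw [hK1, MonoidHom.mem_ker, hψN ⟨u0, hu0N⟩]
    have : θ ⟨u0, hu0N⟩ = 1 := hθu _ _ fun a z => (hO.usHom_mem hx T.Gxy _).2 a z
    rw [this, one_pow]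
  let U1 : Sylow 3 K1 :=
    { toSubgroup := N.subgroupOf K1
      isPGroup' := hNp.comap_of_injective K1.subtype K1.subtype_injective
      is_maximal' := fun {Q} hQ hle => le_antisymm
        (fun a ha => hmax (hQ.map K1.subtype) ⟨⟨u0, hu01⟩, hle hu0N, rfl⟩ ⟨a, ha, rfl⟩) hle }
  have hU1 : ∀ a : K1, a ∈ (U1 : Subgroup K1) ↔ (a : K) ∈ N := fun a => Iff.rfl
  have hab : ∀ a ∈ (U1 : Subgroup K1), ∀ b ∈ (U1 : Subgroup K1), a * b = b * a := by
    intro a ha b hb
    obtain ⟨c, hc⟩ := hlinus _ (hlin1 a ha)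
    obtain ⟨c', hc'⟩ := hlinus _ (hlin1 b hb)
    refine Subtype.ext (Subtype.ext ?_)
    show ((a : K) : V ≃ₗ[F] V) * ((b : K) : V ≃ₗ[F] V) = ((b : K) : V ≃ₗ[F] V) * ((a : K) : V ≃ₗ[F] V)
    rw [hc, hc', ← map_mul, ← map_mul, mul_comm]
  have hnorm : Subgroup.normalizer ((U1 : Subgroup K1) : Set K1) ≤
      Subgroup.centralizer ((U1 : Subgroup K1) : Set K1) := by
    intro k hk
    have hkN : (k : K) ∈ N := by
      have h1 : k⁻¹ * ⟨u0, hu01⟩ * k ∈ (U1 : Subgroup K1) := by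
        have := (Subgroup.mem_normalizer_iff.mp (Subgroup.inv_mem _ hk) ⟨u0, hu01⟩).mp hu0N
        rwa [inv_inv] at this
      exact hB _ h1
    exact fun b hb => hab b hb k hkN
  haveI : (U1 : Subgroup K1).FiniteIndex := inferInstance
  set X := (MonoidHom.transferSylow U1 hnorm).ker with hX
  have hXN : ∀ a ∈ X, (a : K) ∈ N → a = 1 := fun a ha hN =>
    Subgroup.disjoint_def.mp (MonoidHom.ker_transferSylow_disjoint U1 hnorm _ U1.2) ha hN
  have hX1 : X = ⊥ := by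
    haveI : IsMulCommutative (U1 : Subgroup K1) := ⟨⟨fun a b => Subtype.ext (hab a a.2 b b.2)⟩⟩
    have hnc : ¬ IsCyclic (U1 : Subgroup K1) := by
      intro hcyc
      obtain ⟨g, hg⟩ := hcyc.exists_generator
      have hc1 : Nat.card (U1 : Subgroup K1) ≤ 3 := by
        rw [← orderOf_eq_card_of_forall_mem_zpowers hg]
        refine orderOf_le_of_pow_eq_one (by norm_num) ?_
        obtain ⟨c, hc⟩ := hlinus _ (hlin1 g.1 g.2)
        refine Subtype.ext (Subtype.ext (Subtype.ext ?_))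
        simp only [SubmonoidClass.coe_pow, OneMemClass.coe_one]
        rw [hc, hexp]
      have hmemK1 : ∀ c, (⟨_, husK c⟩ : K) ∈ K1 := fun c => by
        rw [hK1, MonoidHom.mem_ker, hψN ⟨_, husN c⟩]
        have : θ ⟨_, husN c⟩ = 1 := hθu _ _ fun a z => (hO.usHom_mem hx T.Gxy c).2 a z
        rw [this, one_pow]
      have hinj : Function.Injective
          fun c : L => (⟨⟨_, hmemK1 (Multiplicative.ofAdd c)⟩, husN _⟩ : (U1 : Subgroup K1)) := by
        intro c c' h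
        have h' : us (Multiplicative.ofAdd c) = us (Multiplicative.ofAdd c') :=
          congrArg (fun z : (U1 : Subgroup K1) => (((z : K1) : K) : V ≃ₗ[F] V)) h
        have h'' := congrArg (fun g : V ≃ₗ[F] V => G (g x') y) h'
        simp only [hus, T.us_value] at h''
        exact mul_right_cancel₀ T.gL h''
      have h1 := (Nat.card_le_card_of_injective _ hinj).trans hc1
      rw [Module.natCard_eq_pow_finrank (K := F) (V := L), hr] at h1
      have h2 : 2 ≤ Nat.card F := Finite.one_lt_card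
      have := (Nat.pow_le_pow_left h2 3).trans h1
      omega
    have hcop : (Nat.card (U1 : Subgroup K1)).Coprime (Nat.card X) := by
      obtain ⟨n, hn⟩ := IsPGroup.iff_card.mp U1.2
      rw [hn]
      exact ((Nat.Prime.coprime_iff_not_dvd Nat.prime_three).mpr
        (MonoidHom.not_dvd_card_ker_transferSylow U1 hnorm)).pow_left n
    have hnX : (U1 : Subgroup K1) ≤ Subgroup.normalizer (X : Set K1) := by
      haveI : X.Normal := by rw [hX]; infer_instance
      rw [Subgroup.normalizer_eq_top]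
      exact le_top
    have hj := Cfsg.Lib.Coprime.centralizerJoin_eq hnc hnX hcop
    rw [eq_bot_iff, ← hj]
    refine iSup₂_le fun a ha => ?_
    rintro k ⟨hkX, hka⟩
    refine Subgroup.mem_bot.mpr (hXN k hkX ?_)
    obtain ⟨c, hc⟩ := hlinus _ (hlin1 a ha.1)
    refine hcl _ (Multiplicative.toAdd c) (fun h => ha.2 ?_) ?_
    · refine Subtype.ext (Subtype.ext ?_)
      rw [hc, toAdd_eq_zero.mp h, map_one]
      rfl
    · intro b z
      have e : ((k : K) : V ≃ₗ[F] V) * us c * ((k : K) : V ≃ₗ[F] V)⁻¹ = us c := by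
        rw [mul_inv_eq_iff_eq_mul, ← hc]
        exact congrArg (fun z : K1 => ((z : K) : V ≃ₗ[F] V)) (Subgroup.mem_centralizer_singleton_iff.mp hka)
      rw [show Multiplicative.ofAdd (Multiplicative.toAdd c) = c from rfl, e]
      exact (hO.usHom_mem hx T.Gxy c).2 b z
  have hUtop : (U1 : Subgroup K1) = ⊤ :=
    Subgroup.isComplement'_bot_left.mp (hX1 ▸ (MonoidHom.ker_transferSylow_isComplement' U1 hnorm))
  -- conclusion
  set e' : K := ⟨e, he, hex⟩
  have he'ℓ : e' ^ ℓ = 1 := Subtype.ext heℓ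
  have hcop : Nat.Coprime 3 ℓ := (Nat.coprime_primes Nat.prime_three hℓ).mpr (Ne.symm hℓ3)
  have hψe : ψ e' = 1 := by
    have h1 : ψ e' ^ ℓ = 1 := by rw [← map_pow, he'ℓ, map_one]
    have h2 : ψ e' ^ 3 = 1 := hr ▸ T.pow_aut_r _
    have := pow_gcd_eq_one.mpr ⟨h2, h1⟩
    rwa [hcop, pow_one] at this
  obtain ⟨n, hn⟩ := U1.2 ⟨⟨e', hψe⟩, hUtop ▸ Subgroup.mem_top _⟩
  have h3' : e' ^ 3 ^ n = 1 := congrArg (fun z : (U1 : Subgroup K1) => ((z : K1) : K)) hn
  have := pow_gcd_eq_one.mpr ⟨h3', he'ℓ⟩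
  rw [hcop.pow_left n, pow_one] at this
  exact congrArg Subtype.val this

end Frame3

end Cfsg.Lib.Classical.ExtFieldOrth
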