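import Cfsg.Agent.Classical.ExtFieldOrth.Block
import Cfsg.Agent.Classical.ExtFieldOrth.Rot

/-!
A group containing a rotation of order `ℓ` about an anisotropic line is normalised by no element with blocks of
size three whose order is prime to the degree.
-/

set_option autoImplicit false
set_option linter.unusedSectionVars false

namespace Cfsg.Lib.Classical.ExtFieldOrth

open Module Cfsg.Lib.Classical

variable {F L V : Type*} [Field F] [Finite F] [Field L] [Algebra F L] [FiniteDimensional F L]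
  [AddCommGroup V] [Module F V] [Module L V] [IsScalarTower F L V] [FiniteDimensional F V]

variable {G : LinearMap.BilinForm L V} {f : LinearMap.BilinForm F V} {H : Subgroup (V ≃ₗ[F] V)} {v u : V}
  {e : V ≃ₗ[F] V} {a : L} {ℓ : ℕ}

/-- A rotation of order `ℓ` about the line of `v`. -/
structure RotData (G : LinearMap.BilinForm L V) (f : LinearMap.BilinForm F V) (H : Subgroup (V ≃ₗ[F] V))
    (v u : V) (e : V ≃ₗ[F] V) (a : L) (ℓ : ℕ) : Prop where
  ov : Over L G f H
  dim : finrank L V = 3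
  rge : 3 ≤ finrank F L
  aniso : G v v ≠ 0
  perp : G u v = 0
  uaniso : G u u ≠ 0
  mem : e ∈ H
  lin : IsLin L e
  fixLine : ∀ c : L, e (c • v) = c • v
  fixW : ∀ z, G z v = 0 → e z = z → z = 0
  sum : ∀ z, G z v = 0 → e z + (e⁻¹ : V ≃ₗ[F] V) z = a • z
  prime : ℓ.Prime
  hq0 : (Nat.card F : ZMod ℓ) ≠ 0
  hord : ∀ d : ℕ, (Nat.card F : ZMod ℓ) ^ d = 1 → finrank F L ∣ d
  pow : e ^ ℓ = 1

namespace RotData

theorem ne_two (D : RotData G f H v u e a ℓ) : ℓ ≠ 2 := by
  rintro rfl
  have h1 : (Nat.card F : ZMod 2) ^ 1 = 1 := by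
    rw [pow_one]
    have h := D.hq0
    revert h
    generalize (Nat.card F : ZMod 2) = z
    revert z
    decide
  have := Nat.le_of_dvd one_pos (D.hord 1 h1)
  have := D.rge
  omega

theorem perp_inv (D : RotData G f H v u e a ℓ) {g : V ≃ₗ[F] V} (hg : g ∈ H)
    (hline : ∀ c : L, ∃ c' : L, (g⁻¹ : V ≃ₗ[F] V) (c • v) = c' • v) {z : V} (hz : G z v = 0) : G (g z) v = 0 := by
  have h : G v (g z) = 0 := D.ov.eq_zero_of_trace fun c => by
    obtain ⟨c', hc'⟩ := hline c
    have e1 : c • v = g (c' • v) := by rw [← hc']; exact (g.apply_symm_apply _).symm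
    rw [e1, D.ov.isom g hg, D.ov.trace, map_smul, LinearMap.smul_apply, D.ov.sG.symm v z, hz, smul_zero, map_zero]
  rw [D.ov.sG.symm]; exact h

theorem inv_fix (D : RotData G f H v u e a ℓ) {g : V ≃ₗ[F] V} (hline : ∀ c : L, g (c • v) = c • v) (c : L) :
    (g⁻¹ : V ≃ₗ[F] V) (c • v) = c • v := g.symm_apply_eq.mpr (hline c).symm

theorem fix_perp (D : RotData G f H v u e a ℓ) {g : V ≃ₗ[F] V} (hg : g ∈ H) (hline : ∀ c : L, g (c • v) = c • v)
    {z : V} (hz : G z v = 0) : G (g z) v = 0 :=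
  D.perp_inv hg (fun c => ⟨c, D.inv_fix hline c⟩) hz

theorem exists_coords (D : RotData G f H v u e a ℓ) : ∀ z, G z v = 0 → ∃ α β : L, z = α • u + β • e u := by
  classical
  have := D.ov.finV
  have hu0 : u ≠ 0 := fun h => D.uaniso (by rw [h]; simp)
  have heu : G (e u) v = 0 := D.fix_perp D.mem D.fixLine D.perp
  have hnl : ∀ k : L, e u ≠ k • u := by
    intro k hk
    have hiso : G (e u) (e u) = G u u := eq_of_trace (F := F) fun c => by
      have h1 := D.ov.trace (c • e u) (e u)
      rw [← D.lin, D.ov.isom e D.mem, D.ov.trace, D.lin, map_smul G, map_smul G, LinearMap.smul_apply,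
        LinearMap.smul_apply, smul_eq_mul, smul_eq_mul] at h1
      exact h1.symm
    rw [hk] at hiso
    simp only [map_smul, LinearMap.smul_apply, smul_eq_mul] at hiso
    have hk2 : (k - 1) * (k + 1) = 0 := mul_right_cancel₀ D.uaniso (by linear_combination hiso)
    rcases mul_eq_zero.mp hk2 with h | h
    · rw [sub_eq_zero.mp h, one_smul] at hk
      exact hu0 (D.fixW u D.perp hk)
    · rw [eq_neg_of_add_eq_zero_left h, neg_one_smul] at hk
      have hn : ∀ n : ℕ, (e ^ n) u = (-1 : L) ^ n • u := by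
        intro n
        induction n with
        | zero => simp
        | succ n ih => rw [pow_succ', LinearEquiv.mul_apply, ih, D.lin, hk, pow_succ', smul_neg, ← neg_smul]; ring_nf
      have h2 := hn ℓ
      rw [D.pow, (D.prime.odd_of_ne_two D.ne_two).neg_one_pow, neg_one_smul] at h2
      refine D.uaniso ((mul_eq_zero.mp ?_).resolve_left D.ov.sG.two)
      have h3 : (2 : L) • u = 0 := by rw [two_smul]; nth_rw 1 [show u = -u from h2]; exact neg_add_cancel u
      rw [← smul_eq_mul, ← LinearMap.smul_apply, ← map_smul, h3, map_zero, LinearMap.zero_apply]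
  have hv0 : v ≠ 0 := fun h => D.aniso (by rw [h]; simp)
  have hli : LinearIndependent L ![v, u, e u] := by
    refine Fintype.linearIndependent_iff.mpr fun c hc => ?_
    rw [Fin.sum_univ_three] at hc
    simp only [Matrix.cons_val_zero, Matrix.cons_val_one, Matrix.cons_val_two, Matrix.cons_val, Matrix.head_cons,
      Matrix.tail_cons] at hc
    have a0 := congrArg (fun z => G z v) hc
    simp [D.perp, heu, D.aniso] at a0
    rw [a0, zero_smul, zero_add] at hc
    have a2 : c 2 = 0 := by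
      by_contra h
      refine hnl (-(c 1 / c 2)) ?_
      have h' : (c 2)⁻¹ • (c 1 • u + c 2 • e u) = 0 := by rw [hc, smul_zero]
      rw [smul_add, smul_smul, smul_smul, inv_mul_cancel₀ h, one_smul, add_comm, inv_mul_eq_div] at h'
      rw [neg_smul]
      exact eq_neg_of_add_eq_zero_left h'
    rw [a2, zero_smul, add_zero, smul_eq_zero, or_iff_left hu0] at hc
    intro i
    fin_cases i <;> assumption
  have htop := hli.span_eq_top_of_card_eq_finrank (by simp [D.dim])
  intro z hz
  obtain ⟨c, hc⟩ := (Submodule.mem_span_range_iff_exists_fun L).mp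
    (show z ∈ Submodule.span L (Set.range ![v, u, e u]) by rw [htop]; exact Submodule.mem_top)
  rw [Fin.sum_univ_three] at hc
  simp only [Matrix.cons_val_zero, Matrix.cons_val_one, Matrix.cons_val_two, Matrix.cons_val, Matrix.head_cons,
    Matrix.tail_cons] at hc
  subst hc
  simp [D.perp, heu, D.aniso] at hz
  exact ⟨c 1, c 2, by rw [hz, zero_smul, zero_add]⟩

/-- An element of order `ℓ` with scalar sum with its inverse has that scalar outside the base field. -/
theorem notMem_base (D : RotData G f H v u e a ℓ) {ε : V ≃ₗ[F] V} (hεℓ : ε ^ ℓ = 1) {β : F}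
    (hfix : ∀ z, G z v = 0 → ε z = z → z = 0) (hperp : G (ε u) v = 0)
    (hsum : ∀ z, G z v = 0 → ε z + (ε⁻¹ : V ≃ₗ[F] V) z = β • z) : False := by
  classical
  have : Finite V := Module.finite_of_finite F
  haveI : Fact ℓ.Prime := ⟨D.prime⟩
  have hu0 : u ≠ 0 := fun h => D.uaniso (by rw [h]; simp)
  set M := Submodule.span F (Set.range ![u, ε u]) with hM
  have hMperp : ∀ z ∈ M, G z v = 0 := by
    intro z hz
    obtain ⟨c, hc⟩ := (Submodule.mem_span_range_iff_exists_fun F).mp hz
    rw [Fin.sum_univ_two] at hc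
    subst hc
    simp only [Matrix.cons_val_zero, Matrix.cons_val_one, ← algebraMap_smul L (_ : F) (_ : V), map_add, map_smul,
      LinearMap.add_apply, LinearMap.smul_apply, D.perp, hperp, smul_zero, add_zero]
  have hinv : ∀ z ∈ M, ε z ∈ M := by
    intro z hz
    obtain ⟨c, hc⟩ := (Submodule.mem_span_range_iff_exists_fun F).mp hz
    rw [Fin.sum_univ_two] at hc
    subst hc
    simp only [Matrix.cons_val_zero, Matrix.cons_val_one, map_add, map_smul]
    have h2 : ε (ε u) = β • ε u - u := by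
      have h := congrArg ε (hsum u D.perp)
      rw [map_add, map_smul, show ε ((ε⁻¹ : V ≃ₗ[F] V) u) = u from ε.apply_symm_apply u] at h
      exact eq_sub_of_add_eq h
    rw [h2]
    have m1 : u ∈ M := Submodule.subset_span ⟨0, rfl⟩
    have m2 : ε u ∈ M := Submodule.subset_span ⟨1, rfl⟩
    exact M.add_mem (M.smul_mem _ m2) (M.smul_mem _ (M.sub_mem (M.smul_mem _ m2) m1))
  let S : Subgroup (V ≃ₗ[F] V) := Subgroup.zpowers ε
  have hpg : IsPGroup ℓ S := by
    rintro ⟨_, i, rfl⟩
    refine ⟨1, Subtype.ext ?_⟩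
    simp only [pow_one, SubmonoidClass.coe_pow, OneMemClass.coe_one]
    rw [← zpow_natCast, ← zpow_mul, mul_comm, zpow_mul, zpow_natCast, hεℓ, one_zpow]
  have hpow : ∀ (n : ℕ), ∀ z ∈ M, (ε ^ n) z ∈ M := by
    intro n
    induction n with
    | zero => exact fun z hz => hz
    | succ n ih => intro z hz; rw [pow_succ', LinearEquiv.mul_apply]; exact hinv _ (ih z hz)
  have hz' : ∀ g ∈ S, ∀ z ∈ M, g z ∈ M := by
    intro g hg z hz
    have hfin : IsOfFinOrder ε := isOfFinOrder_iff_pow_eq_one.mpr ⟨ℓ, D.prime.pos, hεℓ⟩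
    obtain ⟨n, rfl⟩ := (IsOfFinOrder.mem_powers_iff_mem_zpowers hfin).mpr hg
    exact hpow n z hz
  let : MulAction S M :=
    { smul := fun g z => ⟨(g : V ≃ₗ[F] V) z, hz' g g.2 z z.2⟩
      one_smul := fun z => Subtype.ext rfl
      mul_smul := fun g g' z => Subtype.ext rfl }
  have hmod := hpg.card_modEq_card_fixedPoints M
  have hfx : Nat.card (MulAction.fixedPoints S M) = 1 := by
    refine Nat.card_eq_one_iff_unique.mpr
      ⟨⟨fun z z' => ?_⟩, ⟨⟨0, fun g => Subtype.ext (map_zero (g : V ≃ₗ[F] V))⟩⟩⟩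
    have key : ∀ z : MulAction.fixedPoints S M, ((z : M) : V) = 0 := fun z =>
      hfix _ (hMperp _ z.1.2) (congrArg Subtype.val (z.2 ⟨ε, Subgroup.mem_zpowers ε⟩))
    exact Subtype.ext (Subtype.ext ((key z).trans (key z').symm))
  rw [hfx, Module.natCard_eq_pow_finrank (K := F) (V := M), ← ZMod.natCast_eq_natCast_iff, Nat.cast_pow,
    Nat.cast_one] at hmod
  have h1 := D.hord _ hmod
  have h2 : finrank F M ≤ 2 := by
    have h := finrank_range_le_card (R := F) (b := ![u, ε u])
    rw [Set.finrank, ← hM, Fintype.card_fin] at h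
    exact h
  have h3 : 0 < finrank F M :=
    Module.finrank_pos_iff_exists_ne_zero.mpr
      ⟨⟨u, Submodule.subset_span ⟨0, rfl⟩⟩, fun h => hu0 (congrArg Subtype.val h)⟩
  have := Nat.le_of_dvd h3 h1
  have := D.rge
  omega

theorem not_base (D : RotData G f H v u e a ℓ) : a ∉ Set.range (algebraMap F L) := by
  rintro ⟨β, rfl⟩
  exact D.notMem_base D.pow D.fixW (D.fix_perp D.mem D.fixLine D.perp) fun z hz => by
    rw [D.sum z hz, algebraMap_smul]

/-- Scalars commuting with a map on the plane. -/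
theorem scalars_top (D : RotData G f H v u e a ℓ) {b : L} (hb : b ∉ Set.range (algebraMap F L))
    (S : Subalgebra F L) (hS : b ∈ S) : S = ⊤ := by
  haveI : IsSimpleOrder (Subalgebra F L) := Subalgebra.isSimpleOrder_of_finrank_prime F L D.ov.prime
  refine (eq_bot_or_eq_top S).resolve_left fun h => hb ?_
  rw [h, Algebra.mem_bot] at hS
  exact hS

/-- A commuting element of order `ℓ` has a scalar sum with its inverse. -/
theorem exists_sum (D : RotData G f H v u e a ℓ) {ε : V ≃ₗ[F] V} (hε : ε ∈ H) (hline : ∀ c : L, ε (c • v) = c • v)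
    (hcomm : ε * e = e * ε) (hεℓ : ε ^ ℓ = 1) (hne : ε ≠ 1) :
    ∃ b : L, b ∉ Set.range (algebraMap F L) ∧ ∀ z, G z v = 0 → ε z + (ε⁻¹ : V ≃ₗ[F] V) z = b • z := by
  classical
  have two : (2 : L) ≠ 0 := D.ov.sG.two
  have hce : ∀ z, ε (e z) = e (ε z) := fun z => LinearEquiv.congr_fun hcomm z
  have hce' : ∀ z, ε ((e⁻¹ : V ≃ₗ[F] V) z) = (e⁻¹ : V ≃ₗ[F] V) (ε z) := fun z => by
    apply e.injective
    rw [← hce, show e ((e⁻¹ : V ≃ₗ[F] V) z) = z from e.apply_symm_apply z,
      show e ((e⁻¹ : V ≃ₗ[F] V) (ε z)) = ε z from e.apply_symm_apply _]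
  -- linearity on the plane
  let S : Subalgebra F L :=
    { carrier := {c | ∀ z, G z v = 0 → ε (c • z) = c • ε z}
      mul_mem' := fun {c d} hc hd z hz => by
        rw [mul_smul, mul_smul, hc (d • z) (by simp [hz]), hd z hz]
      one_mem' := fun z _ => by rw [one_smul, one_smul]
      add_mem' := fun {c d} hc hd z hz => by rw [add_smul, add_smul, map_add, hc z hz, hd z hz]
      zero_mem' := fun z _ => by rw [zero_smul, zero_smul, map_zero]
      algebraMap_mem' := fun t z _ => by rw [algebraMap_smul, algebraMap_smul, map_smul] }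
  have hlin : ∀ (c : L) z, G z v = 0 → ε (c • z) = c • ε z := fun c => by
    have hc : c ∈ S := by
      rw [D.scalars_top D.not_base S fun z hz => by
        rw [← D.sum z hz, map_add, hce, hce', D.sum _ (D.fix_perp hε hline hz)]]
      exact Algebra.mem_top
    exact hc
  have hperp : ∀ {z}, G z v = 0 → G (ε z) v = 0 := fun hz => D.fix_perp hε hline hz
  have hperp' : ∀ {z}, G z v = 0 → G ((ε⁻¹ : V ≃ₗ[F] V) z) v = 0 := fun hz =>
    D.fix_perp (H.inv_mem hε) (D.inv_fix hline) hz
  have heperp : ∀ {z}, G z v = 0 → G (e z) v = 0 := fun hz => D.fix_perp D.mem D.fixLine hz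
  have heperp' : ∀ {z}, G z v = 0 → G ((e⁻¹ : V ≃ₗ[F] V) z) v = 0 := fun hz =>
    D.fix_perp (H.inv_mem D.mem) (D.inv_fix D.fixLine) hz
  obtain ⟨A, B, hAB⟩ := D.exists_coords (ε u) (hperp D.perp)
  have happ : ∀ z, G z v = 0 → ε z = A • z + B • e z := by
    intro z hz
    obtain ⟨α, β, rfl⟩ := D.exists_coords z hz
    rw [map_add, hlin α u D.perp, hlin β _ (heperp D.perp), hce, hAB, map_add, map_add, D.lin, D.lin, D.lin, D.lin]
    simp only [smul_add, smul_smul]
    module
  have happ' : ∀ z, G z v = 0 → (ε⁻¹ : V ≃ₗ[F] V) z = A • z + B • (e⁻¹ : V ≃ₗ[F] V) z := by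
    intro z hz
    refine sub_eq_zero.mp (D.ov.sG.nondeg _ fun w => ?_)
    set d := (ε⁻¹ : V ≃ₗ[F] V) z - (A • z + B • (e⁻¹ : V ≃ₗ[F] V) z)
    have hdv : G d v = 0 := by
      simp only [d, map_sub, map_add, map_smul, LinearMap.sub_apply, LinearMap.add_apply, LinearMap.smul_apply, hz,
        hperp' hz, heperp' hz, smul_zero, add_zero, sub_zero]
    set w' := w - (G w v / G v v) • v with hw'
    have hw'v : G w' v = 0 := by simp [hw', D.aniso]
    have key : G d w' = 0 := by
      have h1 : G ((ε⁻¹ : V ≃ₗ[F] V) z) w' = G z (ε w') := eq_of_trace (F := F) fun c => by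
        have h2 := D.ov.isom ε hε (c • (ε⁻¹ : V ≃ₗ[F] V) z) w'
        rw [hlin c _ (hperp' hz), show ε ((ε⁻¹ : V ≃ₗ[F] V) z) = z from ε.apply_symm_apply z, D.ov.trace, D.ov.trace,
          map_smul G, map_smul G, LinearMap.smul_apply, LinearMap.smul_apply, smul_eq_mul, smul_eq_mul] at h2
        exact h2.symm
      have h2 : G ((e⁻¹ : V ≃ₗ[F] V) z) w' = G z (e w') := eq_of_trace (F := F) fun c => by
        have h3 := D.ov.isom e D.mem (c • (e⁻¹ : V ≃ₗ[F] V) z) w'
        rw [D.lin, show e ((e⁻¹ : V ≃ₗ[F] V) z) = z from e.apply_symm_apply z, D.ov.trace, D.ov.trace,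
          map_smul G, map_smul G, LinearMap.smul_apply, LinearMap.smul_apply, smul_eq_mul, smul_eq_mul] at h3
        exact h3.symm
      simp only [d, map_sub, map_add, map_smul, LinearMap.sub_apply, LinearMap.add_apply, LinearMap.smul_apply,
        smul_eq_mul, h1, h2, happ w' hw'v]
      ring
    rw [show w = w' + (G w v / G v v) • v by rw [hw', sub_add_cancel], map_add, key, map_smul, hdv, smul_zero,
      add_zero]
  set b := 2 * A + B * a with hbdef
  have hsum : ∀ z, G z v = 0 → ε z + (ε⁻¹ : V ≃ₗ[F] V) z = b • z := fun z hz => by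
    rw [happ z hz, happ' z hz, hbdef, add_smul, mul_smul B a, ← D.sum z hz]
    module
  have hfix : ∀ z, G z v = 0 → ε z = z → z = 0 := by
    intro z hz he
    by_contra hz0
    have hb2 : b = 2 := by
      have h := hsum z hz
      rw [he, show (ε⁻¹ : V ≃ₗ[F] V) z = z from ε.symm_apply_eq.mpr he.symm, ← two_smul L z] at h
      exact (smul_left_injective L hz0 h).symm
    have hN : ∀ w, G w v = 0 → ε w = w := by
      intro w hw
      have h2 : ε (ε w - w) = ε w - w := by
        have h := congrArg ε (hsum w hw)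
        rw [map_add, show ε ((ε⁻¹ : V ≃ₗ[F] V) w) = w from ε.apply_symm_apply w, hlin b w hw, hb2, two_smul] at h
        rw [map_sub, sub_eq_sub_iff_add_eq_add, h]
      have hn : ∀ n : ℕ, (ε ^ n) w = w + n • (ε w - w) := by
        intro n
        induction n with
        | zero => simp
        | succ n ih => rw [pow_succ', LinearEquiv.mul_apply, ih, map_add, map_nsmul, h2, succ_nsmul]; abel
      have h3 := hn ℓ
      rw [hεℓ, LinearEquiv.coe_one, id_eq, left_eq_add, ← Nat.cast_smul_eq_nsmul F, smul_eq_zero] at h3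
      refine sub_eq_zero.mp (h3.resolve_left fun h => D.hq0 ?_)
      haveI := Fintype.ofFinite F
      set p := ringChar F
      haveI : CharP F p := ringChar.charP F
      have hp : p.Prime := CharP.char_is_prime F p
      obtain ⟨n, -, hn'⟩ := FiniteField.card F p
      have hpl : p = ℓ := (Nat.prime_dvd_prime_iff_eq hp D.prime).mp ((CharP.cast_eq_zero_iff F p ℓ).mp h)
      rw [ZMod.natCast_eq_zero_iff, Nat.card_eq_fintype_card, hn', hpl]
      exact dvd_pow_self _ n.pos.ne'
    refine hne (LinearEquiv.ext fun w => ?_)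
    have hw' : G (w - (G w v / G v v) • v) v = 0 := by simp [D.aniso]
    have h := hN _ hw'
    rw [map_sub, hline] at h
    exact sub_left_inj.mp h
  refine ⟨b, ?_, hsum⟩
  rintro ⟨β, hβ⟩
  exact D.notMem_base hεℓ hfix (hperp D.perp) fun z hz => by rw [hsum z hz, ← hβ, algebraMap_smul]

set_option maxHeartbeats 400000 in
/-- No element with blocks of size three and order prime to the degree normalises such a group. -/
theorem no_normalizer (D : RotData G f H v u e a ℓ) {R : Subgroup (V ≃ₗ[F] V)} (hRH : R ≤ H) (hRℓ : IsPGroup ℓ R)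
    (heR : e ∈ R) (hRfix : ∀ g ∈ R, ∀ c : L, g (c • v) = c • v) {w : V ≃ₗ[F] V} (hw : w ∈ H)
    (hwl : ∀ c : L, ∃ c' : L, w (c • v) = c' • v) (hwl' : ∀ c : L, ∃ c' : L, (w⁻¹ : V ≃ₗ[F] V) (c • v) = c' • v)
    (hwR : ∀ g ∈ R, w * g * w⁻¹ ∈ R) (hwR' : ∀ g ∈ R, w⁻¹ * g * w ∈ R) {N : ℕ} (hwN : w ^ N = 1)
    (hN : Nat.Coprime N (finrank F L))
    (hker : LinearMap.ker (w.toLinearMap - LinearMap.id) =
      LinearMap.range ((w.toLinearMap - LinearMap.id) ∘ₗ (w.toLinearMap - LinearMap.id))) : False := by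
  classical
  have := D.ov.finV
  have : Finite V := Module.finite_of_finite F
  have : Finite (V ≃ₗ[F] V) := Finite.of_injective (fun g => (g : V → V)) DFunLike.coe_injective
  haveI : Fact ℓ.Prime := ⟨D.prime⟩
  have hu0 : u ≠ 0 := fun h => D.uaniso (by rw [h]; simp)
  -- a central element of order ℓ
  haveI : Nontrivial R := by
    refine ⟨⟨⟨e, heR⟩, 1, fun h => hu0 (D.fixW u D.perp ?_)⟩⟩
    rw [show e = 1 from congrArg Subtype.val h]
    rfl
  haveI := hRℓ.center_nontrivial
  obtain ⟨ε, hε⟩ := exists_prime_orderOf_dvd_card' (G := Subgroup.center R) ℓ (by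
    obtain ⟨n, hn, hn'⟩ := (hRℓ.to_subgroup (Subgroup.center R)).nontrivial_iff_card.mp inferInstance
    rw [hn']; exact dvd_pow_self _ hn.ne')
  set ε₀ : V ≃ₗ[F] V := (((ε : R)) : V ≃ₗ[F] V) with hε₀
  have hε₀ℓ : ε₀ ^ ℓ = 1 := by
    have h := pow_orderOf_eq_one ε
    rw [hε] at h
    exact congrArg (fun z : Subgroup.center R => ((z : R) : V ≃ₗ[F] V)) h
  have hε₀1 : ε₀ ≠ 1 := by
    intro h
    have : ε = 1 := Subtype.ext (Subtype.ext h)
    rw [this, orderOf_one] at hε
    exact D.prime.one_lt.ne hε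
  have hcent : ∀ g ∈ R, ε₀ * g = g * ε₀ := fun g hg =>
    congrArg Subtype.val (Subgroup.mem_center_iff.mp ε.2 ⟨g, hg⟩).symm
  obtain ⟨b, hb, hbs⟩ := D.exists_sum (hRH (ε : R).2) (hRfix _ (ε : R).2) (hcent e heR) hε₀ℓ hε₀1
  set ε₁ := w * ε₀ * w⁻¹ with hε₁
  have hε₁R : ε₁ ∈ R := hwR _ (ε : R).2
  obtain ⟨b', -, hbs'⟩ := D.exists_sum (hRH hε₁R) (hRfix _ hε₁R) (by
      have h := hcent _ (hwR' e heR)
      calc ε₁ * e = w * (ε₀ * (w⁻¹ * e * w)) * w⁻¹ := by rw [hε₁]; group
        _ = w * ((w⁻¹ * e * w) * ε₀) * w⁻¹ := by rw [h]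
        _ = e * ε₁ := by rw [hε₁]; group)
    (by rw [hε₁, conj_pow, hε₀ℓ, mul_one, mul_inv_cancel])
    (fun h => hε₁R |> fun _ => hε₀1 (by rw [← conj_eq_one_iff (a := w)]; exact h))
  have hwperp : ∀ {z}, G z v = 0 → G (w z) v = 0 := fun hz => D.perp_inv hw hwl' hz
  -- semilinearity on the plane
  let S : Subalgebra F L :=
    { carrier := {c | ∃ c' : L, ∀ z, G z v = 0 → w (c • z) = c' • w z}
      mul_mem' := fun {c d} ⟨c', hc⟩ ⟨d', hd⟩ => ⟨c' * d', fun z hz => by
        rw [mul_smul, hc (d • z) (by simp [hz]), hd z hz, mul_smul]⟩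
      one_mem' := ⟨1, fun z _ => by rw [one_smul, one_smul]⟩
      add_mem' := fun {c d} ⟨c', hc⟩ ⟨d', hd⟩ => ⟨c' + d', fun z hz => by
        rw [add_smul, map_add, hc z hz, hd z hz, add_smul]⟩
      zero_mem' := ⟨0, fun z _ => by rw [zero_smul, zero_smul, map_zero]⟩
      algebraMap_mem' := fun t => ⟨algebraMap F L t, fun z _ => by
        rw [algebraMap_smul, algebraMap_smul, map_smul]⟩ }
  have hbS : b ∈ S := ⟨b', fun z hz => by
    have e1 : ∀ x, ε₁ (w x) = w (ε₀ x) := fun x => by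
      show w (ε₀ (w.symm (w x))) = _
      rw [w.symm_apply_apply]
    have e2 : ∀ x, (ε₁⁻¹ : V ≃ₗ[F] V) (w x) = w ((ε₀⁻¹ : V ≃ₗ[F] V) x) := fun x => by
      apply ε₁.injective
      rw [e1, show ε₁ ((ε₁⁻¹ : V ≃ₗ[F] V) (w x)) = w x from ε₁.apply_symm_apply _,
        show ε₀ ((ε₀⁻¹ : V ≃ₗ[F] V) x) = x from ε₀.apply_symm_apply x]
    rw [← hbs z hz, map_add, ← e1, ← e2, hbs' _ (hwperp hz)]⟩
  have htop : ∀ c : L, ∃ c' : L, ∀ z, G z v = 0 → w (c • z) = c' • w z := fun c => by
    have hc : c ∈ S := by rw [D.scalars_top hb S hbS]; exact Algebra.mem_top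
    exact hc
  choose μ hμ using htop
  have hwu : w u ≠ 0 := fun h => hu0 (w.injective (by rw [h, map_zero]))
  have inj := smul_left_injective L hwu
  let φ : L →ₐ[F] L :=
    { toFun := μ
      map_one' := inj (show μ 1 • w u = (1 : L) • w u by rw [← hμ 1 u D.perp, one_smul, one_smul])
      map_mul' := fun c d => inj (show μ (c * d) • w u = (μ c * μ d) • w u by
        rw [← hμ _ u D.perp, mul_smul, mul_smul, hμ c (d • u) (by simp [D.perp]), hμ d u D.perp])
      map_zero' := inj (show μ 0 • w u = (0 : L) • w u by rw [← hμ 0 u D.perp, zero_smul, zero_smul, map_zero])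
      map_add' := fun c d => inj (show μ (c + d) • w u = (μ c + μ d) • w u by
        rw [← hμ _ u D.perp, add_smul, map_add, hμ c u D.perp, hμ d u D.perp, add_smul])
      commutes' := fun t => inj (show μ (algebraMap F L t) • w u = algebraMap F L t • w u by
        rw [← hμ _ u D.perp, algebraMap_smul, algebraMap_smul, map_smul]) }
  have : Finite L := D.ov.finiteL
  let σ : L ≃ₐ[F] L := AlgEquiv.ofBijective φ (Finite.injective_iff_bijective.mp φ.toRingHom.injective)
  have hσ : ∀ (c : L) z, G z v = 0 → w (c • z) = σ c • w z := fun c z hz => hμ c z hz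
  have hiter : ∀ (n : ℕ) (c : L) z, G z v = 0 →
      G ((w ^ n) z) v = 0 ∧ (w ^ n) (c • z) = (σ ^ n : L ≃ₐ[F] L) c • (w ^ n) z := by
    intro n
    induction n with
    | zero => exact fun c z hz => ⟨hz, rfl⟩
    | succ n ih =>
      intro c z hz
      obtain ⟨h1, h2⟩ := ih c z hz
      refine ⟨by rw [pow_succ', LinearEquiv.mul_apply]; exact hwperp h1, ?_⟩
      rw [pow_succ', pow_succ', LinearEquiv.mul_apply, h2, hσ _ _ h1]
      rfl
  have hσ1 : σ = 1 := by
    have h1 : σ ^ N = 1 := AlgEquiv.ext fun c => smul_left_injective L hu0 (by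
      have h := (hiter N c u D.perp).2
      rw [hwN] at h
      exact h.symm)
    have h2 : σ ^ finrank F L = 1 := by
      have h : σ ^ Nat.card (L ≃ₐ[F] L) = 1 := pow_card_eq_one'
      rwa [card_aut (F := F) (L := L)] at h
    have := pow_gcd_eq_one.mpr ⟨h1, h2⟩
    rwa [hN, pow_one] at this
  have hlin : ∀ (c : L) z, G z v = 0 → w (c • z) = c • w z := fun c z hz => by
    rw [hσ c z hz, hσ1, AlgEquiv.one_apply]
  -- blocks of size three on a plane
  set P := LinearMap.ker (G.flip v) with hP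
  have hmemP : ∀ {z}, z ∈ P ↔ G z v = 0 := by intro z; exact LinearMap.mem_ker
  let E : Module.End L P :=
    { toFun := fun z => ⟨w z - z, P.sub_mem (hmemP.mpr (hwperp (hmemP.mp z.2))) z.2⟩
      map_add' := fun z z' => Subtype.ext (by simp only [Submodule.coe_add, map_add]; abel)
      map_smul' := fun c z => Subtype.ext (by
        simp only [SetLike.val_smul, RingHom.id_apply, hlin c _ (hmemP.mp z.2), smul_sub]) }
  set Dm := w.toLinearMap - LinearMap.id with hDm
  have hEE : ∀ z : P, ((E z : P) : V) = Dm (z : V) := fun z => rfl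
  have hdvd := three_dvd_finrank E (le_antisymm (fun z hz => ?_) ?_)
  · have hP2 : finrank L P = 2 := by
      have h1 := LinearMap.finrank_range_add_finrank_ker (G.flip v)
      have hr : LinearMap.range (G.flip v) = ⊤ := by
        refine eq_top_iff.mpr fun c _ => ⟨(c / G v v) • v, ?_⟩
        simp [D.aniso]
      rw [hr, finrank_top, finrank_self, D.dim, ← hP] at h1
      omega
    rw [hP2] at hdvd
    omega
  · have hz0 : Dm (z : V) = 0 := congrArg Subtype.val (LinearMap.mem_ker.mp hz)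
    obtain ⟨t, ht⟩ : (z : V) ∈ LinearMap.range (Dm ∘ₗ Dm) := hker ▸ LinearMap.mem_ker.mpr hz0
    set k := G t v / G v v
    have ht' : G (t - k • v) v = 0 := by simp [k, D.aniso]
    set t' : P := ⟨t - k • v, hmemP.mpr ht'⟩
    obtain ⟨c₁, hc₁⟩ : ∃ c : L, Dm (k • v) = c • v := by
      obtain ⟨c, hc⟩ := hwl k
      exact ⟨c - k, by rw [sub_smul, ← hc]; rfl⟩
    obtain ⟨c₂, hc₂⟩ : ∃ c : L, Dm (c₁ • v) = c • v := by
      obtain ⟨c, hc⟩ := hwl c₁
      exact ⟨c - c₁, by rw [sub_smul, ← hc]; rfl⟩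
    have e1 : (z : V) - ((E (E t') : P) : V) = c₂ • v := by
      rw [hEE, hEE, ← ht, LinearMap.comp_apply, show (t' : V) = t - k • v from rfl, map_sub, map_sub, hc₁, hc₂,
        sub_sub_cancel]
    refine ⟨t', ?_⟩
    have h0 : c₂ = 0 := by
      have h := congrArg (fun x => G x v) e1
      simp only [map_sub, LinearMap.sub_apply, hmemP.mp z.2, hmemP.mp (E (E t')).2, map_smul, LinearMap.smul_apply,
        smul_eq_mul, sub_zero] at h
      exact (mul_eq_zero.mp h.symm).resolve_right D.aniso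
    rw [h0, zero_smul, sub_eq_zero] at e1
    exact Subtype.ext e1.symm
  · rintro _ ⟨z, rfl⟩
    refine LinearMap.mem_ker.mpr (Subtype.ext ?_)
    show Dm (Dm (Dm (z : V))) = 0
    exact LinearMap.mem_ker.mp (hker ▸ (⟨(z : V), rfl⟩ : Dm (Dm (z : V)) ∈ LinearMap.range (Dm ∘ₗ Dm)))

end RotData

end Cfsg.Lib.Classical.ExtFieldOrth
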