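import Cfsg.Agent.Classical.ExtFieldOrth.Block
import Cfsg.Agent.Classical.ExtFieldOrth.Rot
import Cfsg.Agent.Classical.ExtFieldOrth.ThreeRot
import Cfsg.Agent.Classical.ExtFieldOrth.ThreeCharThree

/-! Images of singular vectors in dimension three. -/

set_option autoImplicit false
set_option linter.unusedSectionVars false

namespace Cfsg.Lib.Classical.ExtFieldOrth

open Module Cfsg.Lib.Classical

variable {F L V : Type*} [Field F] [Finite F] [Field L] [Algebra F L] [FiniteDimensional F L]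
  [AddCommGroup V] [Module F V] [Module L V] [IsScalarTower F L V] [FiniteDimensional F V]

variable {G : LinearMap.BilinForm L V} {f : LinearMap.BilinForm F V} {H : Subgroup (V ≃ₗ[F] V)}

theorem Over.exists_aniso_in (hO : Over L G f H) (W : Submodule L V) (hne : W ≠ ⊥)
    (hproj : ∀ z, ∃ z' ∈ W, ∀ q ∈ W, G q z = G q z') : ∃ u ∈ W, G u u ≠ 0 := by
  by_contra! hall
  obtain ⟨q, hq, hq0⟩ := W.exists_mem_ne_zero_of_ne_bot hne
  refine hq0 (hO.sG.nondeg q fun z => ?_)
  obtain ⟨z', hz', e⟩ := hproj z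
  have h := hall _ (W.add_mem hq hz')
  simp only [map_add, LinearMap.add_apply, hall q hq, hall z' hz', hO.sG.symm z' q, zero_add, add_zero] at h
  rw [e q hq]
  exact (mul_eq_zero.mp (show (2 : L) * G q z' = 0 by linear_combination h)).resolve_left hO.sG.two

theorem Over.exists_plane (hO : Over L G f H) (hm : finrank L V = 3) {v : V} (hv : G v v ≠ 0) :
    ∃ u1 u2, G u1 u1 ≠ 0 ∧ G u2 u2 ≠ 0 ∧ G u1 u2 = 0 ∧ G v u1 = 0 ∧ G v u2 = 0 ∧
      ∀ z, G z u1 = 0 → G z u2 = 0 → z = (G z v / G v v) • v := by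
  classical
  have := hO.finV
  have hdim : 2 ≤ finrank L (LinearMap.ker (G v)) := by
    have h1 := LinearMap.finrank_range_add_finrank_ker (G v)
    have h2 := Submodule.finrank_le (LinearMap.range (G v))
    rw [finrank_self] at h2
    omega
  obtain ⟨u1, hu1, h1⟩ := hO.exists_aniso_in (LinearMap.ker (G v)) (fun e => by rw [e, finrank_bot] at hdim; omega)
    fun z => ⟨z - (G v z / G v v) • v, by simp [hv], fun q hq => by
      rw [LinearMap.mem_ker] at hq
      simp [hO.sG.symm q v, hq]⟩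
  rw [LinearMap.mem_ker] at hu1
  let φ : V →ₗ[L] L := (G u1).comp (LinearMap.id)
  have hne : LinearMap.ker (G v) ⊓ LinearMap.ker (G u1) ≠ ⊥ := by
    intro e
    have h3 := Submodule.finrank_sup_add_finrank_inf_eq (LinearMap.ker (G v)) (LinearMap.ker (G u1))
    rw [e, finrank_bot, add_zero] at h3
    have h4 := Submodule.finrank_le (LinearMap.ker (G v) ⊔ LinearMap.ker (G u1))
    have h5 := LinearMap.finrank_range_add_finrank_ker (G u1)
    have h6 := Submodule.finrank_le (LinearMap.range (G u1))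
    rw [finrank_self] at h6
    omega
  have hv1 : G u1 v = 0 := by rw [hO.sG.symm]; exact hu1
  obtain ⟨u2, ⟨hu2v, hu2⟩, h2⟩ := hO.exists_aniso_in _ hne
    fun z => ⟨z - (G v z / G v v) • v - (G u1 z / G u1 u1) • u1, ⟨by simp [hv, hu1], by simp [h1, hv1]⟩,
      fun q ⟨hq, hq'⟩ => by
        rw [SetLike.mem_coe, LinearMap.mem_ker] at hq hq'
        simp [hO.sG.symm q v, hO.sG.symm q u1, hq, hq']⟩
  rw [SetLike.mem_coe, LinearMap.mem_ker] at hu2v hu2
  refine ⟨u1, u2, h1, h2, hu2, hu1, hu2v, fun z hz1 hz2 => ?_⟩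
  have hli : LinearIndependent L ![v, u1, u2] := Fintype.linearIndependent_iff.mpr fun c hc => by
    rw [Fin.sum_univ_three] at hc
    simp only [Matrix.cons_val_zero, Matrix.cons_val_one, Matrix.cons_val_two, Matrix.cons_val, Matrix.head_cons,
      Matrix.tail_cons] at hc
    have a0 := congrArg (fun z => G z v) hc
    have a1 := congrArg (fun z => G z u1) hc
    have a2 := congrArg (fun z => G z u2) hc
    simp [hv, h1, h2, hu1, hv1, hu2v, hu2, hO.sG.symm u2 v, hO.sG.symm u2 u1] at a0 a1 a2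
    intro i
    fin_cases i <;> assumption
  have htop := hli.span_eq_top_of_card_eq_finrank (by simp [hm])
  obtain ⟨c, hc⟩ := (Submodule.mem_span_range_iff_exists_fun L).mp
    (show z ∈ Submodule.span L (Set.range ![v, u1, u2]) by rw [htop]; exact Submodule.mem_top)
  rw [Fin.sum_univ_three] at hc
  simp only [Matrix.cons_val_zero, Matrix.cons_val_one, Matrix.cons_val_two, Matrix.cons_val, Matrix.head_cons,
    Matrix.tail_cons] at hc
  subst hc
  simp [h1, h2, hu1, hu2v, hu2, hO.sG.symm u2 u1] at hz1 hz2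
  simp [hz1, hz2, hv]

/-- Images of singular vectors are singular, in dimension three. -/
theorem Over.singular_image_three (hO : Over L G f H) (hF : ¬ Full f H) (hm : finrank L V = 3) {g : V ≃ₗ[F] V}
    (hg : g ∈ H) {x : V} (hx : G x x = 0) : G (g x) (g x) = 0 := by
  classical
  by_contra hv
  have hx0 : x ≠ 0 := fun e => hv (by subst e; simp)
  have : Finite V := Module.finite_of_finite F
  have : Finite L := hO.finiteL
  have : Finite (V ≃ₗ[F] V) := Finite.of_injective (fun g => (g : V → V)) DFunLike.coe_injective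
  obtain ⟨x', y, γ, T⟩ := hO.exists_frame3 hm hx0 hx
  -- a rotation about the line of the image
  have hr3 : 3 ≤ finrank F L := by
    have h1 := hO.prime.two_le
    by_contra h
    have := hO.five_le (by omega)
    omega
  obtain ⟨u1, u2, h1, h2, h12, hvu1, hvu2, hspan⟩ := hO.exists_plane hm hv
  obtain ⟨ℓ, hℓ, hq0, hord, e, heH, heℓ, hefix, hefix', helin, a, hs1, hs2⟩ := hO.exists_rot hr3 h1 h2 h12
  haveI : Fact ℓ.Prime := ⟨hℓ⟩
  have hev : e (g x) = g x := hefix _ hvu1 hvu2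
  have hnotp : ringChar F ≠ ℓ := fun h => hq0 ((ZMod.natCast_eq_zero_iff _ _).mpr (by
    haveI := Fintype.ofFinite F
    haveI : CharP F (ringChar F) := ringChar.charP F
    obtain ⟨n, -, hn⟩ := FiniteField.card F (ringChar F)
    rw [Nat.card_eq_fintype_card, hn, h]
    exact dvd_pow_self _ n.pos.ne'))
  by_cases h33 : finrank F L = 3 ∧ ringChar F = 3
  · have hone := T.no_other_prime hF h33.1 h33.2 hℓ (h33.2 ▸ hnotp.symm)
      (e := g⁻¹ * e * g) (H.mul_mem (H.mul_mem (H.inv_mem hg) heH) hg) (by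
        show g.symm (e (g x)) = x
        rw [hev, g.symm_apply_apply]) (by
        have := conj_pow (a := g⁻¹) (b := e) (i := ℓ)
        rw [inv_inv] at this
        rw [this, heℓ, mul_one, inv_mul_cancel])
    have he1 : e = 1 := by
      calc e = g * (g⁻¹ * e * g) * g⁻¹ := by group
        _ = 1 := by rw [hone, mul_one, mul_inv_cancel]
    exact h1 (hefix' u1 (by rw [he1]; rfl)).1
  have hnc : 4 ≤ finrank F L ∨ finrank F L = 3 ∧ (3 : L) ≠ 0 := by
    rcases Nat.lt_or_ge (finrank F L) 4 with h | h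
    · refine Or.inr ⟨by omega, fun h0 => h33 ⟨by omega, ?_⟩⟩
      have hF3 : (3 : F) = 0 := (algebraMap F L).injective (by rw [map_ofNat, map_zero, h0])
      haveI : CharP F (ringChar F) := ringChar.charP F
      have hd : ringChar F ∣ 3 := (CharP.cast_eq_zero_iff F (ringChar F) 3).mp (by exact_mod_cast hF3)
      exact (Nat.prime_dvd_prime_iff_eq (CharP.char_is_prime F _) Nat.prime_three).mp hd
    · exact Or.inl h
  set r := finrank F L with hr
  haveI : Fact r.Prime := ⟨hO.prime⟩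
  set p := ringChar F
  haveI : CharP F p := ringChar.charP F
  have hp : p.Prime := CharP.char_is_prime F p
  haveI : Fact p.Prime := ⟨hp⟩
  set K := hO.stab x with hKdef
  let N : Subgroup K := hO.semiGroup.subgroupOf K
  have hNsemi : ∀ t : N, Semi L ((t : K) : V ≃ₗ[F] V) := fun t => t.2.2
  -- the additive map on semilinear elements
  let τ : N →* Multiplicative F :=
    { toFun := fun t => Multiplicative.ofAdd (Algebra.trace F L (G (((t : K) : V ≃ₗ[F] V) x') y))
      map_one' := by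
        show Multiplicative.ofAdd (Algebra.trace F L (G x' y)) = 1
        rw [T.Gx'y, map_zero, ofAdd_zero]
      map_mul' := fun a b => by
        obtain ⟨σ, hσ⟩ := (hNsemi a).exists_aut hx0
        obtain ⟨σ', hσ'⟩ := (hNsemi b).exists_aut hx0
        show Multiplicative.ofAdd (Algebra.trace F L (G (((a : K) : V ≃ₗ[F] V) (((b : K) : V ≃ₗ[F] V) x')) y)) = _
        rw [(T.data (a : K).2.1 (a : K).2.2 hσ).2.2, (T.data (b : K).2.1 (b : K).2.2 hσ').1, T.fr.pair', map_one,
          map_one, one_mul, map_add, Algebra.trace_eq_of_algEquiv, ofAdd_add, mul_comm] }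
  -- the Siegel group along `x` and a Sylow subgroup containing it
  have hxy := T.Gxy
  set us := hO.usHom hx hxy with hus
  have husK : ∀ c, us c ∈ K := fun c => ⟨(hO.usHom_mem hx hxy c).1, by
    show sg G x (Multiplicative.toAdd c • y) x = x
    simp [sg, hx, hxy]⟩
  have hUle : us.range ≤ K := by rintro _ ⟨c, rfl⟩; exact husK c
  obtain ⟨P, hP⟩ := ((hO.usHom_isPGroup hx hxy p).of_equiv (Subgroup.subgroupOfEquivOfLe hUle).symm).exists_le_sylow
  have hPN : (P : Subgroup K) ≤ N := fun h hh =>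
    ⟨h.2.1, hO.semi_of_pGroup hF hx0 hx hxy T.Gxne (Q := (P : Subgroup K).map K.subtype) (p := p) (P.2.map _)
      (by rintro _ ⟨a, -, rfl⟩; exact a.2.1)
      (fun a ha => ⟨⟨a, hUle ha⟩, hP (show (⟨a, hUle ha⟩ : K) ∈ us.range.subgroupOf K from ha), rfl⟩)
      ⟨h, hh, rfl⟩⟩
  have hindex : ¬ p ∣ N.index := fun h => P.not_dvd_index (h.trans (Subgroup.index_dvd_of_le hPN))
  haveI : Fintype (K ⧸ N) := Fintype.ofFinite _
  set χ : K →* Multiplicative F := MonoidHom.transfer τ with hχ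
  -- a Siegel element with nonzero value
  obtain ⟨c0, hc0⟩ : ∃ c : L, Algebra.trace F L (c * algebraMap F L γ) ≠ 0 := by
    by_contra! hc
    exact T.gL (eq_of_trace (F := F) fun c => by rw [hc c, mul_zero, map_zero])
  have hus_val : ∀ c : L, G (us (Multiplicative.ofAdd c) x') y = c * algebraMap F L γ := fun c => by
    rw [hO.usHom_apply]
    simp [sg, T.fr.pair', T.Gxy, T.Gx'y, T.norm_eq]
  set s : K := ⟨_, husK (Multiplicative.ofAdd c0)⟩ with hs
  have husN : ∀ c, (⟨_, husK c⟩ : K) ∈ N := fun c =>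
    ⟨(hO.usHom_mem hx hxy c).1, (hO.usHom_mem hx hxy c).2.semi⟩
  -- conjugates of powers of a linear element
  have hlinconj : ∀ {t h : K}, IsLin L (h : V ≃ₗ[F] V) → ∀ k : K, t = k⁻¹ * h * k → t ∈ N →
      IsLin L (t : V ≃ₗ[F] V) := by
    intro t h hh k hk ht
    obtain ⟨σ, hσ⟩ := (show Semi L (t : V ≃ₗ[F] V) from ht.2).exists_aut hx0
    suffices hσ1 : σ = 1 by intro a z; rw [hσ, hσ1, AlgEquiv.one_apply]
    refine no_cubic hO.prime hnc σ fun a => ?_
    have e0 := T.cube_zero h.2.1 h.2.2 hh ((k : V ≃ₗ[F] V) (a • x))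
    have hht : ∀ w, (h : V ≃ₗ[F] V) ((k : V ≃ₗ[F] V) w) = (k : V ≃ₗ[F] V) ((t : V ≃ₗ[F] V) w) := fun w => by
      have h1 : h * k = k * t := by rw [hk]; group
      exact LinearEquiv.congr_fun (congrArg Subtype.val h1) w
    simp only [hht, ← map_sub] at e0
    have e1 := (k : V ≃ₗ[F] V).injective (e0.trans (map_zero _).symm)
    simp only [map_sub, hσ, t.2.2] at e1
    simp only [← sub_smul, smul_eq_zero, or_iff_left hx0] at e1
    linear_combination e1
  have hterm : ∀ (n : ℕ) (k : K) (hk : k⁻¹ * s ^ n * k ∈ N), τ ⟨_, hk⟩ = τ ⟨s, husN _⟩ ^ n := by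
    intro n k hk
    rw [← map_pow]
    set c := (Multiplicative.ofAdd c0) ^ n with hc
    have hsn : s ^ n = ⟨_, husK c⟩ := Subtype.ext (by
      rw [SubmonoidClass.coe_pow]; exact (map_pow us _ _).symm)
    have hpow : (⟨s, husN _⟩ : N) ^ n = ⟨⟨_, husK c⟩, husN c⟩ := Subtype.ext (by
      rw [SubmonoidClass.coe_pow]; exact hsn)
    rw [hpow]
    rcases eq_or_ne c 1 with h1 | h1
    · congr 1
      refine Subtype.ext ?_
      show k⁻¹ * s ^ n * k = ⟨_, husK c⟩
      have h1' : (⟨_, husK c⟩ : K) = 1 := Subtype.ext (show us c = 1 by rw [h1, map_one])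
      rw [hsn, h1', mul_one, inv_mul_cancel]
    have hl : IsLin L ((k⁻¹ * s ^ n * k : K) : V ≃ₗ[F] V) :=
      hlinconj (t := k⁻¹ * s ^ n * k) (h := s ^ n) (by rw [hsn]; exact (hO.usHom_mem hx hxy c).2) k rfl hk
    have hkN : k⁻¹ ∈ N := ⟨(k⁻¹).2.1, hO.semi_of_conj_lin hF (k⁻¹).2.1 hx0 hx
      (w := Multiplicative.toAdd c • y) (by simp [hxy]) (by
        simp only [map_smul, LinearMap.smul_apply, smul_eq_mul]
        have : Multiplicative.toAdd c ≠ 0 := fun h => h1 (toAdd_eq_zero.mp h)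
        exact mul_ne_zero this (mul_ne_zero this T.Gxne))
      (show IsLin L (((k⁻¹ : K) : V ≃ₗ[F] V) * us c * ((k⁻¹ : K) : V ≃ₗ[F] V)⁻¹) by
        rw [hsn] at hl
        simpa [mul_assoc] using hl)⟩
    have hk' : k ∈ N := by simpa using N.inv_mem hkN
    have e : (⟨_, hk⟩ : N) = ⟨k⁻¹, hkN⟩ * ⟨⟨_, husK c⟩, husN c⟩ * (⟨k⁻¹, hkN⟩)⁻¹ := Subtype.ext (by
      show k⁻¹ * s ^ n * k = k⁻¹ * ⟨_, husK c⟩ * k⁻¹⁻¹
      rw [inv_inv, hsn])
    rw [e, map_mul, map_mul, map_inv, mul_comm (τ ⟨k⁻¹, hkN⟩), mul_inv_cancel_right]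
  have hχs : χ s ≠ 1 := by
    haveI := Fintype.ofFinite (Quotient (MulAction.orbitRel (Subgroup.zpowers s) (K ⧸ N)))
    rw [hχ, MonoidHom.transfer_eq_prod_quotient_orbitRel_zpowers_quot, Finset.prod_congr rfl fun q _ => hterm _ _ _,
      Finset.prod_pow_eq_pow_sum, ← Subgroup.index_eq_sum_minimalPeriod]
    intro h1
    have h2 := congrArg Multiplicative.toAdd h1
    rw [toAdd_pow, toAdd_one] at h2
    have hts : Multiplicative.toAdd (τ ⟨s, husN _⟩) = Algebra.trace F L (c0 * algebraMap F L γ) := by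
      show Algebra.trace F L (G (us (Multiplicative.ofAdd c0) x') y) = _
      rw [hus_val]
    rw [hts, nsmul_eq_mul, mul_eq_zero, CharP.cast_eq_zero_iff F p] at h2
    exact hindex (h2.resolve_right hc0)
  -- elements with a nontrivial automorphism of exponent `r` have trivial transfer
  have hvanish : ∀ (h : K) (σ : L ≃ₐ[F] L), (∀ (a : L) z, (h : V ≃ₗ[F] V) (a • z) = σ a • (h : V ≃ₗ[F] V) z) →
      σ ≠ 1 → h ^ r = 1 → χ h = 1 := by
    intro h σ hσ hne hh
    haveI := Fintype.ofFinite (Quotient (MulAction.orbitRel (Subgroup.zpowers h) (K ⧸ N)))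
    rw [hχ, MonoidHom.transfer_eq_prod_quotient_orbitRel_zpowers_quot]
    refine Finset.prod_eq_one fun q _ => ?_
    suffices key : ∀ (n : ℕ) (k : K) (ht : k⁻¹ * h ^ n * k ∈ N), τ ⟨_, ht⟩ = 1 from key _ _ _
    intro n k ht
    obtain ⟨ρ, hρ⟩ := (show Semi L ((k⁻¹ * h ^ n * k : K) : V ≃ₗ[F] V) from ht.2).exists_aut hx0
    set t : K := k⁻¹ * h ^ n * k with ht'
    have htr : t ^ r = 1 := by
      have : t ^ r = k⁻¹ * (h ^ n) ^ r * k := by
        have := conj_pow (a := k⁻¹) (b := h ^ n) (i := r)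
        rwa [inv_inv] at this
      rw [this, ← pow_mul, mul_comm, pow_mul, hh, one_pow, mul_one, inv_mul_cancel]
    by_cases hρ1 : ρ = 1
    · -- a linear conjugate
      have htlin : IsLin L (t : V ≃ₗ[F] V) := fun a z => by rw [hρ, hρ1, AlgEquiv.one_apply]
      have hσn : σ ^ n = 1 := by
        refine no_cubic hO.prime hnc _ fun a => ?_
        have hhn : ∀ (b : L), (((h ^ n : K)) : V ≃ₗ[F] V) (b • x) = (σ ^ n : L ≃ₐ[F] L) b • x := fun b => by
          rw [SubmonoidClass.coe_pow, Frame3.pow_semi hσ]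
          congr 1
          exact (SubmonoidClass.coe_pow h n ▸ (h ^ n).2.2 :)
        have e0 := T.cube_zero t.2.1 t.2.2 htlin (((k⁻¹ : K) : V ≃ₗ[F] V) (a • x))
        have hht : ∀ w, (t : V ≃ₗ[F] V) (((k⁻¹ : K) : V ≃ₗ[F] V) w) =
            ((k⁻¹ : K) : V ≃ₗ[F] V) (((h ^ n : K) : V ≃ₗ[F] V) w) := fun w => by
          have h1 : t * k⁻¹ = k⁻¹ * h ^ n := by rw [ht']; group
          exact LinearEquiv.congr_fun (congrArg Subtype.val h1) w
        simp only [hht, ← map_sub] at e0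
        have e1 := ((k⁻¹ : K) : V ≃ₗ[F] V).injective (e0.trans (map_zero _).symm)
        simp only [map_sub, hhn] at e1
        simp only [← sub_smul, smul_eq_zero, or_iff_left hx0] at e1
        linear_combination e1
      have hord : orderOf σ = r := orderOf_eq_prime (T.pow_aut_r σ) hne
      obtain ⟨j, hj⟩ : r ∣ n := hord ▸ orderOf_dvd_of_pow_eq_one hσn
      have : (⟨t, ht⟩ : N) = 1 := Subtype.ext (by
        show k⁻¹ * h ^ n * k = 1
        rw [hj, pow_mul, hh, one_pow, mul_one, inv_mul_cancel])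
      rw [this, map_one]
    · have e := T.pow_r_trace t.2.1 t.2.2 hρ hρ1
      rw [← hr, ← SubmonoidClass.coe_pow, htr] at e
      have e' : Algebra.trace F L (G ((t : V ≃ₗ[F] V) x') y) = 0 :=
        (algebraMap F L).injective (by rw [map_zero, ← e]; exact T.Gx'y)
      show Multiplicative.ofAdd (Algebra.trace F L (G ((t : V ≃ₗ[F] V) x') y)) = 1
      rw [e', ofAdd_zero]
  -- a rotation in the stabiliser
  set e' : K := ⟨g⁻¹ * e * g, H.mul_mem (H.mul_mem (H.inv_mem hg) heH) hg, by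
    show g.symm (e (g x)) = x
    rw [hev, g.symm_apply_apply]⟩ with he'
  have he'ℓ : e' ^ ℓ = 1 := Subtype.ext (by
    rw [SubmonoidClass.coe_pow, he']
    have := conj_pow (a := g⁻¹) (b := e) (i := ℓ)
    rw [inv_inv] at this
    rw [this, heℓ, mul_one, inv_mul_cancel]; rfl)
  have hpℓ : ¬ p = ℓ := by
    rintro rfl
    refine hq0 ((ZMod.natCast_eq_zero_iff _ _).mpr ?_)
    haveI := Fintype.ofFinite F
    obtain ⟨n, -, hn⟩ := FiniteField.card F p
    rw [Nat.card_eq_fintype_card, hn]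
    exact dvd_pow_self _ n.pos.ne'
  have he'ker : e' ∈ χ.ker := by
    have h := congrArg Multiplicative.toAdd (show χ e' ^ ℓ = 1 by rw [← map_pow, he'ℓ, map_one])
    rw [toAdd_pow, toAdd_one, nsmul_eq_mul, mul_eq_zero, CharP.cast_eq_zero_iff F p,
      Nat.prime_dvd_prime_iff_eq hp hℓ, or_iff_right hpℓ] at h
    exact toAdd_eq_zero.mp h
  have hpg : IsPGroup ℓ (Subgroup.zpowers (⟨e', he'ker⟩ : χ.ker)) := by
    rintro ⟨_, i, rfl⟩
    refine ⟨1, Subtype.ext (Subtype.ext ?_)⟩
    simp only [pow_one, SubmonoidClass.coe_pow, SubgroupClass.coe_zpow, OneMemClass.coe_one]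
    rw [← zpow_natCast, ← zpow_mul, mul_comm, zpow_mul, zpow_natCast, he'ℓ, one_zpow]
  obtain ⟨R, hR⟩ := hpg.exists_le_sylow
  set RA : Subgroup K := (R : Subgroup χ.ker).map χ.ker.subtype with hRA
  have he'R : e' ∈ RA := ⟨⟨e', he'ker⟩, hR (Subgroup.mem_zpowers _), rfl⟩
  set Ra : Subgroup (V ≃ₗ[F] V) := RA.map K.subtype with hRa
  -- its fixed space
  let C : Submodule F V :=
    { carrier := {z | ∀ a ∈ RA, (a : V ≃ₗ[F] V) z = z}
      zero_mem' := fun a _ => map_zero _
      add_mem' := fun {p q} hp hq a ha => by rw [map_add, hp a ha, hq a ha]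
      smul_mem' := fun t p hp a ha => by rw [map_smul, hp a ha] }
  let ι : L →ₗ[F] V := g.symm.toLinearMap ∘ₗ (LinearMap.toSpanSingleton L V (g x)).restrictScalars F
  have hι : ∀ a, ι a = g.symm (a • g x) := fun a => rfl
  have hgx0 : g x ≠ 0 := fun h => hx0 (g.injective (h.trans (map_zero g).symm))
  have hιinj : Function.Injective ι := g.symm.injective.comp (smul_left_injective L hgx0)
  have hCle : C ≤ LinearMap.range ι := by
    intro z hz
    have h := hz e' he'R
    have hez : e (g z) = g z := by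
      have h' : g.symm (e (g z)) = z := h
      rw [← g.apply_symm_apply (e (g z)), h']
    obtain ⟨z1, z2⟩ := hefix' _ hez
    refine ⟨G (g z) (g x) / G (g x) (g x), ?_⟩
    rw [hι, ← hspan _ z1 z2, g.symm_apply_apply]
  have hxC : x ∈ C := fun a _ => a.2.2
  have hcr : finrank F C = r := by
    have hc_le : finrank F C ≤ r := by
      refine (Submodule.finrank_mono hCle).trans ?_
      rw [LinearMap.finrank_range_of_inj hιinj]
    have hc_pos : 0 < finrank F C :=
      Module.finrank_pos_iff_exists_ne_zero.mpr ⟨⟨x, hxC⟩, fun h => hx0 (congrArg Subtype.val h)⟩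
    have hRp : IsPGroup ℓ Ra := (R.2.map _).map _
    have hmod := hRp.card_modEq_card_fixedPoints V
    have hfix : Nat.card (MulAction.fixedPoints Ra V) = Nat.card C := by
      refine Nat.card_congr (Equiv.setCongr (Set.ext fun z => ⟨fun hz a ha => hz ⟨_, a, ha, rfl⟩, ?_⟩))
      rintro hz ⟨_, a, ha, rfl⟩
      exact hz a ha
    rw [hfix, Module.natCard_eq_pow_finrank (K := F) (V := V), Module.natCard_eq_pow_finrank (K := F) (V := C),
      ← hO.card_dim, hm, ← hr, ← ZMod.natCast_eq_natCast_iff, Nat.cast_pow, Nat.cast_pow] at hmod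
    have hsplit : r * 3 = (r * 3 - finrank F C) + finrank F C := by omega
    rw [hsplit, pow_add] at hmod
    have hdvd := hord _ ((mul_eq_right₀ (pow_ne_zero _ hq0)).mp hmod)
    have : r ∣ finrank F C := by
      have := Nat.dvd_sub (dvd_mul_right r 3) hdvd
      rwa [show r * 3 - (r * 3 - finrank F C) = finrank F C by omega] at this
    exact le_antisymm hc_le (Nat.le_of_dvd hc_pos this)
  have hCeq : C = LinearMap.range ι :=
    Submodule.eq_of_le_of_finrank_eq hCle (by rw [hcr, LinearMap.finrank_range_of_inj hιinj])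
  -- a unipotent element normalising the subgroup
  have hfr := Sylow.normalizer_sup_eq_top R
  obtain ⟨nn, hnn, kk, hkk, hnk⟩ := Subgroup.mem_sup_of_normal_right.mp
    (show s ∈ Subgroup.normalizer ((R : Subgroup χ.ker).map χ.ker.subtype : Set K) ⊔ χ.ker by
      rw [hfr]; exact Subgroup.mem_top s)
  have hχn : χ nn ≠ 1 := by
    intro h
    apply hχs
    rw [← hnk, map_mul, h, hkk, one_mul]
  set m := orderOf nn / p ^ (orderOf nn).factorization p with hmdef
  have hpm : ¬ p ∣ m := Nat.not_dvd_ordCompl hp (orderOf_pos nn).ne'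
  set z := nn ^ m with hzdef
  have hzp : z ^ p ^ (orderOf nn).factorization p = 1 := by
    rw [hzdef, ← pow_mul, hmdef, Nat.div_mul_cancel (Nat.ordProj_dvd _ _), pow_orderOf_eq_one]
  have hχz : χ z ≠ 1 := by
    intro h
    rw [hzdef, map_pow] at h
    have h2 := congrArg Multiplicative.toAdd h
    rw [toAdd_pow, toAdd_one, nsmul_eq_mul, mul_eq_zero, CharP.cast_eq_zero_iff F p] at h2
    exact hχn (toAdd_eq_zero.mp (h2.resolve_left hpm))
  have hzpg : IsPGroup p (Subgroup.zpowers z) := by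
    rintro ⟨_, i, rfl⟩
    refine ⟨(orderOf nn).factorization p, Subtype.ext ?_⟩
    simp only [SubmonoidClass.coe_pow, OneMemClass.coe_one]
    rw [← zpow_natCast, ← zpow_mul, mul_comm, zpow_mul, zpow_natCast, hzp, one_zpow]
  obtain ⟨P', hP'⟩ := hzpg.exists_le_sylow
  obtain ⟨k, hk⟩ := MulAction.exists_smul_eq K P' P
  have hhP : k * z * k⁻¹ ∈ (P : Subgroup K) := by
    rw [← hk]
    exact ⟨z, hP' (Subgroup.mem_zpowers z), rfl⟩
  set h := k * z * k⁻¹ with hh
  have hχh : χ h ≠ 1 := by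
    rwa [hh, map_mul, map_mul, mul_comm (χ k), map_inv, mul_inv_cancel_right]
  obtain ⟨σ, hσ⟩ := (show Semi L (h : V ≃ₗ[F] V) from (hPN hhP).2).exists_aut hx0
  obtain ⟨j, hjlin, hj1⟩ : ∃ j : ℕ, IsLin L ((h ^ j : K) : V ≃ₗ[F] V) ∧ h ^ j ≠ 1 := by
    by_cases hσ1 : σ = 1
    · exact ⟨1, fun a z => by rw [pow_one, hσ, hσ1, AlgEquiv.one_apply], fun e => hχh (by
        rw [pow_one] at e; rw [e, map_one])⟩
    · refine ⟨r, fun a z => ?_, fun e => hχh (hvanish h σ hσ hσ1 e)⟩
      rw [SubmonoidClass.coe_pow, Frame3.pow_semi hσ, hr, T.pow_aut_r σ, AlgEquiv.one_apply]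
  set q := h ^ j with hq
  obtain ⟨c, -, hD1, hD2, hD3, hD4, hD5⟩ := T.lin_data q.2.1 q.2.2 hjlin
  have hc : c ≠ 0 := fun h => hj1 (Subtype.ext (hD4 h))
  set w : K := z ^ j with hw
  have hqw : q * k = k * w := by
    rw [hq, hh, conj_pow, hw]; group
  have hqwz : ∀ u, (q : V ≃ₗ[F] V) ((k : V ≃ₗ[F] V) u) = (k : V ≃ₗ[F] V) ((w : V ≃ₗ[F] V) u) := fun u =>
    LinearEquiv.congr_fun (congrArg Subtype.val hqw) u
  have hnorm : w ∈ Subgroup.normalizer (RA : Set K) := Subgroup.pow_mem _ (Subgroup.pow_mem _ hnn m) j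
  have hinv : ∀ a ∈ Subgroup.normalizer (RA : Set K), ∀ u ∈ C, (a : V ≃ₗ[F] V) u ∈ C := by
    intro a ha u hu b hb
    have hconj : a⁻¹ * b * a ∈ RA := by
      have := (Subgroup.mem_normalizer_iff.mp (Subgroup.inv_mem _ ha) b).mp hb
      rwa [inv_inv] at this
    have e1 : b * a = a * (a⁻¹ * b * a) := by group
    have e2 := LinearEquiv.congr_fun (congrArg Subtype.val e1) u
    exact e2.trans (congrArg (a : V ≃ₗ[F] V) (hu _ hconj))
  have hkerw : LinearMap.ker ((w : V ≃ₗ[F] V).toLinearMap - LinearMap.id) =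
      LinearMap.range (((w : V ≃ₗ[F] V).toLinearMap - LinearMap.id) ∘ₗ ((w : V ≃ₗ[F] V).toLinearMap - LinearMap.id)) := by
    set D := ((w : V ≃ₗ[F] V)).toLinearMap - LinearMap.id with hD
    have hDq : ∀ u, (k : V ≃ₗ[F] V) (D u) = (q : V ≃ₗ[F] V) ((k : V ≃ₗ[F] V) u) - (k : V ≃ₗ[F] V) u := fun u => by
      show (k : V ≃ₗ[F] V) ((w : V ≃ₗ[F] V) u - u) = _
      rw [map_sub, hqwz]
    ext u
    constructor
    · intro hu
      rw [LinearMap.mem_ker] at hu
      have h1 := hDq u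
      rw [hu, map_zero] at h1
      obtain ⟨a, ha⟩ := hD5 hc _ (sub_eq_zero.mp h1.symm)
      refine ⟨((k : V ≃ₗ[F] V)).symm (-(a * algebraMap F L γ / (c * c)) • x'), ?_⟩
      apply (k : V ≃ₗ[F] V).injective
      rw [LinearMap.comp_apply, hDq, hDq, LinearEquiv.apply_symm_apply, hD3 _ (hD1 _), ha]
      congr 1
      simp only [map_smul, LinearMap.smul_apply, T.fr.pair', smul_eq_mul, mul_one]
      field_simp [T.gL]
    · rintro ⟨v, rfl⟩
      rw [LinearMap.mem_ker]
      apply (k : V ≃ₗ[F] V).injective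
      rw [map_zero, hDq, LinearMap.comp_apply, hDq, hDq]
      exact T.cube_zero q.2.1 q.2.2 hjlin _
  by_cases hr3eq : r = 3
  · have hC : ∀ c : L, ι c ∈ C := fun c => hCeq ▸ ⟨c, rfl⟩
    have hfixR : ∀ b ∈ RA, ∀ c : L, (b : V ≃ₗ[F] V) (g.symm (c • g x)) = g.symm (c • g x) := fun b hb c => hC c b hb
    have hline : ∀ a ∈ Subgroup.normalizer (RA : Set K), ∀ c : L, ∃ c' : L,
        g ((a : V ≃ₗ[F] V) (g.symm (c • g x))) = c' • g x := by
      intro a ha c
      have h := hinv a ha _ (hC c)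
      rw [hCeq] at h
      obtain ⟨c', hc'⟩ := h
      refine ⟨c', ?_⟩
      rw [show (a : V ≃ₗ[F] V) (g.symm (c • g x)) = g.symm (c' • g x) from hc'.symm, g.apply_symm_apply]
    set Rg : Subgroup (V ≃ₗ[F] V) := Ra.map (MulAut.conj g).toMonoidHom with hRg
    have hRgH : Rg ≤ H := by
      rintro _ ⟨_, ⟨b, -, rfl⟩, rfl⟩
      exact H.mul_mem (H.mul_mem hg b.2.1) (H.inv_mem hg)
    have hRgfix : ∀ d ∈ Rg, ∀ c : L, d (c • g x) = c • g x := by
      rintro _ ⟨_, ⟨b, hb, rfl⟩, rfl⟩ c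
      show g ((b : V ≃ₗ[F] V) (g.symm (c • g x))) = _
      rw [hfixR b hb, g.apply_symm_apply]
    have heRg : e ∈ Rg := ⟨_, ⟨e', he'R, rfl⟩, by
      show g * (g⁻¹ * e * g) * g⁻¹ = e
      group⟩
    set wg := g * (w : V ≃ₗ[F] V) * g⁻¹ with hwg
    have hwR : ∀ a ∈ Subgroup.normalizer (RA : Set K), ∀ d ∈ Rg,
        g * (a : V ≃ₗ[F] V) * g⁻¹ * d * (g * (a : V ≃ₗ[F] V) * g⁻¹)⁻¹ ∈ Rg := by
      rintro a ha _ ⟨_, ⟨b, hb, rfl⟩, rfl⟩
      refine ⟨_, ⟨a * b * a⁻¹, (Subgroup.mem_normalizer_iff.mp ha b).mp hb, rfl⟩, ?_⟩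
      show g * ((a * b * a⁻¹ : K) : V ≃ₗ[F] V) * g⁻¹ = _ * (g * (b : V ≃ₗ[F] V) * g⁻¹) * _
      simp only [Subgroup.coe_mul, InvMemClass.coe_inv]
      group
    have hwinv : (g * (w : V ≃ₗ[F] V) * g⁻¹)⁻¹ = g * ((w⁻¹ : K) : V ≃ₗ[F] V) * g⁻¹ := by
      simp only [InvMemClass.coe_inv]
      group
    have hgx : ∀ z, G z (g x) = 0 → e z = z → z = 0 := by
      intro z hz hez
      obtain ⟨z1, z2⟩ := hefix' z hez
      rw [hspan z z1 z2, hz, zero_div, zero_smul]
    have hsum : ∀ z, G z (g x) = 0 → e z + (e⁻¹ : V ≃ₗ[F] V) z = a • z := by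
      intro z hz
      have hz' : z = (G z u1 / G u1 u1) • u1 + (G z u2 / G u2 u2) • u2 := by
        have hd := hspan (z - (G z u1 / G u1 u1) • u1 - (G z u2 / G u2 u2) • u2)
          (by simp [h1, hO.sG.symm u2 u1, h12]) (by simp [h2, h12])
        have h0 : G (z - (G z u1 / G u1 u1) • u1 - (G z u2 / G u2 u2) • u2) (g x) = 0 := by
          simp [hz, hO.sG.symm u1 (g x), hO.sG.symm u2 (g x), hvu1, hvu2]
        rw [h0, zero_div, zero_smul, sub_sub, sub_eq_zero] at hd
        exact hd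
      have hinvlin : IsLin L (e⁻¹ : V ≃ₗ[F] V) := fun c w => by
        apply e.injective
        rw [helin]
        exact (e.apply_symm_apply _).trans (congrArg (c • ·) (e.apply_symm_apply w).symm)
      rw [hz', map_add e, map_add, helin, helin, hinvlin, hinvlin, smul_add, smul_comm a, smul_comm a, ← hs1, ← hs2,
        smul_add, smul_add]
      abel
    have D : RotData G f H (g x) u1 e a ℓ :=
      { ov := hO, dim := hm, rge := hr3, aniso := hv
        perp := by rw [hO.sG.symm]; exact hvu1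
        uaniso := h1, mem := heH, lin := helin
        fixLine := fun c => by rw [helin, hev]
        fixW := hgx, sum := hsum, prime := hℓ, hq0 := hq0, hord := hord, pow := heℓ }
    have hwline : ∀ b ∈ Subgroup.normalizer (RA : Set K), ∀ c : L, ∃ c' : L,
        (g * (b : V ≃ₗ[F] V) * g⁻¹) (c • g x) = c' • g x := hline
    have hwp : wg ^ p ^ (orderOf nn).factorization p = 1 := by
      rw [hwg, conj_pow, ← SubmonoidClass.coe_pow, hw, ← pow_mul, mul_comm j, pow_mul, hzp, one_pow,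
        OneMemClass.coe_one, mul_one, mul_inv_cancel]
    refine D.no_normalizer hRgH (((R.2.map _).map _).map _) heRg hRgfix
      (H.mul_mem (H.mul_mem hg w.2.1) (H.inv_mem hg)) (hwline w hnorm) ?_ (hwR w hnorm) ?_ hwp ?_ ?_
    · intro c
      rw [hwinv]
      exact hwline _ (Subgroup.inv_mem _ hnorm) c
    · intro d hd
      have := hwR _ (Subgroup.inv_mem _ hnorm) d hd
      rw [← hwinv] at this
      rwa [inv_inv] at this
    · refine Nat.Coprime.pow_left _ ((Nat.coprime_primes hp hO.prime).mpr fun h => h33 ⟨hr3eq, ?_⟩)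
      exact h.trans hr3eq
    · have hker := hkerw
      set D0 := (w : V ≃ₗ[F] V).toLinearMap - LinearMap.id
      have hDg : ∀ z, (wg.toLinearMap - LinearMap.id : V →ₗ[F] V) z = g (D0 (g.symm z)) := fun z => by
        show g ((w : V ≃ₗ[F] V) (g.symm z)) - z = g ((w : V ≃ₗ[F] V) (g.symm z) - g.symm z)
        rw [map_sub, g.apply_symm_apply]
      ext z
      rw [LinearMap.mem_ker, hDg, map_eq_zero_iff g g.injective, ← LinearMap.mem_ker, hker]
      constructor
      · rintro ⟨t, ht⟩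
        refine ⟨g t, ?_⟩
        rw [LinearMap.comp_apply, hDg, hDg, g.symm_apply_apply, g.symm_apply_apply, ← LinearMap.comp_apply, ht,
          g.apply_symm_apply]
      · rintro ⟨t, rfl⟩
        refine ⟨g.symm t, ?_⟩
        rw [LinearMap.comp_apply, LinearMap.comp_apply, hDg, hDg, g.symm_apply_apply, g.symm_apply_apply]
  have hdvd : 3 ∣ finrank F C := by
    refine three_dvd_of_blocks f C (fun u => ?_) (fun u hu h0 => ?_) (w : V ≃ₗ[F] V) (hO.isom _ w.2.1)
      (hinv w hnorm) (hinv w⁻¹ (Subgroup.inv_mem _ hnorm)) ?_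
    · refine ⟨ι (G (g u) (g x) / G (g x) (g x)), hCeq ▸ ⟨_, rfl⟩, fun u' hu' => ?_⟩
      rw [hCeq] at hu'
      obtain ⟨a, rfl⟩ := hu'
      rw [hι, hι, ← hO.isom g hg, map_sub g, g.apply_symm_apply, g.apply_symm_apply, hO.trace]
      simp [hv]
    · rw [hCeq] at hu
      obtain ⟨a, rfl⟩ := hu
      suffices a = 0 by rw [this, map_zero]
      refine (mul_eq_zero.mp (eq_of_trace (F := F) (x := a * G (g x) (g x)) (y := 0) fun b => ?_)).resolve_right hv
      have h' := h0 (ι b) (hCeq ▸ ⟨b, rfl⟩)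
      rw [hι, hι, ← hO.isom g hg, g.apply_symm_apply, g.apply_symm_apply, hO.trace] at h'
      simp only [map_smul G, LinearMap.smul_apply, map_smul, smul_eq_mul] at h'
      rw [mul_zero, map_zero, ← h']
    · exact hkerw
  rw [hcr] at hdvd
  exact hr3eq ((Nat.prime_dvd_prime_iff_eq Nat.prime_three hO.prime).mp hdvd).symm

end Cfsg.Lib.Classical.ExtFieldOrth
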