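import Cfsg.Agent.Classical.ExtFieldOrth.Conj

/-! The semilinear part of the stabiliser of a singular vector in dimension three. -/

set_option autoImplicit false
set_option linter.unusedSectionVars false

namespace Cfsg.Lib.Classical.ExtFieldOrth

open Module Cfsg.Lib.Classical

variable {F L V : Type*} [Field F] [Finite F] [Field L] [Algebra F L] [FiniteDimensional F L]
  [AddCommGroup V] [Module F V] [Module L V] [IsScalarTower F L V] [FiniteDimensional F V]

variable {G : LinearMap.BilinForm L V} {f : LinearMap.BilinForm F V} {H : Subgroup (V ≃ₗ[F] V)} {x x' : V}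

variable (L) in
/-- A frame in dimension three, with the middle vector of norm in the base field. -/
structure Frame3 (G : LinearMap.BilinForm L V) (f : LinearMap.BilinForm F V) (H : Subgroup (V ≃ₗ[F] V))
    (x x' y : V) (γ : F) : Prop where
  fr : Frame L G f H x x'
  inW : G y x = 0 ∧ G y x' = 0
  norm_eq : G y y = algebraMap F L γ
  gne : γ ≠ 0
  odd : Odd (finrank F L)
  span_eq : ∀ z, z = G z x' • x + (G z y / algebraMap F L γ) • y + G z x • x'

theorem Over.exists_frame3 (hO : Over L G f H) (hm : finrank L V = 3) (hx0 : x ≠ 0) (hx : G x x = 0) :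
    ∃ x' y γ, Frame3 L G f H x x' y γ := by
  classical
  have := hO.finV
  obtain ⟨x', hx', hxx'⟩ := hO.sG.exists_partner hx0 hx
  have T : Frame L G f H x x' := ⟨hO, hx, hx', hxx'⟩
  obtain ⟨w, hw, hww⟩ := T.exists_aniso
  have hodd : Odd (finrank F L) := hO.prime.odd_of_ne_two (fun h => by have := hO.five_le h; omega)
  obtain ⟨b, e, hbe, hne⟩ := exists_sq_mul hO.two hodd (G w w)
  obtain ⟨hb, he⟩ := hne hww
  have hy : T.InW (e⁻¹ • w) := T.inW_smul hw _
  have hyy : G (e⁻¹ • w) (e⁻¹ • w) = algebraMap F L b := by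
    simp only [map_smul, LinearMap.smul_apply, smul_eq_mul, hbe]
    field_simp
  set y := e⁻¹ • w
  have hb' : algebraMap F L b ≠ 0 := by simpa using hb
  have hxy : G x y = 0 := by rw [hO.sG.symm]; exact hy.1
  have hx'y : G x' y = 0 := by rw [hO.sG.symm]; exact hy.2
  refine ⟨x', y, b, T, hy, hyy, hb, hodd, ?_⟩
  have hli : LinearIndependent L ![x, y, x'] := Fintype.linearIndependent_iff.mpr fun c hc => by
    rw [Fin.sum_univ_three] at hc
    simp only [Matrix.cons_val_zero, Matrix.cons_val_one, Matrix.cons_val_two, Matrix.cons_val, Matrix.head_cons,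
      Matrix.tail_cons] at hc
    have h0 := congrArg (fun z => G z x') hc
    have h1 := congrArg (fun z => G z y) hc
    have h2 := congrArg (fun z => G z x) hc
    simp [hxx', hy.2, hx', hxy, hx'y, hyy, hb, hx, hy.1, T.pair'] at h0 h1 h2
    intro i
    fin_cases i <;> assumption
  have htop := hli.span_eq_top_of_card_eq_finrank (by simp [hm])
  intro z
  obtain ⟨c, hc⟩ := (Submodule.mem_span_range_iff_exists_fun L).mp
    (show z ∈ Submodule.span L (Set.range ![x, y, x']) by rw [htop]; exact Submodule.mem_top)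
  rw [Fin.sum_univ_three] at hc
  simp only [Matrix.cons_val_zero, Matrix.cons_val_one, Matrix.cons_val_two, Matrix.cons_val, Matrix.head_cons,
    Matrix.tail_cons] at hc
  subst hc
  simp [hxx', hy.2, hx', hxy, hx'y, hyy, hb', hx, hy.1, T.pair']

namespace Frame3

variable {y : V} {γ : F}

theorem gL (T : Frame3 L G f H x x' y γ) : algebraMap F L γ ≠ 0 := by simpa using T.gne

theorem Gxy (T : Frame3 L G f H x x' y γ) : G x y = 0 := by rw [T.fr.ov.sG.symm]; exact T.inW.1

theorem Gx'y (T : Frame3 L G f H x x' y γ) : G x' y = 0 := by rw [T.fr.ov.sG.symm]; exact T.inW.2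

theorem Gxne (T : Frame3 L G f H x x' y γ) : G y y ≠ 0 := by rw [T.norm_eq]; exact T.gL

theorem pow_semi {h : V ≃ₗ[F] V} {σ : L ≃ₐ[F] L} (hσ : ∀ (a : L) z, h (a • z) = σ a • h z) :
    ∀ (n : ℕ) (a : L) z, (h ^ n) (a • z) = (σ ^ n : L ≃ₐ[F] L) a • (h ^ n) z := by
  intro n
  induction n with
  | zero => intros; rfl
  | succ n ih => intro a z; rw [pow_succ', pow_succ', LinearEquiv.mul_apply, ih, hσ]; rfl

theorem pow_aut_r (T : Frame3 L G f H x x' y γ) (σ : L ≃ₐ[F] L) : σ ^ finrank F L = 1 := by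
  have h : σ ^ Nat.card (L ≃ₐ[F] L) = 1 := pow_card_eq_one'
  rwa [card_aut (F := F) (L := L)] at h

/-- Semilinear elements fixing `x` in coordinates. -/
theorem data (T : Frame3 L G f H x x' y γ) {h : V ≃ₗ[F] V} (hh : h ∈ H) (hx : h x = x) {σ : L ≃ₐ[F] L}
    (hσ : ∀ (a : L) z, h (a • z) = σ a • h z) :
    (∀ z, G (h z) x = σ (G z x)) ∧ G (h y) y = algebraMap F L γ ∧
      ∀ z, G (h z) y = σ (G z y) + σ (G z x) * G (h x') y := by
  classical
  have hform := T.fr.ov.semi_form hh hσ
  have hGx : ∀ z, G (h z) x = σ (G z x) := fun z => by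
    conv_lhs => rw [← hx, hform]
  set g := algebraMap F L γ with hg
  have hg0 : g ≠ 0 := T.gL
  have hσg : σ g = g := σ.commutes γ
  obtain ⟨b, hb⟩ : ∃ b, b = G (h y) y / g := ⟨_, rfl⟩
  have hby : G (h y) y = b * g := by rw [hb, div_mul_cancel₀ _ hg0]
  have hGy : ∀ z, G (h z) y = σ (G z y) * b + σ (G z x) * G (h x') y := fun z => by
    conv_lhs => rw [T.span_eq z, map_add h, map_add h, hσ, hσ, hσ, hx]
    simp only [map_add, map_smul, LinearMap.add_apply, LinearMap.smul_apply, smul_eq_mul, T.Gxy, hby, map_div₀,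
      ← hg, hσg]
    field_simp
    ring
  suffices hb1 : b = 1 by
    refine ⟨hGx, by rw [hby, hb1, one_mul], fun z => ?_⟩
    rw [hGy, hb1, mul_one]
  have hbb : b * b = 1 := by
    have e := hform y y
    conv_lhs at e => rw [T.span_eq (h y), hGx, T.inW.1, map_zero, zero_smul, add_zero]
    simp only [map_add, map_smul, LinearMap.add_apply, LinearMap.smul_apply, smul_eq_mul, T.fr.sx, T.Gxy, T.inW.1,
      T.norm_eq, ← hg, hσg, hby, mul_zero, zero_add] at e
    field_simp at e
    linear_combination e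
  rcases mul_self_eq_one_iff.mp hbb with hb1 | hb1
  · exact hb1
  exfalso
  set q := h ^ finrank F L with hq
  have hqlin : IsLin L q := fun a z => by
    rw [hq, pow_semi hσ, T.pow_aut_r σ, AlgEquiv.one_apply]
  have hpow : ∀ n : ℕ, (h ^ n) x = x ∧ (∀ z, G ((h ^ n) z) x = (σ ^ n : L ≃ₐ[F] L) (G z x)) ∧
      G ((h ^ n) y) y = (-1) ^ n * g := by
    intro n
    induction n with
    | zero => exact ⟨rfl, fun z => rfl, by simp [T.norm_eq, ← hg]⟩
    | succ n ih =>
      obtain ⟨h1, h2, h3⟩ := ih
      refine ⟨by rw [pow_succ', LinearEquiv.mul_apply, h1, hx],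
        fun z => by rw [pow_succ', LinearEquiv.mul_apply, hGx, h2, pow_succ', AlgEquiv.mul_apply], ?_⟩
      rw [pow_succ', LinearEquiv.mul_apply, hGy, h3, h2, T.inW.1, map_zero, map_zero, zero_mul, add_zero, map_mul σ,
        map_pow, map_neg, map_one, hσg, hb1, pow_succ']
      ring
  obtain ⟨hqx, hqGx, hqy⟩ := hpow (finrank F L)
  rw [← hq] at hqx hqGx hqy
  rw [T.odd.neg_one_pow] at hqy
  simp only [T.pow_aut_r σ, AlgEquiv.one_apply] at hqGx
  let e : V ≃ₗ[L] (Fin 3 → L) :=
    { toFun := fun z => ![G z x', G z y / g, G z x]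
      map_add' := fun a b => by
        funext i; fin_cases i <;> simp [add_div]
      map_smul' := fun a z => by
        funext i; fin_cases i <;> simp [mul_div_assoc]
      invFun := fun c => c 0 • x + c 1 • y + c 2 • x'
      left_inv := fun z => (T.span_eq z).symm
      right_inv := fun c => by
        funext i
        fin_cases i <;> simp [T.fr.pair, T.fr.pair', T.fr.sx, T.fr.sx', T.inW.1, T.inW.2, T.Gxy, T.Gx'y, T.norm_eq,
          ← hg, hg0] }
  let B := Basis.ofEquivFun e
  let Q : V →ₗ[L] V := { toFun := q, map_add' := map_add q, map_smul' := hqlin }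
  have hB : ∀ i z, B.repr z i = e z i := fun i z => by simp [B]
  have he : ∀ z, e z = ![G z x', G z y / g, G z x] := fun z => rfl
  have hes : ∀ c, e.symm c = c 0 • x + c 1 • y + c 2 • x' := fun c => rfl
  have hQ : ∀ z, Q z = q z := fun z => rfl
  have hB0 : B 0 = x := by simp [B, Basis.coe_ofEquivFun, hes]
  have hB1 : B 1 = y := by simp [B, Basis.coe_ofEquivFun, hes]
  have hB2 : B 2 = x' := by simp [B, Basis.coe_ofEquivFun, hes]
  have hdetL : LinearMap.det Q = -1 := by
    rw [← LinearMap.det_toMatrix B, Matrix.det_fin_three]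
    simp only [LinearMap.toMatrix_apply, hB, hB0, hB1]
    have e00 : e (Q x) 0 = 1 := by simp [he, hQ, hqx, T.fr.pair]
    have e10 : e (Q x) 1 = 0 := by simp [he, hQ, hqx, T.Gxy]
    have e20 : e (Q x) 2 = 0 := by simp [he, hQ, hqx, T.fr.sx]
    have e11 : e (Q y) 1 = -1 := by simp [he, hQ, hqy, hg0]
    have e21 : e (Q y) 2 = 0 := by simp [he, hQ, hqGx, T.inW.1]
    have e22 : e (Q (B 2)) 2 = 1 := by simp [he, hQ, hB2, hqGx, T.fr.pair']
    rw [e00, e10, e20, e11, e21, e22]
    ring
  have hdetF := T.fr.ov.det_eq q (Subgroup.pow_mem H hh _)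
  rw [show (q : V →ₗ[F] V) = Q.restrictScalars F from rfl, LinearMap.det_restrictScalars, hdetL,
    show (-1 : L) = algebraMap F L (-1) by rw [map_neg, map_one], Algebra.norm_algebraMap, T.odd.neg_one_pow] at hdetF
  exact T.fr.ov.two (by linear_combination -hdetF)

/-- The powers. -/
theorem pow_data (T : Frame3 L G f H x x' y γ) {h : V ≃ₗ[F] V} (hh : h ∈ H) (hx : h x = x) {σ : L ≃ₐ[F] L}
    (hσ : ∀ (a : L) z, h (a • z) = σ a • h z) :
    ∀ n : ℕ, G ((h ^ n) x') y = ∑ i ∈ Finset.range n, (σ ^ i : L ≃ₐ[F] L) (G (h x') y) := by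
  obtain ⟨hGx, -, hGy⟩ := T.data hh hx hσ
  intro n
  induction n with
  | zero => simp [T.Gx'y]
  | succ n ih =>
    have h1 : G ((h ^ n) x') x = 1 := by
      induction n with
      | zero => exact T.fr.pair'
      | succ m ihm =>
        clear ih
        have : ∀ m : ℕ, G ((h ^ m) x') x = 1 := fun m => by
          induction m with
          | zero => exact T.fr.pair'
          | succ m ihm => rw [pow_succ', LinearEquiv.mul_apply, hGx, ihm, map_one]
        exact this _
    rw [pow_succ', LinearEquiv.mul_apply, hGy, ih, h1, map_one, one_mul, Finset.sum_range_succ', map_sum]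
    refine congrArg₂ (· + ·) (Finset.sum_congr rfl fun i _ => ?_) (by simp)
    rw [pow_succ', AlgEquiv.mul_apply]

/-- When the automorphism is nontrivial, the `r`-th power carries the trace. -/
theorem pow_r_trace (T : Frame3 L G f H x x' y γ) {h : V ≃ₗ[F] V} (hh : h ∈ H) (hx : h x = x) {σ : L ≃ₐ[F] L}
    (hσ : ∀ (a : L) z, h (a • z) = σ a • h z) (hne : σ ≠ 1) :
    G ((h ^ finrank F L) x') y = algebraMap F L (Algebra.trace F L (G (h x') y)) := by
  classical
  rw [T.pow_data hh hx hσ, trace_eq_sum]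
  haveI : Fact (finrank F L).Prime := ⟨T.fr.ov.prime⟩
  have hord : orderOf σ = finrank F L := orderOf_eq_prime (T.pow_aut_r σ) hne
  refine Finset.sum_nbij (fun i => σ ^ i) (fun i _ => Finset.mem_univ _) (fun i hi j hj hij => ?_) (fun τ _ => ?_)
    fun i _ => rfl
  · exact pow_injOn_Iio_orderOf (by simpa [hord] using hi) (by simpa [hord] using hj) hij
  · obtain ⟨i, rfl⟩ := aut_eq_pow T.fr.ov.prime hne τ
    exact ⟨i % finrank F L, by simp [Nat.mod_lt _ T.fr.ov.prime.pos], by rw [← hord]; exact pow_mod_orderOf σ i⟩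

/-- A linear element fixing `x`: its displacement is a nilpotent Jordan block. -/
theorem lin_data (T : Frame3 L G f H x x' y γ) {q : V ≃ₗ[F] V} (hq : q ∈ H) (hx : q x = x) (hlin : IsLin L q) :
    ∃ c : L, c = G (q x') y ∧ (∀ z, G (q z - z) x = 0) ∧ (∀ z, G (q z - z) y = G z x * c) ∧
      (∀ z, G (q z - z) x = 0 → q (q z - z) - (q z - z) = (-(G z x * c * c / algebraMap F L γ)) • x) ∧
      (c = 0 → q = 1) ∧ (c ≠ 0 → ∀ z, q z = z → ∃ a : L, z = a • x) := by
  obtain ⟨hGx, hyy, hGy⟩ := T.data hq hx (σ := 1) fun a z => hlin a z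
  simp only [AlgEquiv.one_apply] at hGx hGy
  set c := G (q x') y with hc
  set g := algebraMap F L γ with hg
  have hg0 : g ≠ 0 := T.gL
  have hform := T.fr.ov.semi_form hq (σ := 1) fun a z => hlin a z
  simp only [AlgEquiv.one_apply] at hform
  set d := G (q y) x' with hd
  have hqy : q y = d • x + y := by
    conv_lhs => rw [T.span_eq (q y), hyy, hGx, T.inW.1, ← hd, ← hg, div_self hg0, one_smul, zero_smul, add_zero]
  set e := G (q x') x' with he
  have hqx' : q x' = e • x + (c / g) • y + x' := by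
    conv_lhs => rw [T.span_eq (q x'), hGx, T.fr.pair', one_smul, ← he, ← hc, ← hg]
  have hdc : d = -c := by
    have h := hform y x'
    rw [hqy, hqx'] at h
    simp only [map_add, map_smul, LinearMap.add_apply, LinearMap.smul_apply, smul_eq_mul, T.fr.sx, T.fr.pair,
      T.inW.1, T.inW.2, T.Gxy, T.norm_eq, ← hg, mul_zero, zero_add, add_zero, mul_one] at h
    field_simp at h
    linear_combination h
  have hee : 2 * e + c * c / g = 0 := by
    have h := hform x' x'
    rw [hqx'] at h
    simp only [map_add, map_smul, LinearMap.add_apply, LinearMap.smul_apply, smul_eq_mul, T.fr.sx, T.fr.sx', T.fr.pair,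
      T.fr.pair', T.inW.1, T.inW.2, T.Gxy, T.Gx'y, T.norm_eq, ← hg, mul_zero, zero_add, add_zero, mul_one] at h
    field_simp at h ⊢
    linear_combination h
  have hqz : ∀ z, q z = z + (G z y / g * d + G z x * e) • x + (G z x * c / g) • y := by
    intro z
    conv_lhs => rw [T.span_eq z, map_add q, map_add q, hlin, hlin, hlin, hx, hqy, hqx', ← hg]
    conv_rhs => rw [T.span_eq z, ← hg]
    simp only [map_add, map_smul, LinearMap.add_apply, LinearMap.smul_apply, smul_eq_mul, T.fr.sx, T.fr.pair',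
      T.inW.1, T.Gxy, T.Gx'y, T.norm_eq, ← hg, mul_zero, zero_add, add_zero, mul_one]
    match_scalars <;> field_simp <;> ring
  refine ⟨c, rfl, fun z => ?_, fun z => ?_, fun z _ => ?_, fun hc0 => ?_, fun hc0 z hz => ?_⟩
  · rw [map_sub, LinearMap.sub_apply, hGx, sub_self]
  · rw [map_sub, LinearMap.sub_apply, hGy, add_sub_cancel_left]
  · rw [hqz (q z - z)]
    rw [show G (q z - z) x = 0 by rw [map_sub, LinearMap.sub_apply, hGx, sub_self],
      show G (q z - z) y = G z x * c by rw [map_sub, LinearMap.sub_apply, hGy, add_sub_cancel_left], hdc]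
    match_scalars <;> field_simp <;> ring
  · refine LinearEquiv.ext fun z => ?_
    have he0 : e = 0 := by
      rw [hc0, zero_mul, zero_div, add_zero, mul_eq_zero] at hee
      exact hee.resolve_left T.fr.ov.sG.two
    rw [hqz, hdc, he0, hc0]
    simp
  · have h1 : G z x * c = 0 := by
      have h := hGy z
      rw [hz] at h
      linear_combination -h
    have hzx : G z x = 0 := (mul_eq_zero.mp h1).resolve_right hc0
    have h2 := hqz z
    rw [hz, hzx, zero_mul, zero_mul, zero_div, zero_smul, add_zero, add_zero, left_eq_add, hdc, smul_eq_zero,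
      or_iff_left T.fr.x_ne, mul_eq_zero, div_eq_zero_iff, or_iff_left hg0,
      or_iff_left (neg_ne_zero.mpr hc0)] at h2
    refine ⟨G z x', ?_⟩
    conv_lhs => rw [T.span_eq z, h2, hzx, zero_div, zero_smul, zero_smul, add_zero, add_zero]

theorem cube_zero (T : Frame3 L G f H x x' y γ) {q : V ≃ₗ[F] V} (hq : q ∈ H) (hx : q x = x) (hlin : IsLin L q)
    (z : V) : q (q (q z - z) - (q z - z)) - (q (q z - z) - (q z - z)) = 0 := by
  obtain ⟨c, -, h1, -, h3, -, -⟩ := T.lin_data hq hx hlin
  rw [h3 z (h1 z), hlin, hx, sub_self]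

end Frame3

end Cfsg.Lib.Classical.ExtFieldOrth
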