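import Cfsg.Agent.Classical.ExtFieldOrth.Frame

/-! All coefficient maps force all Siegel maps of the form over the base field. -/

set_option autoImplicit false
set_option linter.unusedSectionVars false

namespace Cfsg.Lib.Classical.ExtFieldOrth

open Module Cfsg.Lib.Classical

variable {F L V : Type*} [Field F] [Finite F] [Field L] [Algebra F L] [FiniteDimensional F L]
  [AddCommGroup V] [Module F V] [Module L V] [IsScalarTower F L V] [FiniteDimensional F V]

variable {G : LinearMap.BilinForm L V} {f : LinearMap.BilinForm F V} {H : Subgroup (V ≃ₗ[F] V)} {x x' : V}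

/-- The Siegel map of `f` lies in `H`. -/
def Has (f : LinearMap.BilinForm F V) (H : Subgroup (V ≃ₗ[F] V)) (u z : V) : Prop :=
  ∃ h ∈ H, ∀ v, h v = sg f u z v

/-- All Siegel maps along `u` lie in `H`. -/
def Centre (f : LinearMap.BilinForm F V) (H : Subgroup (V ≃ₗ[F] V)) (u : V) : Prop :=
  ∀ z, f u z = 0 → Has f H u z

theorem Over.has_add (hO : Over L G f H) {u z z' : V} (hu : f u u = 0) (hz : f u z = 0) (hz' : f u z' = 0)
    (h : Has f H u z) (h' : Has f H u z') : Has f H u (z + z') := by
  obtain ⟨a, ha, ea⟩ := h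
  obtain ⟨b, hb, eb⟩ := h'
  exact ⟨a * b, H.mul_mem ha hb, fun v => by rw [LinearEquiv.mul_apply, eb, ea, sg_sg hO.sf hu hz hz']⟩

theorem Over.has_neg (hO : Over L G f H) {u z : V} (hu : f u u = 0) (hz : f u z = 0)
    (h : Has f H u z) : Has f H u (-z) := by
  obtain ⟨a, ha, ea⟩ := h
  refine ⟨a⁻¹, H.inv_mem ha, fun v => ?_⟩
  show a.symm v = _
  rw [LinearEquiv.symm_apply_eq, ea, sg_sg hO.sf hu hz (by rw [map_neg, hz, neg_zero]), add_neg_cancel, sg_zero hO.sf]

theorem Over.has_conj (hO : Over L G f H) {g : V ≃ₗ[F] V} (hg : g ∈ H) {u z : V} (h : Has f H u z) :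
    Has f H (g u) (g z) := by
  obtain ⟨a, ha, ea⟩ := h
  refine ⟨g * a * g⁻¹, H.mul_mem (H.mul_mem hg ha) (H.inv_mem hg), fun v => ?_⟩
  obtain ⟨w, rfl⟩ := g.surjective v
  rw [LinearEquiv.mul_apply, LinearEquiv.mul_apply, show (g⁻¹ : V ≃ₗ[F] V) (g w) = w from g.symm_apply_apply w, ea]
  simp only [sg, map_add, map_sub, map_smul, hO.isom g hg]

theorem Over.centre_conj (hO : Over L G f H) {g : V ≃ₗ[F] V} (hg : g ∈ H) {u : V} (h : Centre f H u) :
    Centre f H (g u) := fun z hz => by
  obtain ⟨y, rfl⟩ := g.surjective z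
  rw [hO.isom g hg] at hz
  exact hO.has_conj hg (h y hz)

theorem Over.centre_smul (hO : Over L G f H) {u : V} (h : Centre f H u) (t : F) : Centre f H (t • u) := fun z hz => by
  rw [map_smul, LinearMap.smul_apply, smul_eq_mul] at hz
  obtain ⟨a, ha, ea⟩ := h (t • z) (by rw [map_smul, smul_eq_mul, hz])
  refine ⟨a, ha, fun v => ?_⟩
  rw [ea]
  simp only [sg, map_smul, LinearMap.smul_apply, smul_eq_mul]
  match_scalars <;> ring

namespace Frame

/-- The wedge maps of the trace form are realised. -/
theorem exists_wedge (T : Frame L G f H x x') (hall : ∀ w, T.InW w → T.InM (fun z => algebraMap F L (f z w)))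
    (c g0 : L) :
    ∃ h ∈ H, ∀ z, h z = z + (Algebra.trace F L (G z x * g0) • c - Algebra.trace F L (G z x * c) • g0) • x := by
  obtain ⟨w, hw, hww⟩ := T.exists_aniso
  obtain ⟨w', hw'W, hg0⟩ : ∃ w', T.InW w' ∧ G w' w = g0 := ⟨(g0 / G w w) • w, T.inW_smul hw _, by
    rw [map_smul, LinearMap.smul_apply, smul_eq_mul, div_mul_cancel₀ g0 hww]⟩
  obtain ⟨u, hu, e⟩ := T.inM_smul (hall w hw) c
  have hux : ∀ z, G (u z) x = G z x := fun z => by
    have := T.ov.eq_zero_of_trace (u := u z - z) (v := x) fun b => ?_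
    · rwa [map_sub, LinearMap.sub_apply, sub_eq_zero] at this
    rw [T.ov.f_smul, map_sub, LinearMap.sub_apply, sub_eq_zero]
    conv_lhs => rw [← hu.fixLine b, T.ov.isom u hu.mem]
  have hkey : ∀ a : L, G (u (a • x')) w' = -(Algebra.trace F L (a * c) • g0) := by
    intro a
    refine eq_of_trace (F := F) fun b => ?_
    have hbW : T.InW (b • w') := T.inW_smul hw'W b
    have h1 := T.ov.isom u hu.mem (a • x') (b • w')
    rw [hu.apply_W hbW, map_add, ← e _ hbW, ← hu.fixLine (c * algebraMap F L (f (b • w') w)), T.ov.isom u hu.mem,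
      show f (a • x') (b • w') = 0 by rw [T.ov.sf.symm]; exact T.f_w_line' hbW a,
      T.ov.sf.symm (a • x'), T.f_line_pair, T.ov.trace, map_smul, smul_eq_mul] at h1
    rw [mul_neg, map_neg, mul_smul_comm, map_smul (Algebra.trace F L), smul_eq_mul, eq_neg_iff_add_eq_zero, ← h1]
    congr 1
    have hfb : f (b • w') w = Algebra.trace F L (b * g0) := by
      rw [T.ov.trace, map_smul, LinearMap.smul_apply, smul_eq_mul, hg0]
    rw [show c * algebraMap F L (f (b • w') w) * a = f (b • w') w • (a * c) by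
        rw [Algebra.smul_def]; ring, hfb, map_smul (Algebra.trace F L), smul_eq_mul, mul_comm]
  have hxw' : G x w' = 0 := by rw [T.ov.sG.symm]; exact hw'W.1
  set ρ : V ≃ₗ[F] V := resHom (sgE T.ov.sG T.sx hxw') with hρ
  have hρH : ρ ∈ H := T.ov.siegel_mem T.sx hxw'
  refine ⟨u * ρ * u⁻¹ * ρ⁻¹, H.mul_mem (H.mul_mem (H.mul_mem hu.mem hρH) (H.inv_mem hu.mem)) (H.inv_mem hρH),
    fun z => ?_⟩
  show u (sg G x w' (u.symm (sg G x (-w') z))) = _
  set y := u.symm (sg G x (-w') z) with hy
  have huy : u y = sg G x (-w') z := u.apply_symm_apply _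
  have hyx : G y x = G z x := by
    rw [← hux, huy]; simp [sg, T.sx, T.ov.sG.symm w' x, hxw']
  have hyw : G y w' = G z w' - G z x * G w' w' + Algebra.trace F L (G z x * c) • g0 := by
    have h1 : G (u y) w' = G z w' - G z x * G w' w' := by
      rw [huy]; simp [sg, hxw']; ring
    conv_lhs at h1 => rw [T.decomp y]
    simp only [map_add, LinearMap.add_apply, hu.fixLine, hu.apply_W (T.proj_mem y), hkey] at h1
    conv_lhs => rw [T.decomp y]
    simp only [map_add, map_smul, LinearMap.add_apply, LinearMap.smul_apply, smul_eq_mul, hxw',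
      T.ov.sG.symm x' w', hw'W.2, mul_zero, zero_add, add_zero] at h1 ⊢
    rw [← hyx] at h1 ⊢
    linear_combination h1
  rw [sg, map_sub, map_sub, map_add, hu.fixLine, hu.fixLine, huy, hyx, hyw,
    hu.apply_W (T.inW_smul hw'W _), ← e _ (T.inW_smul hw'W _)]
  have hf : c * algebraMap F L (f (G z x • w') w) = Algebra.trace F L (G z x * g0) • c := by
    rw [T.ov.trace, map_smul, LinearMap.smul_apply, smul_eq_mul, hg0, Algebra.smul_def, mul_comm]
  beta_reduce
  rw [hf]
  simp only [sg, map_neg, LinearMap.neg_apply, smul_neg, neg_smul, sub_neg_eq_add, add_smul, sub_smul]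
  have h2 := T.ov.sG.two
  match_scalars <;> field_simp <;> ring

/-- Skew maps of the trace form are realised. -/
theorem exists_skew (T : Frame L G f H x x') (hall : ∀ w, T.InW w → T.InM (fun z => algebraMap F L (f z w)))
    (N : L →ₗ[F] L) (hN : ∀ a b, Algebra.trace F L (N a * b) + Algebra.trace F L (a * N b) = 0) :
    ∃ h ∈ H, ∀ z, h z = z + N (G z x) • x := by
  classical
  let E : AddSubmonoid (L →ₗ[F] L) :=
    { carrier := {N | ∃ h ∈ H, ∀ z, h z = z + N (G z x) • x}
      zero_mem' := ⟨1, H.one_mem, fun z => by simp⟩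
      add_mem' := by
        rintro A B ⟨a, ha, ea⟩ ⟨b, hb, eb⟩
        refine ⟨a * b, H.mul_mem ha hb, fun z => ?_⟩
        rw [LinearEquiv.mul_apply, eb, ea, map_add, LinearMap.add_apply, map_smul, LinearMap.smul_apply, T.sx,
          smul_zero, add_zero, LinearMap.add_apply, add_smul]
        abel }
  let b := Module.finBasis F L
  let d := (Algebra.traceForm F L).dualBasis (traceForm_nondegenerate F L) b
  have hd : ∀ a, a = ∑ i, Algebra.trace F L (a * d i) • b i := fun a => by
    conv_lhs => rw [← b.sum_repr a]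
    refine Finset.sum_congr rfl fun i _ => ?_
    congr 1
    have h : ∀ i j, Algebra.traceForm F L (d i) (b j) = if j = i then 1 else 0 := fun i j =>
      LinearMap.BilinForm.apply_dualBasis_left _ _ i j
    have := congrArg (Algebra.traceForm F L (d i)) (b.sum_repr a)
    simp only [map_sum, map_smul, h, smul_eq_mul, mul_ite, mul_one, mul_zero, Finset.sum_ite_eq', Finset.mem_univ,
      if_true] at this
    rw [this, Algebra.traceForm_apply, mul_comm]
  have hd' : ∀ a, a = ∑ i, Algebra.trace F L (a * b i) • d i := fun a => by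
    conv_lhs => rw [← d.sum_repr a]
    exact Finset.sum_congr rfl fun i _ => by rw [LinearMap.BilinForm.dualBasis_repr_apply, Algebra.traceForm_apply]
  have h2 := two_ne (L := L) T.ov.two
  let wedge : L → L → (L →ₗ[F] L) := fun c g =>
    { toFun := fun a => Algebra.trace F L (a * g) • c - Algebra.trace F L (a * c) • g
      map_add' := fun p q => by simp only [add_mul, map_add, add_smul]; abel
      map_smul' := fun t p => by
        simp only [smul_mul_assoc, map_smul, smul_eq_mul, mul_smul, RingHom.id_apply, smul_sub] }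
  have hsum : N = ∑ i, wedge ((2 : F)⁻¹ • N (b i)) (d i) := by
    refine LinearMap.ext fun a => ?_
    have e1 : N a = ∑ i, Algebra.trace F L (a * d i) • N (b i) := by
      conv_lhs => rw [hd a]
      simp [map_sum, map_smul]
    have e2 : N a = -∑ i, Algebra.trace F L (a * N (b i)) • d i := by
      conv_lhs => rw [hd' (N a)]
      rw [← Finset.sum_neg_distrib]
      exact Finset.sum_congr rfl fun i _ => by rw [eq_neg_of_add_eq_zero_left (hN a (b i)), neg_smul]
    simp only [LinearMap.sum_apply, wedge, LinearMap.coe_mk, AddHom.coe_mk, mul_smul_comm, map_smul, smul_eq_mul,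
      mul_smul]
    simp only [smul_comm _ ((2 : F)⁻¹), ← smul_sub, ← Finset.smul_sum]
    rw [Finset.sum_sub_distrib, ← e1, sub_eq_add_neg, ← e2, ← two_smul F (N a), smul_smul,
      inv_mul_cancel₀ T.ov.two, one_smul]
  have : N ∈ E := by
    rw [hsum]
    exact E.sum_mem fun i _ => T.exists_wedge hall _ _
  exact this

/-- Every isometry of `f` fixing the orthogonal of the line is in `H`. -/
theorem mem_of_fix (T : Frame L G f H x x') (hall : ∀ w, T.InW w → T.InM (fun z => algebraMap F L (f z w)))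
    {h' : V ≃ₗ[F] V} (hiso : ∀ u v, f (h' u) (h' v) = f u v) (hfix : ∀ z, G z x = 0 → h' z = z) : h' ∈ H := by
  let N : L →ₗ[F] L := (G.flip x').restrictScalars F ∘ₗ (h'.toLinearMap - LinearMap.id) ∘ₗ
    (LinearMap.toSpanSingleton L V x').restrictScalars F
  have hN : ∀ a, h' (a • x') = a • x' + N a • x := fun a => by
    have hd := T.mem_line (d := h' (a • x') - a • x') fun y hy => ?_
    · rw [eq_add_of_sub_eq hd]
      show _ = _ + G (h' (a • x') - a • x') x' • x
      abel
    rw [map_sub, LinearMap.sub_apply, sub_eq_zero]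
    conv_lhs => rw [← hfix y hy, hiso]
  obtain ⟨h, hh, e⟩ := T.exists_skew hall N fun a b => by
    have h1 := hiso (a • x') (b • x')
    simp only [hN, map_add, LinearMap.add_apply, T.f_line, T.swap.f_line, T.f_line_pair,
      T.ov.sf.symm (a • x') (N b • x), add_zero, zero_add] at h1
    rw [mul_comm a]
    exact h1
  have : h' = h := by
    refine LinearEquiv.ext fun z => ?_
    have hy : G (z - G z x • x') x = 0 := by simp [T.pair']
    conv_lhs => rw [show z = (z - G z x • x') + G z x • x' by abel, map_add, hfix _ hy, hN, ← add_assoc,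
      sub_add_cancel]
    rw [e]
  rwa [this]

theorem inW_f_nondeg (T : Frame L G f H x x') {w : V} (hw : T.InW w) (h : ∀ a, T.InW a → f w a = 0) : w = 0 := by
  refine T.ov.sf.nondeg w fun v => ?_
  rw [T.decomp v, map_add, map_add, T.f_w_line hw, T.f_w_line' hw, h _ (T.proj_mem v), add_zero, add_zero]

theorem exists_w_pair (T : Frame L G f H x x') :
    ∃ w w', T.InW w ∧ T.InW w' ∧ f w w = 0 ∧ f w' w' = 0 ∧ f w w' = 1 := by
  have := T.ov.finV
  let φ : V →ₗ[L] L × L := (G.flip x).prod (G.flip x')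
  have hdim : 3 ≤ finrank F ((LinearMap.ker φ).restrictScalars F) := by
    have h1 := LinearMap.finrank_range_add_finrank_ker φ
    have h2 := Submodule.finrank_le (LinearMap.range φ)
    rw [finrank_prod, finrank_self] at h2
    have h3 := finrank_mul_finrank F L (LinearMap.ker φ)
    have h4 := T.ov.three_le
    have h5 := T.ov.prime.two_le
    have e : finrank F ((LinearMap.ker φ).restrictScalars F) = finrank F (LinearMap.ker φ) := rfl
    rw [e, ← h3]
    rcases h5.eq_or_lt with h6 | h6
    · have := T.ov.five_le h6.symm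
      calc 3 ≤ finrank F L * 2 := by omega
        _ ≤ _ := Nat.mul_le_mul_left _ (by omega)
    · calc 3 ≤ finrank F L * 1 := by omega
        _ ≤ _ := Nat.mul_le_mul_left _ (by omega)
  have hmem : ∀ w, w ∈ (LinearMap.ker φ).restrictScalars F ↔ T.InW w := fun w => by
    simp [φ, InW, Prod.ext_iff]
  obtain ⟨w, hwm, hw0, hww⟩ := T.ov.sf.exists_singular_mem _ hdim
  have hw := (hmem w).mp hwm
  obtain ⟨a, ha, hwa⟩ : ∃ a, T.InW a ∧ f w a ≠ 0 := by
    by_contra! hc
    exact hw0 (T.inW_f_nondeg hw hc)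
  have hw1 : (f w a)⁻¹ • a ∈ (LinearMap.ker φ).restrictScalars F := Submodule.smul_mem _ _ ((hmem a).mpr ha)
  have h1 : f w ((f w a)⁻¹ • a) = 1 := by rw [map_smul, smul_eq_mul, inv_mul_cancel₀ hwa]
  obtain ⟨e1, e2⟩ := T.ov.sf.exists_singular_partner hww h1
  exact ⟨w, _, hw, (hmem _).mp (Submodule.sub_mem _ hw1 (Submodule.smul_mem _ _ hwm)), hww, e1, e2⟩

/-- Siegel maps along the line with axes orthogonal to it. -/
theorem has_line (T : Frame L G f H x x') (hall : ∀ w, T.InW w → T.InM (fun z => algebraMap F L (f z w)))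
    (c : L) {z : V} (hz : G z x = 0) : Has f H (c • x) z := by
  have hfz : ∀ a, G a x = 0 → f (c • x) a = 0 := fun a ha => by
    rw [T.ov.trace, map_smul, LinearMap.smul_apply, T.ov.sG.symm, ha, smul_zero, map_zero]
  have hz' : G (T.proj z) x = 0 := (T.proj_mem z).1
  have key : z = G z x' • x + T.proj z := by
    conv_lhs => rw [T.decomp z, hz, zero_smul, add_zero]
  rw [key]
  refine T.ov.has_add (T.f_line c c) (T.f_line _ _) (hfz _ hz') ?_ ?_
  · refine ⟨sgE T.ov.sf (T.f_line c c) (T.f_line c (G z x')), T.mem_of_fix hall (sg_form T.ov.sf (T.f_line c c) (T.f_line _ _))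
      fun y hy => ?_, fun v => rfl⟩
    have h1 : ∀ a : L, f y (a • x) = 0 := fun a => by rw [T.ov.trace, map_smul, hy, smul_zero, map_zero]
    rw [sgE_apply]
    simp [sg, h1]
  · set w := T.proj z
    have hwW : T.InW w := T.proj_mem z
    obtain ⟨u, hu, e⟩ := T.inM_neg (T.inM_smul (hall w hwW) c)
    set g := sgE T.ov.sf (T.f_line c c) (hfz w hz') with hg
    refine ⟨g, ?_, fun v => rfl⟩
    have : u⁻¹ * g ∈ H := by
      refine T.mem_of_fix hall (fun a b => ?_) fun y hy => ?_
      · rw [LinearEquiv.mul_apply, LinearEquiv.mul_apply, T.ov.isom _ (H.inv_mem hu.mem), hg, sgE_apply, sgE_apply,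
          sg_form T.ov.sf (T.f_line c c) (hfz w hz')]
      show u.symm (g y) = y
      have h1 : f y (c • x) = 0 := by rw [T.ov.sf.symm]; exact hfz y hy
      rw [LinearEquiv.symm_apply_eq, hg, sgE_apply, sg, h1]
      conv_rhs => rw [T.decomp y, hy, zero_smul, add_zero, map_add, hu.fixLine, hu.apply_W (T.proj_mem y),
        ← e _ (T.proj_mem y), ← add_assoc]
      have h2 : f (T.proj y) w = f y w := by
        conv_rhs => rw [T.decomp y, hy, zero_smul, add_zero, map_add, LinearMap.add_apply, T.ov.sf.symm _ w,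
          T.f_w_line hwW, zero_add]
      beta_reduce
      rw [h2, show G y x' • x + T.proj y = y by conv_rhs => rw [T.decomp y, hy, zero_smul, add_zero]]
      simp [neg_smul, sub_eq_add_neg, mul_smul, algebraMap_smul, mul_comm c]
    simpa [mul_inv_cancel_left] using H.mul_mem hu.mem this

theorem has_line' (T : Frame L G f H x x') (hall : ∀ w, T.InW w → T.InM (fun z => algebraMap F L (f z w)))
    (c : L) {z : V} (hz : G z x' = 0) : Has f H (c • x') z := by
  obtain ⟨n, l, hn, hl, hlin, hnx, hnx', -, hnn, hG⟩ := T.exists_flip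
  have h := T.ov.has_conj hn (T.has_line hall (-(c * l⁻¹)) (z := n z) ?_)
  · rwa [hnn, hlin, hnx, smul_smul, neg_mul_neg, inv_mul_cancel_right₀ hl] at h
  have h1 : G (n z) (n x') = 0 := by rw [hG, hz]
  rw [hnx', map_smul, smul_eq_mul, mul_eq_zero] at h1
  exact h1.resolve_left (neg_ne_zero.mpr (inv_ne_zero hl))

theorem centre_line (T : Frame L G f H x x') (hall : ∀ w, T.InW w → T.InM (fun z => algebraMap F L (f z w))) (c : L) :
    Centre f H (c • x) ∧ Centre f H (c • x') := by
  obtain ⟨w, w', hw, hw', hww, hww', hwp⟩ := T.exists_w_pair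
  have hwp' : f w' w = 1 := by rw [T.ov.sf.symm]; exact hwp
  constructor
  · intro z hz
    have hz2 : f (c • x) (G z x • x') = 0 := by
      conv_lhs at hz => rw [T.decomp z, map_add, map_add, T.f_line, T.ov.sf.symm (c • x) (T.proj z),
        T.f_w_line (T.proj_mem z), zero_add, zero_add]
      exact hz
    have hz1 : f (c • x) (G z x' • x + T.proj z) = 0 := by
      rw [map_add, T.f_line, T.ov.sf.symm, T.f_w_line (T.proj_mem z), zero_add]
    rw [T.decomp z]
    refine T.ov.has_add (T.f_line c c) hz1 hz2 (T.has_line hall c (by simp [T.sx, (T.proj_mem z).1])) ?_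
    obtain ⟨a, ha, ea⟩ := T.has_line' hall (G z x) hw.2
    have h := T.ov.has_conj ha (T.has_line hall c hw'.1)
    have e1 : a (c • x) = c • x := by
      rw [ea]; simp [sg, hww, hz2, T.ov.sf.symm (c • x) w, T.f_w_line hw]
    have e2 : a w' = w' - G z x • x' := by
      rw [ea]; simp [sg, hww, hwp', T.f_w_line' hw']
    rw [e1, e2] at h
    have f1 : f (c • x) w' = 0 := by rw [T.ov.sf.symm]; exact T.f_w_line hw' c
    have f2 : f (c • x) (w' - G z x • x') = 0 := by rw [map_sub, f1, hz2, sub_zero]
    have h3 := T.ov.has_add (T.f_line c c) f1 (by rw [map_neg, f2, neg_zero]) (T.has_line hall c hw'.1)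
      (T.ov.has_neg (T.f_line c c) f2 h)
    rwa [neg_sub, add_sub_cancel] at h3
  · intro z hz
    have hz2 : f (c • x') (G z x' • x) = 0 := by
      conv_lhs at hz => rw [T.decomp z, map_add, map_add, T.swap.f_line, T.ov.sf.symm (c • x') (T.proj z),
        T.f_w_line' (T.proj_mem z), add_zero, add_zero]
      exact hz
    have hz1 : f (c • x') (T.proj z + G z x • x') = 0 := by
      rw [map_add, T.swap.f_line, T.ov.sf.symm, T.f_w_line' (T.proj_mem z), zero_add]
    rw [T.decomp z, add_assoc]
    refine T.ov.has_add (T.swap.f_line c c) hz2 hz1 ?_ (T.has_line' hall c (by simp [T.sx', (T.proj_mem z).2]))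
    obtain ⟨a, ha, ea⟩ := T.has_line hall (G z x') hw.1
    have h := T.ov.has_conj ha (T.has_line' hall c hw'.2)
    have e1 : a (c • x') = c • x' := by
      rw [ea]; simp [sg, hww, hz2, T.ov.sf.symm (c • x') w, T.f_w_line' hw]
    have e2 : a w' = w' - G z x' • x := by
      rw [ea]; simp [sg, hww, hwp', T.f_w_line hw']
    rw [e1, e2] at h
    have f1 : f (c • x') w' = 0 := by rw [T.ov.sf.symm]; exact T.f_w_line' hw' c
    have f2 : f (c • x') (w' - G z x' • x) = 0 := by rw [map_sub, f1, hz2, sub_zero]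
    have h3 := T.ov.has_add (T.swap.f_line c c) f1 (by rw [map_neg, f2, neg_zero]) (T.has_line' hall c hw'.2)
      (T.ov.has_neg (T.swap.f_line c c) f2 h)
    rwa [neg_sub, add_sub_cancel] at h3

theorem centre_off (T : Frame L G f H x x') (hall : ∀ w, T.InW w → T.InM (fun z => algebraMap F L (f z w)))
    {u : V} (hu : f u u = 0) (h : G u x' ≠ 0) : Centre f H u := by
  obtain ⟨d0, hd0⟩ : ∃ d0 : L, f u (d0 • x') ≠ 0 := by
    by_contra! hc
    exact h (T.ov.eq_zero_of_trace fun c => by rw [T.ov.f_smul]; exact hc c)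
  set d := (f u (d0 • x'))⁻¹ • d0 with hd
  have huq : f u (d • x') = 1 := by
    rw [hd, smul_assoc, map_smul, smul_eq_mul, inv_mul_cancel₀ hd0]
  obtain ⟨c, hc⟩ : ∃ c : L, Algebra.trace F L (c * d) = 1 := by
    by_contra! hc
    have hd' : d ≠ 0 := fun e => by rw [e, zero_smul, map_zero] at huq; exact zero_ne_one huq
    obtain ⟨a, ha⟩ : ∃ a : L, Algebra.trace F L (a * d) ≠ 0 := by
      by_contra! hc'
      exact hd' (eq_of_trace (F := F) fun e => by rw [hc' e, mul_zero, map_zero])
    exact hc ((Algebra.trace F L (a * d))⁻¹ • a) (by rw [smul_mul_assoc, map_smul, smul_eq_mul, inv_mul_cancel₀ ha])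
  set p := c • x
  set q := d • x'
  have hpq : f p q = 1 := by rw [T.f_line_pair, hc]
  have hpp : f p p = 0 := T.f_line c c
  have hqq : f q q = 0 := T.swap.f_line d d
  have hqp : f q p = 1 := by rw [T.ov.sf.symm]; exact hpq
  set s := f u p
  set z := u - p - s • q with hz
  have hqz : f q z = 0 := by
    simp only [hz, map_sub, map_smul, T.ov.sf.symm q u, huq, hqp, hqq, smul_eq_mul]; ring
  obtain ⟨a, ha, ea⟩ := (T.centre_line hall d).2 z hqz
  have h1 := T.ov.centre_conj ha (T.centre_line hall c).1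
  have e : a p = u := by
    rw [ea]
    have e1 : f p z = 0 := by
      simp only [hz, map_sub, map_smul, T.ov.sf.symm p u, hpp, hpq, smul_eq_mul]; ring
    have e2 : f z z = -2 * s := by
      simp only [hz, map_sub, map_smul, LinearMap.sub_apply, LinearMap.smul_apply, T.ov.sf.symm p u,
        T.ov.sf.symm q u, hu, huq, hpp, hpq, hqq, hqp, smul_eq_mul]
      ring
    have e3 : f z z / 2 = -s := by
      have h2 := T.ov.two
      rw [e2]; field_simp
    rw [sg, hpq, e1, e3, hz]
    simp only [one_smul, zero_smul, sub_zero, mul_one, neg_smul]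
    abel
  rwa [e] at h1

/-- All coefficient maps give all Siegel maps. -/
theorem full_of_all (T : Frame L G f H x x') (hall : ∀ w, T.InW w → T.InM (fun z => algebraMap F L (f z w))) :
    Full f H := by
  intro u z hu hz
  rcases eq_or_ne u 0 with rfl | hu0
  · exact ⟨1, H.one_mem, fun v => by simp [sg]⟩
  suffices hcu : Centre f H u from hcu z hz
  by_cases h' : G u x' = 0
  · by_cases h : G u x = 0
    · have hW : T.InW u := ⟨h, h'⟩
      obtain ⟨y, hy, hy1⟩ : ∃ y, T.InW y ∧ f u y ≠ 0 := by
        by_contra! hc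
        exact hu0 (T.inW_f_nondeg hW hc)
      set y1 := (f u y)⁻¹ • y
      have hy1W : T.InW y1 := ⟨by simp [y1, LinearMap.map_smul_of_tower, hy.1], by simp [y1, LinearMap.map_smul_of_tower, hy.2]⟩
      have huy : f u y1 = 1 := by simp [y1, hy1]
      obtain ⟨c, hc⟩ : ∃ c : L, c ≠ 0 := ⟨1, one_ne_zero⟩
      have hxu : f (c • x) u = 0 := by rw [T.ov.sf.symm]; exact T.f_w_line hW c
      have hv : f (u + c • x) (u + c • x) = 0 := by
        simp only [map_add, LinearMap.add_apply, hu, hxu, T.f_w_line hW, T.f_line, add_zero]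
      have h1 := T.centre_off hall hv (by simp [h', T.pair, hc])
      obtain ⟨a, ha, ea⟩ := T.has_line hall c hy1W.1
      have e : a (u + c • x) = u := by
        rw [ea]
        have f1 : f (c • x) y1 = 0 := by rw [T.ov.sf.symm]; exact T.f_w_line hy1W c
        simp [sg, T.f_w_line hW, T.f_line, huy, f1]
      have := T.ov.centre_conj ha h1
      rwa [e] at this
    · obtain ⟨n, l, hn, hl, hlin, hnx, hnx', -, hnn, hG⟩ := T.exists_flip
      have h1 : G (n u) x' ≠ 0 := by
        rw [show x' = (-l⁻¹) • n x by rw [hnx, smul_smul, neg_mul_neg, inv_mul_cancel₀ hl, one_smul], map_smul,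
          hG, smul_eq_mul]
        exact mul_ne_zero (neg_ne_zero.mpr (inv_ne_zero hl)) h
      have h2 : f (n u) (n u) = 0 := by rw [T.ov.isom n hn, hu]
      have := T.ov.centre_conj hn (T.centre_off hall h2 h1)
      rwa [hnn] at this
  · exact T.centre_off hall hu h'

end Frame

end Cfsg.Lib.Classical.ExtFieldOrth
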